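import Cfsg.Agent.PGroups.Bicyclic.Meta
import Cfsg.Agent.PGroups.HomocyclicRankTwo

/-!
Bicyclic non-metacyclic 2-groups with non-cyclic derived subgroup: the four-group `Ω₁(S')`, elements inverting
`S'`, and the conjugacy class of such an element.
-/

set_option autoImplicit false
set_option linter.unusedSectionVars false
set_option linter.style.haveILetI false

namespace Cfsg.Lib.Bicyclic

open Subgroup
open scoped commutatorElement

universe u

variable {S : Type u} [Group S] [Finite S]

/-- a normal four-group of a 2-group -/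
theorem four_normal (hS : IsPGroup 2 S) (N : Subgroup S) [N.Normal] (hN : Nat.card N = 4)
    (hsq : ∀ n ∈ N, n ^ 2 = 1) :
    ∃ z0 ∈ N, z0 ≠ 1 ∧ z0 ∈ center S ∧ (∀ g : S, ∀ n ∈ N, g * n * g⁻¹ = n ∨ g * n * g⁻¹ = n * z0) ∧
      ∀ g : S, ∀ n ∈ N, Commute (g ^ 2) n := by
  haveI : Fact (Nat.Prime 2) := ⟨Nat.prime_two⟩
  obtain ⟨z0, hzN, hzZ, hz2⟩ := PGroups.exists_mem_center_of_normal_ne_bot hS (N := N) (fun h => by
    rw [h, Subgroup.card_bot] at hN; omega)
  have hz1 : z0 ≠ 1 := fun h => by rw [h, orderOf_one] at hz2; omega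
  have hzc : ∀ g : S, g * z0 * g⁻¹ = z0 := fun g => by
    rw [mem_center_iff.1 hzZ g, mul_inv_cancel_right]
  have hcz : ∀ {n : S}, n ∈ N → n ≠ 1 → n ≠ z0 → ∀ m ∈ N, m = 1 ∨ m = z0 ∨ m = n ∨ m = n * z0 := by
    intro n hn h1 h2 m hm
    classical
    by_contra hno
    push Not at hno
    obtain ⟨m1, m2, m3, m4⟩ := hno
    have hnz : n * z0 ≠ 1 := fun h => h2 (by
      rw [eq_inv_of_mul_eq_one_left h]
      exact inv_eq_of_mul_eq_one_right (by rw [← sq]; exact hsq z0 hzN))
    have key : ({⟨1, one_mem N⟩, ⟨z0, hzN⟩, ⟨n, hn⟩, ⟨n * z0, mul_mem hn hzN⟩, ⟨m, hm⟩} : Finset N).card = 5 := by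
      repeat rw [Finset.card_insert_of_notMem]
      · simp
      all_goals simp only [Finset.mem_insert, Finset.mem_singleton, Subtype.mk.injEq, not_or]
      all_goals first
        | exact m4.symm
        | exact ⟨fun h => hz1 (mul_eq_left.1 h.symm), m3.symm⟩
        | exact ⟨Ne.symm h2, fun h => h1 (mul_eq_right.1 h.symm), m2.symm⟩
        | exact ⟨Ne.symm hz1, Ne.symm h1, Ne.symm hnz, m1.symm⟩
    haveI := Fintype.ofFinite N
    have := Finset.card_le_univ ({⟨1, one_mem N⟩, ⟨z0, hzN⟩, ⟨n, hn⟩, ⟨n * z0, mul_mem hn hzN⟩, ⟨m, hm⟩} : Finset N)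
    rw [key, ← Nat.card_eq_fintype_card, hN] at this
    omega
  have hconj : ∀ g : S, ∀ n ∈ N, g * n * g⁻¹ = n ∨ g * n * g⁻¹ = n * z0 := by
    intro g n hn
    by_cases h1 : n = 1
    · left; rw [h1]; group
    by_cases h2 : n = z0
    · left; rw [h2, hzc]
    rcases hcz hn h1 h2 (g * n * g⁻¹) (‹N.Normal›.conj_mem n hn g) with h | h | h | h
    · exact absurd (conj_eq_one_iff.1 h) h1
    · refine absurd ?_ h2
      have := hzc g⁻¹
      rw [← h] at this
      rw [h] at this
      calc n = g⁻¹ * (g * n * g⁻¹) * g⁻¹⁻¹ := by group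
        _ = z0 := by rw [h, this]
    · exact Or.inl h
    · exact Or.inr h
  refine ⟨z0, hzN, hz1, hzZ, hconj, fun g n hn => ?_⟩
  refine mul_inv_eq_iff_eq_mul.1 ?_
  have e : g ^ 2 * n * (g ^ 2)⁻¹ = g * (g * n * g⁻¹) * g⁻¹ := by rw [sq]; group
  rcases hconj g n hn with h | h
  · rw [e, h, h]
  · rw [e, h, show g * (n * z0) * g⁻¹ = (g * n * g⁻¹) * (g * z0 * g⁻¹) by group, h, hzc, mul_assoc, ← sq,
      hsq z0 hzN, mul_one]

/-- The standing hypotheses: a bicyclic non-metacyclic 2-group. -/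
structure Hyp (S : Type u) [Group S] where
  x : S
  y : S
  gen : Gen x y
  two : IsPGroup 2 S
  nm : ¬ Cfsg.IsMetacyclic S

namespace Hyp

variable (H : Hyp S)

include H

theorem not_cyclic : ¬ IsCyclic S := fun h => H.nm (meta_of_cyclic h)

theorem sq_mem (g : S) : g ^ 2 ∈ frattini S :=
  haveI : Fact (Nat.Prime 2) := ⟨Nat.prime_two⟩
  PGroups.pow_mem_frattini H.two g

theorem nogen {g k : S} (hg : g ∈ frattini S) (h : closure ({g, k} : Set S) = ⊤) : False := by
  have h1 : zpowers k ⊔ frattini S = ⊤ := top_le_iff.1 (h ▸ (closure_le _).2 (by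
    rintro t (rfl | rfl)
    · exact mem_sup_right hg
    · exact mem_sup_left (mem_zpowers _)))
  have h2 := frattini_nongenerating h1
  exact H.not_cyclic ⟨⟨k, fun g => mem_zpowers_iff.1 (h2 ▸ mem_top g)⟩⟩

theorem quot_sq (g : S) : (g : S ⧸ frattini S) ^ 2 = 1 := by
  rw [← QuotientGroup.mk_pow]; exact (QuotientGroup.eq_one_iff _).2 (H.sq_mem g)

theorem quot_zpow (g : S) (i : ℤ) :
    (g : S ⧸ frattini S) ^ i = 1 ∧ Even i ∨ (g : S ⧸ frattini S) ^ i = g ∧ Odd i := by
  rcases Int.even_or_odd' i with ⟨w, rfl | rfl⟩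
  · exact Or.inl ⟨by rw [zpow_mul, zpow_ofNat, H.quot_sq, one_zpow], even_two_mul w⟩
  · exact Or.inr ⟨by rw [zpow_add, zpow_mul, zpow_ofNat, H.quot_sq, one_zpow, one_mul, zpow_one],
      odd_two_mul_add_one w⟩

theorem class_cases (g : S) : (g : S ⧸ frattini S) = 1 ∨ (g : S ⧸ frattini S) = H.x ∨
    (g : S ⧸ frattini S) = H.y ∨ (g : S ⧸ frattini S) = H.x * H.y := by
  obtain ⟨i, j, rfl⟩ := H.gen g
  rw [QuotientGroup.mk_mul, QuotientGroup.mk_zpow, QuotientGroup.mk_zpow]
  rcases H.quot_zpow H.x i with ⟨h, -⟩ | ⟨h, -⟩ <;> rcases H.quot_zpow H.y j with ⟨h', -⟩ | ⟨h', -⟩ <;>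
    rw [h, h'] <;> simp

theorem card_quot : Nat.card (S ⧸ frattini S) = 4 := by
  haveI : Fact (Nat.Prime 2) := ⟨Nat.prime_two⟩
  obtain ⟨n, hn⟩ := H.two.index (frattini S)
  rw [← Subgroup.index_eq_card, hn]
  have hle : Nat.card (S ⧸ frattini S) ≤ 4 := by
    classical
    refine (Nat.card_le_card_of_surjective
      (fun u : ({1, (H.x : S ⧸ frattini S), (H.y : S ⧸ frattini S), (H.x : S ⧸ frattini S) * H.y} :
        Finset (S ⧸ frattini S)) => (u : S ⧸ frattini S)) (fun q => ?_)).trans ?_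
    · obtain ⟨g, rfl⟩ := QuotientGroup.mk_surjective q
      exact ⟨⟨(g : S ⧸ frattini S), by simpa using H.class_cases g⟩, rfl⟩
    · rw [Nat.card_eq_finsetCard]
      exact Finset.card_le_four
  rw [← Subgroup.index_eq_card, hn] at hle
  have hge : 1 < n := by
    by_contra hlt
    refine H.not_cyclic ?_
    haveI : IsCyclic (S ⧸ frattini S) := by
      obtain rfl | rfl : n = 0 ∨ n = 1 := by omega
      · haveI : Subsingleton (S ⧸ frattini S) :=
          (Nat.card_eq_one_iff_unique.1 (by rw [← Subgroup.index_eq_card, hn, pow_zero])).1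
        infer_instance
      · exact isCyclic_of_prime_card (p := 2) (by rw [← Subgroup.index_eq_card, hn, pow_one])
    exact PGroups.isCyclic_of_isCyclic_quotient_frattini
  rcases n with - | - | - | n
  · omega
  · omega
  · rfl
  · rw [pow_succ, pow_succ, pow_succ] at hle
    have := Nat.two_pow_pos n
    omega

theorem gen_of {a b : S} (ha : a ∉ frattini S) (hb : b ∉ frattini S) (hab : a * b ∉ frattini S) :
    closure ({a, b} : Set S) = ⊤ := by
  refine frattini_nongenerating (top_le_iff.1 fun g _ => ?_)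
  classical
  have ne : ∀ {t : S}, t ∉ frattini S → (t : S ⧸ frattini S) ≠ 1 := fun ht h => ht ((QuotientGroup.eq_one_iff _).1 h)
  have hne : (a : S ⧸ frattini S) ≠ b := fun h => ne hab (by rw [QuotientGroup.mk_mul, h, ← sq, H.quot_sq])
  set T : Finset (S ⧸ frattini S) := {1, (a : S ⧸ frattini S), (b : S ⧸ frattini S), ((a * b : S) : S ⧸ frattini S)}
  have hT : T.card = 4 := by
    simp only [T]
    rw [Finset.card_insert_of_notMem, Finset.card_insert_of_notMem, Finset.card_insert_of_notMem,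
      Finset.card_singleton]
    · simp only [Finset.mem_singleton, QuotientGroup.mk_mul]
      intro h
      exact ne ha (mul_eq_right.1 h.symm)
    · simp only [Finset.mem_insert, Finset.mem_singleton, QuotientGroup.mk_mul, not_or]
      exact ⟨hne, fun h => ne hb (mul_eq_left.1 h.symm)⟩
    · simp only [Finset.mem_insert, Finset.mem_singleton, not_or]
      exact ⟨(ne ha).symm, (ne hb).symm, (ne hab).symm⟩
  haveI := Fintype.ofFinite (S ⧸ frattini S)
  have hTu : T = Finset.univ := Finset.eq_univ_of_card T (by rw [hT, ← Nat.card_eq_fintype_card, H.card_quot])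
  have hgT : (g : S ⧸ frattini S) ∈ T := hTu ▸ Finset.mem_univ _
  simp only [T, Finset.mem_insert, Finset.mem_singleton] at hgT
  have key : ∀ t ∈ closure ({a, b} : Set S), (g : S ⧸ frattini S) = (t : S ⧸ frattini S) →
      g ∈ closure ({a, b} : Set S) ⊔ frattini S := by
    intro t ht h
    have := mul_mem_sup ht (QuotientGroup.eq.1 h.symm)
    simpa using this
  rcases hgT with h | h | h | h
  · exact key 1 (one_mem _) (by rw [h, QuotientGroup.mk_one])
  · exact key a (subset_closure (by simp)) h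
  · exact key b (subset_closure (by simp)) h
  · exact key (a * b) (mul_mem (subset_closure (by simp)) (subset_closure (by simp))) h

theorem exists_partner {a : S} (ha : a ∉ frattini S) : ∃ g : S, closure ({g, a} : Set S) = ⊤ := by
  by_contra! hno
  have key : ∀ g : S, g ∉ frattini S → g * a ∈ frattini S := fun g hg => by
    by_contra hga; exact hno g (H.gen_of hg ha hga)
  have hcl := H.gen.closure_eq
  have hx : H.x ∉ frattini S := fun h => H.nogen h hcl
  have hy : H.y ∉ frattini S := fun h => H.nogen h (Set.pair_comm H.x H.y ▸ hcl)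
  have hxy : H.x * H.y⁻¹ ∈ frattini S := by
    have := mul_mem (key _ hx) (inv_mem (key _ hy))
    simpa [mul_assoc] using this
  refine H.nogen hxy (k := H.y) (H.gen.top_le ?_ (subset_closure (by simp)))
  simpa using mul_mem (subset_closure (Set.mem_insert (H.x * H.y⁻¹) {H.y}))
    (subset_closure (by simp : H.y ∈ ({H.x * H.y⁻¹, H.y} : Set S)))

theorem frattini_le_closure : frattini S ≤ closure (Set.range fun g : S => g ^ 2) := by
  intro g hg
  obtain ⟨i, j, rfl⟩ := H.gen g
  have hcl := H.gen.closure_eq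
  have e : Even i ∧ Even j := by
    have h1 : (H.x : S ⧸ frattini S) ^ i * (H.y : S ⧸ frattini S) ^ j = 1 := by
      rw [← QuotientGroup.mk_zpow, ← QuotientGroup.mk_zpow, ← QuotientGroup.mk_mul]
      exact (QuotientGroup.eq_one_iff _).2 hg
    rcases H.quot_zpow H.x i with ⟨hi, hi'⟩ | ⟨hi, hi'⟩ <;> rcases H.quot_zpow H.y j with ⟨hj, hj'⟩ | ⟨hj, hj'⟩ <;>
      rw [hi, hj] at h1
    · exact ⟨hi', hj'⟩
    · rw [one_mul] at h1
      exact (H.nogen ((QuotientGroup.eq_one_iff _).1 h1) (Set.pair_comm H.x H.y ▸ hcl)).elim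
    · rw [mul_one] at h1
      exact (H.nogen ((QuotientGroup.eq_one_iff _).1 h1) hcl).elim
    · rw [← QuotientGroup.mk_mul] at h1
      refine (H.nogen ((QuotientGroup.eq_one_iff _).1 h1) (k := H.y)
        (H.gen.top_le ?_ (subset_closure (by simp)))).elim
      simpa using mul_mem (subset_closure (Set.mem_insert (H.x * H.y) {H.y}))
        (inv_mem (subset_closure (by simp : H.y ∈ ({H.x * H.y, H.y} : Set S))))
  obtain ⟨⟨i', rfl⟩, ⟨j', rfl⟩⟩ := e
  rw [zpow_add, zpow_add, ← sq, ← sq]
  exact mul_mem (subset_closure ⟨_, rfl⟩) (subset_closure ⟨_, rfl⟩)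

theorem commutator_le_phi : commutator S ≤ frattini S :=
  haveI : Fact (Nat.Prime 2) := ⟨Nat.prime_two⟩
  PGroups.commutator_le_frattini H.two

/-- the involutions of `S'` -/
def omega : Subgroup S where
  carrier := {s | s ∈ commutator S ∧ s ^ 2 = 1}
  one_mem' := ⟨one_mem _, one_pow 2⟩
  mul_mem' := fun {a b} ha hb => ⟨mul_mem ha.1 hb.1, by
    rw [(show Commute a b from H.gen.commutator_comm a ha.1 b hb.1).mul_pow, ha.2, hb.2, one_mul]⟩
  inv_mem' := fun {a} ha => ⟨inv_mem ha.1, by rw [inv_pow, ha.2, inv_one]⟩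

theorem mem_omega {s : S} : s ∈ H.omega ↔ s ∈ commutator S ∧ s ^ 2 = 1 := Iff.rfl

theorem omega_normal : H.omega.Normal :=
  ⟨fun n hn g => ⟨(inferInstance : (commutator S).Normal).conj_mem n hn.1 g, by
    rw [conj_pow, hn.2, mul_one, mul_inv_cancel]⟩⟩

theorem card_omega (hnc : ¬ IsCyclic (commutator S)) : Nat.card H.omega = 4 := by
  haveI : Fact (Nat.Prime 2) := ⟨Nat.prime_two⟩
  have hle : Nat.card H.omega ≤ 4 :=
    H.gen.card_le_four H.two (fun s hs => H.commutator_le_phi hs.1) fun g hg => hg.2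
  letI : CommGroup (commutator S) :=
    { (inferInstance : Group (commutator S)) with
      mul_comm := fun a b => Subtype.ext (H.gen.commutator_comm a.1 a.2 b.1 b.2) }
  have h2 : IsPGroup 2 (commutator S) := H.two.to_subgroup _
  have hk : Nat.card (powMonoidHom 2 : commutator S →* commutator S).ker = Nat.card H.omega :=
    Nat.card_congr {
      toFun := fun s => ⟨s.1.1, s.1.2, congrArg Subtype.val (MonoidHom.mem_ker.1 s.2)⟩
      invFun := fun s => ⟨⟨s.1, s.2.1⟩, MonoidHom.mem_ker.2 (Subtype.ext s.2.2)⟩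
      left_inv := fun s => rfl
      right_inv := fun s => rfl }
  rw [PGroups.card_torsion h2] at hk
  obtain ⟨n, hn⟩ := h2.index (frattini (commutator S))
  rw [← hk, hn] at hle ⊢
  rcases n with - | - | - | n
  · exfalso
    haveI : IsCyclic (↥(commutator S) ⧸ frattini (commutator S)) := by
      haveI : Subsingleton (↥(commutator S) ⧸ frattini (commutator S)) :=
        (Nat.card_eq_one_iff_unique.1 (by rw [← Subgroup.index_eq_card, hn, pow_zero])).1
      infer_instance
    exact hnc PGroups.isCyclic_of_isCyclic_quotient_frattini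
  · exfalso
    haveI : IsCyclic (↥(commutator S) ⧸ frattini (commutator S)) :=
      isCyclic_of_prime_card (p := 2) (by rw [← Subgroup.index_eq_card, hn, pow_one])
    exact hnc PGroups.isCyclic_of_isCyclic_quotient_frattini
  · rfl
  · rw [pow_succ, pow_succ, pow_succ] at hle
    have := Nat.two_pow_pos n
    omega

variable (hnc : ¬ IsCyclic (commutator S))

include hnc

theorem omega_data : ∃ z0 ∈ H.omega, z0 ≠ 1 ∧ z0 ∈ center S ∧
    (∀ g : S, ∀ n ∈ H.omega, g * n * g⁻¹ = n ∨ g * n * g⁻¹ = n * z0) ∧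
      ∀ g : S, ∀ n ∈ H.omega, Commute (g ^ 2) n :=
  haveI := H.omega_normal
  four_normal H.two H.omega (H.card_omega hnc) fun _ hn => hn.2

theorem phi_comm_omega {g : S} (hg : g ∈ frattini S) {w : S} (hw : w ∈ H.omega) : Commute g w := by
  obtain ⟨z0, -, -, -, -, hsq⟩ := H.omega_data hnc
  have : frattini S ≤ centralizer ({w} : Set S) := H.frattini_le_closure.trans ((closure_le _).2 (by
    rintro _ ⟨k, rfl⟩
    exact mem_centralizer_singleton_iff.2 (hsq k w hw)))
  exact mem_centralizer_singleton_iff.1 (this hg)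

/-- there is no `E8` in the Frattini subgroup -/
theorem mem_omega_of {g : S} (hg : g ∈ frattini S) (hg2 : g ^ 2 = 1) : g ∈ H.omega := by
  haveI := H.omega_normal
  have hle : H.omega ⊔ zpowers g ≤ frattini S :=
    sup_le (fun s hs => H.commutator_le_phi hs.1) (zpowers_le.2 hg)
  have hsq : ∀ t ∈ H.omega ⊔ zpowers g, t ^ 2 = 1 := by
    intro t ht
    rw [← SetLike.mem_coe, normal_mul] at ht
    obtain ⟨w, hw, k, hk, rfl⟩ := Set.mem_mul.1 ht
    obtain ⟨i, rfl⟩ := mem_zpowers_iff.1 hk
    rw [((H.phi_comm_omega hnc hg hw).zpow_left i).symm.mul_pow, hw.2, one_mul, ← zpow_natCast, ← zpow_mul,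
      mul_comm, zpow_mul, zpow_natCast, hg2, one_zpow]
  have h4 := H.gen.card_le_four H.two hle hsq
  have heq : H.omega = H.omega ⊔ zpowers g :=
    Subgroup.eq_of_le_of_card_ge le_sup_left (by rw [H.card_omega hnc]; exact h4)
  rw [heq]
  exact mem_sup_right (mem_zpowers g)

omit hnc in
/-- an element outside `Φ` with central square inverts `S'` -/
theorem inverts {a : S} (ha : a ∉ frattini S) (hc : a ^ 2 ∈ center S) :
    ∀ s ∈ commutator S, a * s * a⁻¹ = s⁻¹ := by
  obtain ⟨x, hgen⟩ := H.exists_partner ha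
  have hcomm := H.gen.commutator_comm
  let I : Subgroup S :=
    { carrier := {s | s ∈ commutator S ∧ a * s * a⁻¹ = s⁻¹}
      one_mem' := ⟨one_mem _, by group⟩
      mul_mem' := fun {s t} hs ht => ⟨mul_mem hs.1 ht.1, by
        rw [show a * (s * t) * a⁻¹ = (a * s * a⁻¹) * (a * t * a⁻¹) by group, hs.2, ht.2, ← mul_inv_rev,
          hcomm t ht.1 s hs.1]⟩
      inv_mem' := fun {s} hs => ⟨inv_mem hs.1, by
        rw [show a * s⁻¹ * a⁻¹ = (a * s * a⁻¹)⁻¹ by group, hs.2]⟩ }
  have hIn : I.Normal := ⟨fun s hs g => ⟨(inferInstance : (commutator S).Normal).conj_mem s hs.1 g, by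
    have hk : g⁻¹ * a * g * a⁻¹ ∈ commutator S := by
      rw [_root_.commutator_def]
      have := commutator_mem_commutator (mem_top g⁻¹) (mem_top a)
      rwa [commutatorElement_def, inv_inv] at this
    calc a * (g * s * g⁻¹) * a⁻¹
        = g * ((g⁻¹ * a * g * a⁻¹) * (a * s * a⁻¹) * (g⁻¹ * a * g * a⁻¹)⁻¹) * g⁻¹ := by group
      _ = g * s⁻¹ * g⁻¹ := by rw [hs.2, hcomm _ hk _ (inv_mem hs.1), mul_inv_cancel_right]
      _ = (g * s * g⁻¹)⁻¹ := by group⟩⟩
  have hh : ⁅x, a⁆ ∈ I := by
    refine ⟨by rw [_root_.commutator_def]; exact commutator_mem_commutator (mem_top x) (mem_top a), ?_⟩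
    have h2 : x * a ^ 2 * x⁻¹ = a ^ 2 := by rw [mem_center_iff.1 hc x, mul_inv_cancel_right]
    calc a * ⁅x, a⁆ * a⁻¹ = ⁅x, a⁆⁻¹ * ((x * a ^ 2 * x⁻¹) * (a ^ 2)⁻¹) := by
          rw [commutatorElement_def]; group
      _ = ⁅x, a⁆⁻¹ := by rw [h2, mul_inv_cancel, mul_one]
  intro s hs
  haveI := hIn
  have hle : commutator S ≤ I := by
    have hxa : Commute (x : S ⧸ I) (a : S ⧸ I) := by
      refine commutatorElement_eq_one_iff_mul_comm.1 ?_
      rw [← QuotientGroup.mk'_apply, ← QuotientGroup.mk'_apply, ← map_commutatorElement,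
        QuotientGroup.mk'_apply, QuotientGroup.eq_one_iff]
      exact hh
    refine Normal.quotient_commutative_iff_commutator_le.mp ⟨⟨fun p q => ?_⟩⟩
    have hQ : closure (QuotientGroup.mk' I '' ({x, a} : Set S)) = ⊤ := by
      rw [← MonoidHom.map_closure, hgen, map_top_of_surjective _ (QuotientGroup.mk'_surjective _)]
    have hall : ∀ u ∈ QuotientGroup.mk' I '' ({x, a} : Set S), ∀ v ∈ QuotientGroup.mk' I '' ({x, a} : Set S),
        Commute u v := by
      rintro _ ⟨_, rfl | rfl, rfl⟩ _ ⟨_, rfl | rfl, rfl⟩ <;>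
        first | exact Commute.refl _ | exact hxa | exact hxa.symm
    have h1 : (⊤ : Subgroup (S ⧸ I)) ≤ center _ := by
      rw [← hQ, closure_le]
      intro u hu
      refine mem_center_iff.2 fun v => ?_
      have : (⊤ : Subgroup (S ⧸ I)) ≤ centralizer {u} := by
        rw [← hQ, closure_le]
        exact fun v hv => mem_centralizer_singleton_iff.2 (hall v hv u hu)
      exact mem_centralizer_singleton_iff.1 (this (mem_top v))
    exact mem_center_iff.1 (h1 (mem_top q)) p
  exact (hle hs).2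

/-- the class of such an element is a full coset of `S'` -/
theorem cover {a : S} (ha : a ∉ frattini S) (hc : a ^ 2 ∈ center S) :
    ∀ s ∈ commutator S, ∃ g : S, g * a * g⁻¹ = s * a := by
  haveI : Fact (Nat.Prime 2) := ⟨Nat.prime_two⟩
  have hinv := H.inverts ha hc
  have hcomm := H.gen.commutator_comm
  obtain ⟨x, hgen⟩ := H.exists_partner ha
  let Q : Subgroup S :=
    { carrier := {s | ∃ k ∈ commutator S, k ^ 2 = s}
      one_mem' := ⟨1, one_mem _, one_pow 2⟩
      mul_mem' := fun {s t} ⟨k, hk, e⟩ ⟨l, hl, e'⟩ => ⟨k * l, mul_mem hk hl, by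
        rw [(show Commute k l from hcomm k hk l hl).mul_pow, e, e']⟩
      inv_mem' := fun {s} ⟨k, hk, e⟩ => ⟨k⁻¹, inv_mem hk, by rw [inv_pow, e]⟩ }
  have hQn : Q.Normal := ⟨fun s ⟨k, hk, e⟩ g =>
    ⟨g * k * g⁻¹, (inferInstance : (commutator S).Normal).conj_mem k hk g, by rw [conj_pow, e]⟩⟩
  haveI := hQn
  set π := QuotientGroup.mk' Q with hπ
  set h := ⁅x, a⁆ with hhd
  have hhc : h ∈ commutator S := by
    rw [_root_.commutator_def]; exact commutator_mem_commutator (mem_top x) (mem_top a)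
  -- the quotient by squares
  set V := (commutator S).map π with hV
  have hVn : V.Normal := Subgroup.Normal.map inferInstance _ (QuotientGroup.mk'_surjective _)
  have hVsq : ∀ v ∈ V, v ^ 2 = 1 := by
    rintro _ ⟨k, hk, rfl⟩
    rw [← map_pow]
    exact (QuotientGroup.eq_one_iff _).2 ⟨k, hk, rfl⟩
  have hQle : Q ≤ commutator S := by rintro _ ⟨k, hk, rfl⟩; exact pow_mem hk 2
  have hVc : Nat.card V = 4 := by
    have h1 : Nat.card V = Q.relIndex (commutator S) := by
      rw [hV, Nat.card_congr (MonoidHom.ofInjective (f := V.subtype) V.subtype_injective).toEquiv, range_subtype, hV,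
        ← MonoidHom.domRestrict_range, ← Subgroup.index_ker, MonoidHom.ker_domRestrict, QuotientGroup.ker_mk']
      rfl
    have hrel := (Q.subgroupOf (commutator S)).card_mul_index
    let f : commutator S →* S :=
      { toFun := fun k => (k : S) ^ 2
        map_one' := by simp
        map_mul' := fun k l => by
          rw [Subgroup.coe_mul, (show Commute (k : S) l from hcomm k k.2 l l.2).mul_pow] }
    have hker : Nat.card f.ker = 4 := by
      rw [← H.card_omega hnc]
      exact Nat.card_congr {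
        toFun := fun k => ⟨k.1.1, k.1.2, MonoidHom.mem_ker.1 k.2⟩
        invFun := fun k => ⟨⟨k.1, k.2.1⟩, MonoidHom.mem_ker.2 k.2.2⟩
        left_inv := fun k => rfl
        right_inv := fun k => rfl }
    have hrange : f.range = Q := by
      ext s
      exact ⟨fun ⟨k, hk⟩ => ⟨k.1, k.2, hk⟩, fun ⟨k, hk, e⟩ => ⟨⟨k, hk⟩, e⟩⟩
    have h2 := f.ker.card_mul_index
    rw [Subgroup.index_ker, hker, hrange] at h2
    rw [Nat.card_congr (Subgroup.subgroupOfEquivOfLe hQle).toEquiv] at hrel
    rw [h1, Subgroup.relIndex]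
    nlinarith [Nat.card_pos (α := Q)]
  obtain ⟨z1, hz1V, hz1ne, hz1Z, hVconj, hVsq2⟩ :=
    four_normal (H.two.to_quotient Q) V hVc hVsq
  have hne : π (x * h * x⁻¹) ≠ π h := by
    intro heq
    apply hnc
    set L := zpowers h ⊔ Q with hL
    have hmem : ∀ t : S, t * h * t⁻¹ ∈ L → ∀ m ∈ L, t * m * t⁻¹ ∈ L := by
      intro t ht m hm
      have : L ≤ L.comap (MulAut.conj t).toMonoidHom := by
        refine sup_le (zpowers_le.2 ht) fun q hq => ?_
        exact mem_sup_right (hQn.conj_mem q hq t)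
      exact this hm
    have hLn : L.Normal := by
      refine normalizer_eq_top_iff.1 (top_le_iff.1 (hgen ▸ (closure_le _).2 ?_))
      intro t ht
      refine mem_normalizer_iff_map_conj_eq.2 (eq_of_le_of_card_ge ?_
        (card_map_of_injective (MulEquiv.injective _)).ge)
      rintro _ ⟨m, hm, rfl⟩
      refine hmem t ?_ m hm
      rcases ht with rfl | rfl
      · have := QuotientGroup.eq.1 (heq.symm : (h : S ⧸ Q) = _)
        rw [show t * h * t⁻¹ = h * (h⁻¹ * (t * h * t⁻¹)) by group]
        exact mul_mem_sup (mem_zpowers h) this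
      · rw [hinv h hhc]
        exact inv_mem (mem_sup_left (mem_zpowers h))
    have hSL : commutator S ≤ L := by
      haveI := hLn
      have hxa : Commute (x : S ⧸ L) (a : S ⧸ L) := by
        refine commutatorElement_eq_one_iff_mul_comm.1 ?_
        rw [← QuotientGroup.mk'_apply, ← QuotientGroup.mk'_apply, ← map_commutatorElement,
          QuotientGroup.mk'_apply, QuotientGroup.eq_one_iff]
        exact mem_sup_left (mem_zpowers h)
      refine Normal.quotient_commutative_iff_commutator_le.mp ⟨⟨fun p q => ?_⟩⟩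
      have hQ : closure (QuotientGroup.mk' L '' ({x, a} : Set S)) = ⊤ := by
        rw [← MonoidHom.map_closure, hgen, map_top_of_surjective _ (QuotientGroup.mk'_surjective _)]
      have hall : ∀ u ∈ QuotientGroup.mk' L '' ({x, a} : Set S), ∀ v ∈ QuotientGroup.mk' L '' ({x, a} : Set S),
          Commute u v := by
        rintro _ ⟨_, rfl | rfl, rfl⟩ _ ⟨_, rfl | rfl, rfl⟩ <;>
          first | exact Commute.refl _ | exact hxa | exact hxa.symm
      have h1 : (⊤ : Subgroup (S ⧸ L)) ≤ center _ := by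
        rw [← hQ, closure_le]
        intro u hu
        refine mem_center_iff.2 fun v => ?_
        have : (⊤ : Subgroup (S ⧸ L)) ≤ centralizer {u} := by
          rw [← hQ, closure_le]
          exact fun v hv => mem_centralizer_singleton_iff.2 (hall v hv u hu)
        exact mem_centralizer_singleton_iff.1 (this (mem_top v))
      exact mem_center_iff.1 (h1 (mem_top q)) p
    have htop : zpowers (⟨h, hhc⟩ : commutator S) ⊔ frattini (commutator S) = ⊤ := by
      refine top_le_iff.1 fun k _ => ?_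
      have hk := hSL k.2
      rw [hL, ← SetLike.mem_coe, mul_normal] at hk
      obtain ⟨m, hm, q, ⟨l, hl, rfl⟩, e⟩ := Set.mem_mul.1 hk
      obtain ⟨i, rfl⟩ := mem_zpowers_iff.1 hm
      rw [show k = (⟨h, hhc⟩ : commutator S) ^ i * (⟨l, hl⟩ : commutator S) ^ 2 from
        Subtype.ext (by simpa using e.symm)]
      exact mul_mem_sup (zpow_mem (mem_zpowers _) i) (PGroups.pow_mem_frattini (H.two.to_subgroup _) _)
    exact ⟨⟨⟨h, hhc⟩, fun k => mem_zpowers_iff.1 ((frattini_nongenerating htop) ▸ mem_top k)⟩⟩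
  -- elements with `[g, a]` in each of the four classes
  intro s hs
  have hπh : π h ∈ V := mem_map_of_mem π hhc
  have hxh : x * h * x⁻¹ ∈ commutator S := (inferInstance : (commutator S).Normal).conj_mem h hhc x
  have reach : ∀ g0 : S, π s = π ⁅g0, a⁆ → ∃ g : S, g * a * g⁻¹ = s * a := by
    intro g0 hg0
    obtain ⟨k, hk, hk2⟩ : (⁅g0, a⁆⁻¹ * s) ∈ Q := QuotientGroup.eq.1 hg0.symm
    have hg0c : ⁅g0, a⁆ ∈ commutator S := by
      rw [_root_.commutator_def]; exact commutator_mem_commutator (mem_top g0) (mem_top a)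
    refine ⟨k * g0, ?_⟩
    have hka : k * a * k⁻¹ = k ^ 2 * a := by
      rw [show k * a * k⁻¹ = k * (a * k⁻¹ * a⁻¹) * a by group, hinv _ (inv_mem hk), inv_inv, sq]
    calc k * g0 * a * (k * g0)⁻¹ = (k * ⁅g0, a⁆ * k⁻¹) * (k * a * k⁻¹) := by rw [commutatorElement_def]; group
      _ = ⁅g0, a⁆ * k ^ 2 * a := by rw [hcomm k hk _ hg0c, mul_inv_cancel_right, hka, mul_assoc]
      _ = s * a := by rw [hk2, mul_inv_cancel_left]
  have h2 : π ⁅x * x, a⁆ = π (x * h * x⁻¹) * π h := by
    rw [← map_mul, hhd, commutatorElement_def, commutatorElement_def]; congr 1; group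
  have h3 : π ⁅x * x * x, a⁆ = π (x * h * x⁻¹) := by
    have : π ⁅x * x * x, a⁆ = π (x * x * h * (x * x)⁻¹) * π ⁅x * x, a⁆ := by
      rw [← map_mul, hhd, commutatorElement_def, commutatorElement_def, commutatorElement_def]; congr 1; group
    have hsq := hVsq2 (π x) (π h) hπh
    rw [this, h2, show π (x * x * h * (x * x)⁻¹) = π x ^ 2 * π h * (π x ^ 2)⁻¹ by
      rw [map_mul, map_mul, map_inv, map_mul, sq], hsq.eq, mul_inv_cancel_right, ← mul_assoc]
    have hc : π (x * h * x⁻¹) * π h = π h * π (x * h * x⁻¹) := by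
      rw [← map_mul, ← map_mul, hcomm _ hxh _ hhc]
    rw [← hc, mul_assoc, ← sq, hVsq _ hπh, mul_one]
  classical
  have hcard4 : ({1, π h, π (x * h * x⁻¹), π (x * h * x⁻¹) * π h} : Finset (S ⧸ Q)).card = 4 := by
    have hh1 : π h ≠ 1 := fun e => hne (by rw [map_mul, map_mul, map_inv, e, mul_one, mul_inv_cancel])
    have hx1 : π (x * h * x⁻¹) ≠ 1 := fun e => hh1 (by
      rw [map_mul, map_mul, map_inv, mul_inv_eq_one, mul_eq_left] at e; exact e)
    rw [Finset.card_insert_of_notMem, Finset.card_insert_of_notMem, Finset.card_insert_of_notMem,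
      Finset.card_singleton]
    · simp only [Finset.mem_singleton]
      exact fun e => hh1 (mul_eq_left.1 e.symm)
    · simp only [Finset.mem_insert, Finset.mem_singleton, not_or]
      exact ⟨hne.symm, fun e => hx1 (mul_eq_right.1 e.symm)⟩
    · simp only [Finset.mem_insert, Finset.mem_singleton, not_or]
      refine ⟨hh1.symm, hx1.symm, fun e => hne ?_⟩
      exact (mul_eq_one_iff_eq_inv.1 e.symm).trans (inv_eq_of_mul_eq_one_right (by rw [← sq]; exact hVsq _ hπh))
  have hsub : ({1, π h, π (x * h * x⁻¹), π (x * h * x⁻¹) * π h} : Finset (S ⧸ Q)) =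
      (V : Set (S ⧸ Q)).toFinite.toFinset := by
    refine Finset.eq_of_subset_of_card_le ?_ ?_
    · intro v hv
      simp only [Finset.mem_insert, Finset.mem_singleton] at hv
      rw [Set.Finite.mem_toFinset]
      rcases hv with rfl | rfl | rfl | rfl
      · exact one_mem V
      · exact hπh
      · exact mem_map_of_mem π hxh
      · exact mul_mem (mem_map_of_mem π hxh) hπh
    · rw [hcard4, ← Set.ncard_eq_toFinset_card _, ← Nat.card_coe_set_eq]
      exact hVc.le
  have hsV : π s ∈ (V : Set (S ⧸ Q)).toFinite.toFinset := by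
    rw [Set.Finite.mem_toFinset]; exact mem_map_of_mem π hs
  rw [← hsub] at hsV
  simp only [Finset.mem_insert, Finset.mem_singleton] at hsV
  rcases hsV with e | e | e | e
  · exact reach 1 (by rw [e, commutatorElement_one_left, map_one])
  · exact reach x e
  · exact reach (x * x * x) (e.trans h3.symm)
  · exact reach (x * x) (e.trans h2.symm)

end Hyp

end Cfsg.Lib.Bicyclic
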