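import Cfsg.Agent.PGroups.Bicyclic.SiteCommon

/-!
A site with `R = [P, α]` homocyclic of exponent at least 4.
-/

set_option autoImplicit false
set_option linter.unusedSectionVars false
set_option linter.style.haveILetI false

namespace Cfsg.Lib.Bicyclic

open Subgroup
open scoped commutatorElement

universe u

variable {T : Type u} [Group T] [Finite T]

theorem Homo.root {R : Type u} [Group R] {k : ℕ} (h : Homo k R) :
    ∀ j, j ≤ k - 1 → ∀ r : R, r ^ 2 = 1 → ∃ s : R, r = s ^ 2 ^ j := by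
  obtain ⟨hk, -, -, hord, hsq⟩ := h
  intro j
  induction j with
  | zero => exact fun _ r _ => ⟨r, by simp⟩
  | succ j ih =>
    intro hj r hr
    obtain ⟨s, rfl⟩ := ih (by omega) r hr
    obtain ⟨v, rfl⟩ := hsq s (hord s (by
      rw [show k - 1 = j + ((k - 1 - j - 1) + 1) by omega, pow_add, pow_mul, pow_succ', pow_mul, hr, one_pow]))
    exact ⟨v, by rw [← pow_mul, ← pow_succ']⟩

theorem Homo.phi_pow {R : Type u} [Group R] {k : ℕ} (h : Homo k R) {r : R} (hr : r ∈ frattini R) :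
    r ^ 2 ^ (k - 1) = 1 := by
  obtain ⟨hk, -, hexp, -, hsq⟩ := h
  obtain ⟨v, rfl⟩ := hsq r hr
  rw [← pow_mul, ← pow_succ', Nat.sub_add_cancel hk, hexp]

namespace Data

variable (D : Data T)

theorem isCyclic_of_homo {k : ℕ} (hk2 : 2 ≤ k) (hH : Homo k D.R) : IsCyclic (commutator T) := by
  haveI : Fact (Nat.Prime 2) := ⟨Nat.prime_two⟩
  obtain ⟨z0, hz0W, hz01, hz0Z, hconj, hsqc⟩ := D.hyp.omega_data D.hnc
  have hcomm : ∀ r s : D.R, r * s = s * r := hH.2.1
  have hord := hH.2.2.2.1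
  letI : CommGroup D.R := { (inferInstance : Group D.R) with mul_comm := hcomm }
  let pw : D.R → D.R := fun r => r ^ 2 ^ (k - 1)
  have hpw2 : ∀ r : D.R, pw r ^ 2 = 1 := fun r => by
    show (r ^ 2 ^ (k - 1)) ^ 2 = 1
    rw [← pow_mul, ← pow_succ, Nat.sub_add_cancel hH.1, hH.2.2.1]
  -- involutions of `R` fill `W`
  have hinvW : ∀ r : D.R, r ^ 2 = 1 → ((r : D.P) : T) ∈ D.W := by
    intro r hr
    have hΦ : r ∈ frattini D.R := hord r (by
      rw [show k - 1 = (k - 2) + 1 by omega, pow_succ', pow_mul, hr, one_pow])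
    refine D.hyp.mem_omega_of D.hnc (D.sq_phi hΦ) ?_
    rw [← Subgroup.coe_pow, ← Subgroup.coe_pow, hr]
    rfl
  have hW : ∀ w ∈ D.W, ∃ r : D.R, r ^ 2 = 1 ∧ ((r : D.P) : T) = w := by
    let f : {r : D.R // r ^ 2 = 1} → D.W := fun r => ⟨((r.1 : D.P) : T), hinvW r.1 r.2⟩
    have hf : Function.Injective f := fun r s h =>
      Subtype.ext (Subtype.ext (Subtype.ext (congrArg Subtype.val h : _)))
    have hcard : Nat.card {r : D.R // r ^ 2 = 1} = 4 :=
      (PGroups.card_torsion (p := 2) D.two_R).trans D.index_R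
    have hb : Function.Bijective f := (Nat.bijective_iff_injective_and_card f).2 ⟨hf, by rw [hcard, D.card_W]⟩
    intro w hw
    obtain ⟨r, hr⟩ := hb.2 ⟨w, hw⟩
    exact ⟨r.1, r.2, congrArg Subtype.val hr⟩
  -- `α` is fixed-point-free on `R`
  have hfixR : ∀ r : D.R, D.α r = r → r = 1 := by
    intro r hr
    by_contra h1
    obtain ⟨m, hm⟩ := IsPGroup.iff_orderOf.1 D.two_R r
    obtain ⟨m, rfl⟩ : ∃ n, m = n + 1 := ⟨m - 1, by
      rcases m with - | m
      · exact absurd (orderOf_eq_one_iff.1 (by rw [hm, pow_zero])) h1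
      · omega⟩
    obtain ⟨s, hs⟩ := hH.root (k - 1) le_rfl (r ^ 2 ^ m) (by
      rw [← pow_mul, ← pow_succ, ← hm, pow_orderOf_eq_one])
    have hfix : D.αR (r ^ 2 ^ m) = r ^ 2 ^ m := by
      rw [map_pow]
      congr 1
      exact Subtype.ext hr
    have hsΦ : s ∈ frattini D.R := D.fpf s (hord _ (by
      rw [mul_pow, inv_pow, ← map_pow, ← hs, hfix, mul_inv_cancel]))
    have hne : r ^ 2 ^ m ≠ 1 := by
      intro h
      have := orderOf_dvd_of_pow_eq_one h
      rw [hm, Nat.pow_dvd_pow_iff_le_right one_lt_two] at this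
      omega
    exact hne (hs.trans (hH.phi_pow hsΦ))
  -- `P` centralises `W`
  have hPW : ∀ p ∈ D.P, ∀ w ∈ D.W, Commute p w := by
    intro p hp w hw
    obtain ⟨r, hr2, rfl⟩ := hW w hw
    obtain ⟨s, hs⟩ := hH.root (k - 1) le_rfl r hr2
    obtain ⟨φ, hφ, hφe⟩ := D.conj_R ⟨p, hp⟩ s
    have h1 : (⟨p, hp⟩ : D.P) * r * (⟨p, hp⟩ : D.P)⁻¹ = r := by
      rw [hs, Subgroup.coe_pow, ← conj_pow, show (⟨p, hp⟩ : D.P) * s * (⟨p, hp⟩ : D.P)⁻¹ = ((φ * s : D.R) : D.P) by
        rw [Subgroup.coe_mul, hφe, inv_mul_cancel_right], ← Subgroup.coe_pow, mul_pow, hH.phi_pow hφ, one_mul, Subgroup.coe_pow]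
    have h2 := congrArg Subtype.val (mul_inv_eq_iff_eq_mul.1 h1)
    exact h2
  -- `t` moves `W`
  obtain ⟨r0, hr0⟩ := D.tau_moves
  set w0 : T := ((pw r0 : D.P) : T) with hw0
  have hw0W : w0 ∈ D.W := hinvW _ (hpw2 r0)
  have htau_pw : ∀ r : D.R, D.tau ((pw r : D.R) : D.P) = ((pw (⟨D.tau r, D.tau_R r.2⟩ : D.R) : D.R) : D.P) := by
    intro r
    show D.tau ((r ^ 2 ^ (k - 1) : D.R) : D.P) = ((_ ^ 2 ^ (k - 1) : D.R) : D.P)
    rw [Subgroup.coe_pow, Subgroup.coe_pow, map_pow]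
  have htw : D.t * w0 * D.t⁻¹ ≠ w0 := by
    intro h
    apply hr0
    refine hord _ ?_
    have h1 : D.tau ((pw r0 : D.R) : D.P) = ((pw r0 : D.R) : D.P) := Subtype.ext h
    rw [htau_pw] at h1
    rw [mul_pow, inv_pow, mul_inv_eq_one]
    exact Subtype.ext h1
  have htΦ : D.t ∉ frattini T := fun h => htw (by rw [(D.comm_of_phi h hw0W).eq, mul_inv_cancel_right])
  have htp : ∀ p ∈ D.P, D.t * p ∉ frattini T := fun p hp h => htw (by
    calc D.t * w0 * D.t⁻¹ = D.t * (p * w0 * p⁻¹) * D.t⁻¹ := by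
          rw [(hPW p hp w0 hw0W).eq, mul_inv_cancel_right]
      _ = (D.t * p) * w0 * (D.t * p)⁻¹ := by group
      _ = w0 := by rw [(D.comm_of_phi h hw0W).eq, mul_inv_cancel_right])
  -- fixed elements of `P` in `Φ` are trivial
  have hCΦ : ∀ p ∈ D.C, (p : T) ∈ frattini T → p = 1 := by
    intro p hp hpΦ
    by_contra h1
    obtain ⟨m, hm⟩ := IsPGroup.iff_orderOf.1 D.two_P p
    obtain ⟨m, rfl⟩ : ∃ n, m = n + 1 := ⟨m - 1, by
      rcases m with - | m
      · exact absurd (orderOf_eq_one_iff.1 (by rw [hm, pow_zero])) h1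
      · omega⟩
    have hne : p ^ 2 ^ m ≠ 1 := by
      intro h
      have := orderOf_dvd_of_pow_eq_one h
      rw [hm, Nat.pow_dvd_pow_iff_le_right one_lt_two] at this
      omega
    have h2 : (((p ^ 2 ^ m : D.P) : T)) ∈ D.W := D.hyp.mem_omega_of D.hnc
      (by rw [Subgroup.coe_pow]; exact pow_mem hpΦ _)
      (by rw [← Subgroup.coe_pow, ← pow_mul, ← pow_succ, ← hm, pow_orderOf_eq_one]; rfl)
    obtain ⟨r, -, hr⟩ := hW _ h2
    have hr' : (r : D.P) = p ^ 2 ^ m := Subtype.ext hr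
    have hα : D.α r = r := by rw [hr', map_pow, D.mem_C.1 hp]
    exact hne (by rw [← hr', hfixR r hα]; rfl)
  by_cases hC : ∃ c ∈ D.C, c ≠ 1
  · -- `T = ⟨t, c⟩` would be abelian
    exfalso
    obtain ⟨c, hc, hc1⟩ := hC
    have hcΦ : (c : T) ∉ frattini T := fun h => hc1 (hCΦ c hc h)
    have hgen := D.hyp.gen_of htΦ hcΦ (htp _ c.2)
    have hsame : D.tau c = c := by
      have h1 : (D.tau c : T) ∉ frattini T := fun h => hc1 (by
        simpa using (hCΦ _ (D.tau_C hc) h))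
      have h3 := hCΦ _ (mul_mem (D.tau_C hc) (inv_mem hc))
        (D.two (D.tau c).2 (inv_mem c.2) h1 fun h => hcΦ (inv_mem_iff.1 h))
      exact mul_inv_eq_one.1 h3
    have htc : ⁅D.t, (c : T)⁆ = 1 := by
      rw [commutatorElement_def, ← D.tau_coe, hsame, mul_inv_cancel]
    have hbot : commutator T ≤ ⊥ := commutator_le_of_gen hgen ⊥ (by rw [htc]; exact one_mem _)
    exact D.hnc ((le_bot_iff.1 hbot).symm ▸ (inferInstance : IsCyclic (⊥ : Subgroup T)))
  push Not at hC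
  have hPR : ∀ p : D.P, p ∈ D.R := fun p => by
    obtain ⟨c, hc, r, hr, rfl⟩ := D.decomp p
    rwa [hC c hc, one_mul]
  have hPc : ∀ p ∈ D.P, ∀ p' ∈ D.P, Commute p p' := fun p hp p' hp' => by
    have := congrArg (fun r : D.R => ((r : D.P) : T)) (hcomm ⟨⟨p, hp⟩, hPR _⟩ ⟨⟨p', hp'⟩, hPR _⟩)
    exact this
  -- normalising elements centralising `W` lie in `P`
  have hker : ∀ q ∈ normalizer (D.P : Set T), (∀ w ∈ D.W, Commute q w) → q ∈ D.P := by
    intro q hq hqW
    refine D.mem_of_inner hq (D.inner_of_stab _ (D.s.conj q hq) fun x => ?_)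
    set β := Fusion.conjAut D.P q hq with hβ
    have hmem : β x * x⁻¹ ∈ D.R := hPR _
    have hΦ : (⟨_, hmem⟩ : D.R) ∈ frattini D.R := hord _ (by
      apply Subtype.ext
      rw [Subgroup.coe_pow, Subgroup.coe_one,
        (show Commute (β x) x⁻¹ from Subtype.ext (hPc _ (β x).2 _ (inv_mem x.2))).mul_pow, ← map_pow, inv_pow,
        mul_inv_eq_one]
      refine Subtype.ext ?_
      show q * ((x ^ 2 ^ (k - 1) : D.P) : T) * q⁻¹ = _
      have hw : ((x ^ 2 ^ (k - 1) : D.P) : T) ∈ D.W := hinvW _ (hpw2 ⟨x, hPR x⟩)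
      rw [(hqW _ hw).eq, mul_inv_cancel_right])
    obtain ⟨v, hv⟩ := hH.2.2.2.2 _ hΦ
    have := congrArg Subtype.val hv
    rw [Subgroup.coe_pow] at this
    change β x * x⁻¹ ∈ frattini D.P
    rw [show β x * x⁻¹ = (v : D.P) ^ 2 from this.symm]
    exact PGroups.pow_mem_frattini D.two_P _
  have hsqP : ∀ y ∈ normalizer (D.P : Set T), y ^ 2 ∈ D.P := fun y hy =>
    hker _ (pow_mem hy 2) fun w hw => hsqc y w hw
  -- non-trivial actions on `W` agree
  have hmove : ∀ e : T, (∃ w ∈ D.W, e * w * e⁻¹ ≠ w) → ∀ w ∈ D.W, w ≠ 1 → w ≠ z0 → e * w * e⁻¹ = w * z0 := by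
    rintro e ⟨w', hw', hne⟩ w hw h1 h2
    rcases hconj e w hw with h | h
    · exfalso
      let M : Subgroup T := D.W ⊓ centralizer {e}
      have hz0M : z0 ∈ M := Subgroup.mem_inf.2 ⟨hz0W, mem_centralizer_singleton_iff.2 (mem_center_iff.1 hz0Z e).symm⟩
      have hwM : w ∈ M := Subgroup.mem_inf.2
        ⟨hw, mem_centralizer_singleton_iff.2 (mul_inv_eq_iff_eq_mul.1 h).symm⟩
      have h4 : Nat.card M ∣ 4 := D.card_W ▸ card_dvd_of_le inf_le_left
      have h3 : 3 ≤ Nat.card M := by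
        classical
        haveI := Fintype.ofFinite M
        rw [Nat.card_eq_fintype_card]
        refine le_trans (le_of_eq ?_)
          (Finset.card_le_univ ({1, ⟨z0, hz0M⟩, ⟨w, hwM⟩} : Finset M))
        rw [Finset.card_insert_of_notMem, Finset.card_insert_of_notMem, Finset.card_singleton]
        · simp only [Finset.mem_singleton, Subtype.mk.injEq]; exact Ne.symm h2
        · simp only [Finset.mem_insert, Finset.mem_singleton, not_or, Subtype.ext_iff]
          exact ⟨Ne.symm hz01, Ne.symm h1⟩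
      have hle4 := Nat.le_of_dvd (by norm_num) h4
      have hM : M = D.W := eq_of_le_of_card_ge inf_le_left (by
        rw [D.card_W]
        interval_cases hc : Nat.card M <;> omega)
      have := mem_centralizer_singleton_iff.1 (Subgroup.mem_inf.1 (hM.symm ▸ hw' : w' ∈ M)).2
      exact hne (by rw [← this, mul_inv_cancel_right])
    · exact h
  have hsame : ∀ e ∈ normalizer (D.P : Set T), e ∉ D.P → ∀ w ∈ D.W, e * w * e⁻¹ = D.t * w * D.t⁻¹ := by
    intro e he heP w hw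
    by_cases h1 : w = 1
    · rw [h1]; group
    by_cases h2 : w = z0
    · rw [h2, mem_center_iff.1 hz0Z e, mem_center_iff.1 hz0Z D.t, mul_inv_cancel_right, mul_inv_cancel_right]
    have hne : ∃ w ∈ D.W, e * w * e⁻¹ ≠ w := by
      by_contra! hall
      exact heP (hker e he fun w hw => mul_inv_eq_iff_eq_mul.1 (hall w hw))
    rw [hmove e hne w hw h1 h2, hmove D.t ⟨w0, hw0W, htw⟩ w hw h1 h2]
  by_cases hN : normalizer (D.P : Set T) = ⊤
  · -- `T / P` has order 2
    obtain ⟨a, ha, haΦ⟩ : ∃ a : T, a ∈ D.P ∧ a ∉ frattini T := by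
      by_contra! hall
      refine D.hyp.nogen (g := (1 : T)) (k := D.t) (one_mem _) (top_le_iff.1 ?_)
      have hle : (⊤ : Subgroup T) ≤ zpowers D.t ⊔ frattini T := fun g _ => by
        by_cases hg : g ∈ D.P
        · exact mem_sup_right (hall g hg)
        · have h1 : D.t⁻¹ * g ∈ D.P := hker _ (by rw [hN]; exact mem_top _) fun w hw => by
            refine mul_inv_eq_iff_eq_mul.1 ?_
            rw [show D.t⁻¹ * g * w * (D.t⁻¹ * g)⁻¹ = D.t⁻¹ * (g * w * g⁻¹) * D.t by group,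
              hsame g (by rw [hN]; exact mem_top _) hg w hw]
            group
          have := Subgroup.mul_mem_sup (mem_zpowers D.t) (hall _ h1)
          rwa [mul_inv_cancel_left] at this
      have := frattini_nongenerating (top_le_iff.1 hle)
      intro g _
      have hg : g ∈ zpowers D.t := this ▸ mem_top g
      exact (zpowers_le.2 (subset_closure (by simp))) hg
    have hgen := D.hyp.gen_of htΦ haΦ (htp a ha)
    set u := ⁅D.t, a⁆ with hu
    have hta : D.t * a * D.t⁻¹ ∈ D.P := (mem_normalizer_iff.1 D.ht a).1 ha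
    have huP : u ∈ D.P := by
      rw [hu, commutatorElement_def]
      exact mul_mem hta (inv_mem ha)
    have hau : a * u * a⁻¹ = u := by rw [(hPc a ha u huP).eq, mul_inv_cancel_right]
    have htu : D.t * u * D.t⁻¹ = u⁻¹ := by
      have h2 : D.t ^ 2 * a * (D.t ^ 2)⁻¹ = a := by
        rw [(hPc _ (hsqP D.t D.ht) a ha).eq, mul_inv_cancel_right]
      rw [hu, commutatorElement_def]
      calc D.t * (D.t * a * D.t⁻¹ * a⁻¹) * D.t⁻¹ = (D.t ^ 2 * a * (D.t ^ 2)⁻¹) * (D.t * a * D.t⁻¹)⁻¹ := by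
            rw [sq]; group
        _ = _ := by rw [h2]; group
    have hUn : (zpowers u).Normal := by
      refine normalizer_eq_top_iff.1 (top_le_iff.1 (hgen ▸ (closure_le _).2 ?_))
      rintro e he
      refine mem_normalizer_iff_map_conj_eq.2 (eq_of_le_of_card_ge ?_
        (card_map_of_injective (MulEquiv.injective _)).ge)
      rintro _ ⟨_, ⟨i, rfl⟩, rfl⟩
      show e * u ^ i * e⁻¹ ∈ _
      rw [← conj_zpow]
      refine zpow_mem ?_ i
      rcases he with rfl | rfl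
      · rw [htu]; exact inv_mem (mem_zpowers u)
      · rw [hau]; exact mem_zpowers u
    haveI := hUn
    have hle := commutator_le_of_gen hgen (zpowers u) (mem_zpowers u)
    exact isCyclic_of_injective (inclusion hle) (inclusion_injective hle)
  · exfalso
    have hlt : normalizer (D.P : Set T) < ⊤ := lt_top_iff_ne_top.2 hN
    have hT2 : IsPGroup 2 (⊤ : Subgroup T) := D.hyp.two.to_subgroup _
    obtain ⟨g, hg, hgn⟩ := SetLike.exists_of_lt (Fusion.lt_inf_normalizer (S := (⊤ : Subgroup T)) hT2 hlt le_top)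
    have hgN : g ∈ normalizer (normalizer (D.P : Set T) : Set T) := (Subgroup.mem_inf.1 hg).2
    obtain ⟨s, hs, hgs⟩ : ∃ s ∈ D.P, g * s * g⁻¹ ∉ D.P := by
      by_contra! hall
      refine hgn (mem_normalizer_iff_map_conj_eq.2 (eq_of_le_of_card_ge ?_
        (card_map_of_injective (MulEquiv.injective _)).ge))
      rintro _ ⟨x, hx, rfl⟩
      exact hall x hx
    set e := g * s * g⁻¹ with he
    have heN : e ∈ normalizer (D.P : Set T) := (mem_normalizer_iff.1 hgN s).1 (le_normalizer hs)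
    apply hr0
    -- `t` fixes every square of `R`
    have hfix : D.tau ((r0 : D.P) ^ 2) = (r0 : D.P) ^ 2 := by
      set x : T := ((r0 : D.P) : T)
      have hx : g⁻¹ * x * g ∈ normalizer (D.P : Set T) := by
        refine (mem_normalizer_iff.1 hgN _).2 ?_
        rw [show g * (g⁻¹ * x * g) * g⁻¹ = x by group]
        exact le_normalizer (r0 : D.P).2
      have hx2 := hsqP _ hx
      have h1 : Commute (x ^ 2) e := by
        have h2 := hPc _ hx2 s hs
        have h3 : x ^ 2 = g * (g⁻¹ * x * g) ^ 2 * g⁻¹ := by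
          rw [← conj_pow]; congr 1; group
        rw [h3, he]
        show _ = _
        calc g * (g⁻¹ * x * g) ^ 2 * g⁻¹ * (g * s * g⁻¹) = g * ((g⁻¹ * x * g) ^ 2 * s) * g⁻¹ := by group
          _ = _ := by rw [h2.eq]; group
      have h4 : D.t⁻¹ * e ∈ D.P := hker _ (mul_mem (inv_mem D.ht) heN) fun w hw => by
        refine mul_inv_eq_iff_eq_mul.1 ?_
        rw [show D.t⁻¹ * e * w * (D.t⁻¹ * e)⁻¹ = D.t⁻¹ * (e * w * e⁻¹) * D.t by group, hsame e heN hgs w hw]
        group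
      have h5 : Commute (D.t⁻¹ * e) (x ^ 2) := hPc _ h4 _ (pow_mem (r0 : D.P).2 2)
      refine Subtype.ext ?_
      show D.t * ((r0 : D.P) ^ 2 : D.P).1 * D.t⁻¹ = ((r0 : D.P) ^ 2 : D.P).1
      rw [Subgroup.coe_pow]
      calc D.t * x ^ 2 * D.t⁻¹ = D.t * ((D.t⁻¹ * e) * x ^ 2 * (D.t⁻¹ * e)⁻¹) * D.t⁻¹ := by
            rw [h5.eq, mul_inv_cancel_right]
        _ = e * x ^ 2 * e⁻¹ := by group
        _ = x ^ 2 := by rw [← h1.eq, mul_inv_cancel_right]
    refine hord _ ?_
    have h2 : ((⟨D.tau r0, D.tau_R r0.2⟩ : D.R) * r0⁻¹) ^ 2 = 1 := by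
      rw [mul_pow, inv_pow, mul_inv_eq_one]
      apply Subtype.ext
      rw [Subgroup.coe_pow, Subgroup.coe_pow, ← map_pow]
      exact hfix
    rw [show k - 1 = (k - 2) + 1 by omega, pow_succ', pow_mul, h2, one_pow]

end Data

end Cfsg.Lib.Bicyclic
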