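import Cfsg.Agent.PGroups.Bicyclic.SiteCommon

/-!
A site with `R = [P, α]` quaternion of order 8: impossible when `T'` is not cyclic.
-/

set_option autoImplicit false
set_option linter.unusedSectionVars false
set_option linter.style.haveILetI false

namespace Cfsg.Lib.Bicyclic

open Subgroup
open scoped commutatorElement

universe u

variable {T : Type u} [Group T] [Finite T]

namespace Data

variable (D : Data T)

theorem false_of_quat (hQ : Quat D.R) : False := by
  haveI : Fact (Nat.Prime 2) := ⟨Nat.prime_two⟩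
  obtain ⟨z0, hz0W, hz01, hz0Z, hconj, hsqc⟩ := D.hyp.omega_data D.hnc
  obtain ⟨z, hz1, hz2, htri, hzc, hinvr⟩ := hQ
  set f := D.P.subtype.comp D.R.subtype with hfd
  have hfi : Function.Injective f := D.P.subtype_injective.comp D.R.subtype_injective
  -- the Frattini subgroup of `R`
  have hphi : ∀ r ∈ frattini D.R, r = 1 ∨ r = z := by
    intro r hr
    have hle : frattini D.R ≤ zpowers z := (frattini_le_closure_sq D.two_R).trans ((closure_le _).2 (by
      rintro _ ⟨g, rfl⟩
      rcases htri g with h | h | h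
      · simp [h]
      · simp [h, hz2]
      · show g ^ 2 ∈ zpowers z
        rw [h]; exact mem_zpowers z))
    obtain ⟨i, rfl⟩ := mem_zpowers_iff.1 (hle hr)
    rcases Int.even_or_odd' i with ⟨j, rfl | rfl⟩
    · left; rw [zpow_mul, zpow_ofNat, hz2, one_zpow]
    · right; rw [zpow_add, zpow_mul, zpow_ofNat, hz2, one_zpow, one_mul, zpow_one]
  obtain ⟨g0, hg0⟩ : ∃ g : D.R, g ^ 2 = z := by
    by_contra! hno
    have hall : ∀ g : D.R, g = 1 ∨ g = z := fun g => by
      rcases htri g with h | h | h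
      · exact Or.inl h
      · exact Or.inr h
      · exact absurd h (hno g)
    classical
    have hle : Nat.card D.R ≤ 2 := (Nat.card_le_card_of_surjective (fun b : Bool => if b then (1 : D.R) else z)
      fun g => by rcases hall g with h | h <;> [exact ⟨true, by simp [h]⟩; exact ⟨false, by simp [h]⟩]).trans (by simp)
    have h1 := (frattini D.R).index_dvd_card
    rw [D.index_R] at h1
    have := Nat.le_of_dvd Nat.card_pos h1
    omega
  have hzΦ : z ∈ frattini D.R := hg0 ▸ PGroups.pow_mem_frattini D.two_R g0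
  have hsq : ∀ g : D.R, g ∉ frattini D.R → g ^ 2 = z := fun g hg => by
    rcases htri g with h | h | h
    · exact absurd (h ▸ one_mem _) hg
    · exact absurd (h ▸ hzΦ) hg
    · exact h
  have hcard8 : 8 ≤ Nat.card D.R := by
    have h1 := (frattini D.R).card_mul_index
    rw [D.index_R] at h1
    have h2 : 2 ≤ Nat.card (frattini D.R) := by
      rw [Nat.succ_le_iff, one_lt_card_iff_ne_bot]
      exact fun h => hz1 (by rw [← mem_bot, ← h]; exact hzΦ)
    omega
  set zT := f z with hzT
  have hzT2 : zT ^ 2 = 1 := by rw [hzT, ← map_pow, hz2, map_one]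
  have hzT1 : zT ≠ 1 := fun h => hz1 (hfi (h.trans (map_one f).symm))
  have hzW : zT ∈ D.W := D.hyp.mem_omega_of D.hnc (D.sq_phi hzΦ) hzT2
  -- `R` is not inside `Φ(T)`
  obtain ⟨a, haΦ⟩ : ∃ a : D.R, f a ∉ frattini T := by
    by_contra! hall
    obtain ⟨w, hw, hw1, hwz⟩ := D.exists_W_ne zT
    have hcw : ∀ r, Commute (f r) w := fun r => D.comm_of_phi (hall r) hw
    have hww : w * w = 1 := by rw [← sq]; exact D.W_sq hw
    let L : Subgroup T :=
      { carrier := {x | ∃ r : D.R, x = f r ∨ x = f r * w}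
        one_mem' := ⟨1, Or.inl (map_one f).symm⟩
        mul_mem' := by
          rintro x y ⟨r, rfl | rfl⟩ ⟨s, rfl | rfl⟩
          · exact ⟨r * s, Or.inl (map_mul f r s).symm⟩
          · exact ⟨r * s, Or.inr (by rw [map_mul, mul_assoc])⟩
          · exact ⟨r * s, Or.inr (by rw [map_mul, mul_assoc, ← (hcw s).eq, ← mul_assoc])⟩
          · exact ⟨r * s, Or.inl (by rw [map_mul, mul_assoc, ← mul_assoc w, ← (hcw s).eq, mul_assoc, hww, mul_one])⟩
        inv_mem' := by
          rintro x ⟨r, rfl | rfl⟩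
          · exact ⟨r⁻¹, Or.inl (map_inv f r).symm⟩
          · exact ⟨r⁻¹, Or.inr (by
              rw [map_inv, mul_inv_rev, inv_eq_of_mul_eq_one_right hww, ← (hcw r).inv_left.eq])⟩ }
    have hL : L ≤ frattini T := by
      rintro x ⟨r, rfl | rfl⟩
      · exact hall r
      · exact mul_mem (hall r) (D.W_phi hw)
    have hmeta := D.hyp.gen.sub_meta D.hyp.two hL
    have hwL : w ∈ L := ⟨1, Or.inr (by rw [map_one, one_mul])⟩
    have hfL : ∀ r, f r ∈ L := fun r => ⟨r, Or.inl rfl⟩
    set zL : L := ⟨zT, hfL z⟩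
    have hzcen : zL ∈ center L := mem_center_iff.2 fun ⟨x, r, hx⟩ => Subtype.ext (by
      show x * zT = zT * x
      rcases hx with rfl | rfl
      · rw [hzT, ← map_mul, ← map_mul, hzc]
      · rw [hzT, mul_assoc, ← (hcw z).eq, ← mul_assoc, ← map_mul, hzc, map_mul, mul_assoc])
    haveI : (zpowers zL).Normal := ⟨fun m hm g => by
      rw [mem_center_iff.1 ((zpowers_le.2 hzcen) hm) g, mul_inv_cancel_right]; exact hm⟩
    have hsqL : ∀ q : L ⧸ zpowers zL, q ^ 2 = 1 := by
      intro q
      obtain ⟨⟨x, r, hx⟩, rfl⟩ := QuotientGroup.mk_surjective q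
      rw [← QuotientGroup.mk_pow, QuotientGroup.eq_one_iff]
      have h1 : x ^ 2 = f r ^ 2 := by
        rcases hx with rfl | rfl
        · rfl
        · rw [(hcw r).mul_pow, D.W_sq hw, mul_one]
      rcases htri r with h | h | h
      · convert one_mem (zpowers zL)
        exact Subtype.ext (by rw [Subgroup.coe_pow, h1, h, map_one, one_pow]; rfl)
      · convert one_mem (zpowers zL)
        exact Subtype.ext (by rw [Subgroup.coe_pow, h1, h, ← hzT, hzT2]; rfl)
      · convert mem_zpowers zL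
        exact Subtype.ext (by rw [Subgroup.coe_pow, h1, ← map_pow, h])
    have h4 := meta_card_le_four (PGroups.MetaOmega.meta_surjective (QuotientGroup.mk' (zpowers zL))
      (QuotientGroup.mk'_surjective _) hmeta) hsqL
    have hz2' : Nat.card (zpowers zL) ≤ 2 := by
      rw [Nat.card_zpowers]
      exact orderOf_le_of_pow_eq_one two_pos (Subtype.ext hzT2)
    have hwR : ∀ r, f r ≠ w := by
      intro r h
      rcases htri r with h1 | h1 | h1
      · exact hw1 (by rw [← h, h1, map_one])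
      · exact hwz (by rw [← h, h1])
      · exact hzT1 (by rw [hzT, ← h1, map_pow, h, D.W_sq hw])
    have h16 : 2 * Nat.card D.R ≤ Nat.card L := by
      let g : Bool × D.R → L := fun u => ⟨if u.1 then f u.2 * w else f u.2, by
        split_ifs <;> [exact ⟨u.2, Or.inr rfl⟩; exact hfL u.2]⟩
      have hg : Function.Injective g := by
        rintro ⟨b, r⟩ ⟨b', r'⟩ h
        have h' := congrArg Subtype.val h
        cases b <;> cases b' <;> simp [g] at h'
        · exact Prod.ext rfl (hfi h')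
        · exact absurd (by rw [map_mul, map_inv, h', inv_mul_cancel_left] : f (r'⁻¹ * r) = w) (hwR _)
        · exact absurd (by rw [map_mul, map_inv, ← h', inv_mul_cancel_left] : f (r⁻¹ * r') = w) (hwR _)
        · exact Prod.ext rfl (hfi h')
      have := Nat.card_le_card_of_injective g hg
      simpa using this
    have h5 := card_eq_card_quotient_mul_card_subgroup (zpowers zL)
    have : Nat.card L ≤ 4 * 2 := h5 ▸ Nat.mul_le_mul h4 hz2'
    omega
  have haR : a ∉ frattini D.R := fun h => haΦ (D.sq_phi h)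
  set u : D.R := (⟨D.tau a, D.tau_R a.2⟩ : D.R) * a⁻¹ with hud
  have huR : u ∉ frattini D.R := D.moves_a haΦ
  have hu' : f u ∈ commutator T := D.tau_comm a
  have huΦ : f u ∈ frattini T := D.hyp.commutator_le_phi hu'
  have hau : a * u ≠ u * a := by
    intro h
    have h1 : (a * u) ^ 2 = 1 := by
      rw [(show Commute a u from h).mul_pow, hsq a haR, hsq u huR, ← sq, hz2]
    have h2 : a * u ∈ frattini D.R := by
      rcases htri (a * u) with h3 | h3 | h3
      · exact h3 ▸ one_mem _
      · exact h3 ▸ hzΦ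
      · exact absurd (h3.symm.trans h1) hz1
    have h3 : f (a * u) ∈ frattini T := D.sq_phi h2
    rw [map_mul] at h3
    exact haΦ ((mul_mem_cancel_right huΦ).1 h3)
  -- `R` is generated by `a` and `u`
  set L := closure ({a, u} : Set D.R) with hLd
  have haL : a ∈ L := subset_closure (by simp)
  have huL : u ∈ L := subset_closure (by simp)
  have hzL : z ∈ L := hsq a haR ▸ pow_mem haL 2
  have hcommL : ∀ x : D.R, x ∈ L → x ^ 2 = z → ∀ r : D.R, x * r = r * x → r ∈ L := by
    intro x hx hx2 r hr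
    rcases htri r with h | h | h
    · exact h ▸ one_mem L
    · exact h ▸ hzL
    · have h1 : (x * r) ^ 2 = 1 := by rw [(show Commute x r from hr).mul_pow, hx2, h, ← sq, hz2]
      rcases htri (x * r) with h2 | h2 | h2
      · rw [show r = x⁻¹ * (x * r) by group, h2, mul_one]; exact inv_mem hx
      · rw [show r = x⁻¹ * (x * r) by group, h2]; exact mul_mem (inv_mem hx) hzL
      · exact absurd (h2.symm.trans h1) hz1
  have hLtop : ∀ r : D.R, r ∈ L := by
    intro r
    by_cases h1 : a * r = r * a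
    · exact hcommL a haL (hsq a haR) r h1
    by_cases h2 : u * r = r * u
    · exact hcommL u huL (hsq u huR) r h2
    by_cases h3 : a * (u * r) = u * r * a
    · have := mul_mem (inv_mem huL) (hcommL a haL (hsq a haR) _ h3)
      rwa [inv_mul_cancel_left] at this
    · exfalso
      have e := hinvr a (u * r) h3
      rw [show a * (u * r) * a⁻¹ = (a * u * a⁻¹) * (a * r * a⁻¹) by group, hinvr a u hau, hinvr a r h1] at e
      replace e := e.trans (mul_inv_rev u r)
      exact h2 (by
        calc u * r = (r⁻¹ * u⁻¹)⁻¹ := by group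
          _ = (u⁻¹ * r⁻¹)⁻¹ := by rw [e]
          _ = r * u := by group)
  have hcentR : ∀ r : D.R, a * r = r * a → u * r = r * u → r = 1 ∨ r = z := by
    intro r h1 h2
    rcases htri r with h | h | h
    · exact Or.inl h
    · exact Or.inr h
    · exfalso
      have h3 : (a * r) ^ 2 = 1 := by rw [(show Commute a r from h1).mul_pow, hsq a haR, h, ← sq, hz2]
      rcases htri (a * r) with h4 | h4 | h4
      · have : a = r⁻¹ := eq_inv_of_mul_eq_one_left h4
        exact hau (by rw [this]; exact (show Commute r⁻¹ u from (show Commute r u from h2.symm).inv_left))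
      · have : a = z * r⁻¹ := eq_mul_inv_of_mul_eq h4
        exact hau (by
          rw [this]
          exact ((show Commute z u from (hzc u).symm).mul_left (show Commute r u from h2.symm).inv_left))
      · exact hz1 (h4.symm.trans h3)
  -- fixed elements of `α` on `R`
  have hαz : D.α (z : D.P) = (z : D.P) := by
    have h1 : D.αR z ∈ frattini D.R :=
      (characteristic_iff_map_le.1 frattini_characteristic D.αR) (mem_map_of_mem _ hzΦ)
    rcases hphi _ h1 with h | h
    · exact absurd ((map_eq_one_iff _ D.αR.injective).1 h) hz1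
    · exact congrArg Subtype.val h
  have hfixR : ∀ r : D.R, D.α r = r → r = 1 ∨ r = z := fun r hr => hphi r (D.fpf r (by
    rw [show D.αR r = r from Subtype.ext hr, mul_inv_cancel]; exact one_mem _))
  obtain ⟨c, hc, hdec⟩ := D.exists_c
  -- `C` centralises `R`
  have hCR : ∀ p ∈ D.C, ∀ r : D.R, Commute p (r : D.P) := by
    intro p hp
    let M : Subgroup D.R :=
      { carrier := {r | Commute p (r : D.P)}
        one_mem' := Commute.one_right p
        mul_mem' := fun hr hs => hr.mul_right hs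
        inv_mem' := fun hr => hr.inv_right }
    by_contra! hall
    obtain ⟨r1, hr1⟩ := hall
    have hMinv : ∀ r ∈ M, D.αR r ∈ M := fun r hr => by
      show Commute p (D.α r)
      have := Commute.map (hr : Commute p (r : D.P)) D.α
      rwa [D.mem_C.1 hp] at this
    have hzM : Commute p (z : D.P) := by
      obtain ⟨φ, hφ, hφe⟩ := D.conj_R p z
      rcases hphi φ hφ with h | h
      · rw [h, Subgroup.coe_one, eq_comm, mul_inv_eq_one] at hφe
        exact mul_inv_eq_iff_eq_mul.1 hφe
      · exfalso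
        rw [h, eq_comm, mul_inv_eq_iff_eq_mul, ← sq, ← Subgroup.coe_pow, hz2, Subgroup.coe_one,
          conj_eq_one_iff] at hφe
        exact hz1 (Subtype.ext hφe)
    have hshift : ∀ r : D.R, r ∉ M → p * (r : D.P) * p⁻¹ = (z : D.P) * r := by
      intro r hr
      obtain ⟨φ, hφ, hφe⟩ := D.conj_R p r
      rcases hphi φ hφ with h | h
      · rw [h, Subgroup.coe_one, eq_comm, mul_inv_eq_one] at hφe
        exact absurd (mul_inv_eq_iff_eq_mul.1 hφe : Commute p (r : D.P)) hr
      · rw [h] at hφe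
        rw [hφe, inv_mul_cancel_right]
    refine no_invariant D.two_R D.αR D.fpf M (index_eq_two_iff.2 ⟨r1, fun b => ?_⟩) hMinv
    by_cases hb : b ∈ M
    · exact Or.inr ⟨hb, fun h => hr1 (by
        have h1 : r1 ∈ M := by simpa using mul_mem (inv_mem hb) h
        exact h1)⟩
    · refine Or.inl ⟨?_, hb⟩
      refine mul_inv_eq_iff_eq_mul.1 ?_
      rw [Subgroup.coe_mul, show p * ((b : D.P) * r1) * p⁻¹ = (p * (b : D.P) * p⁻¹) * (p * (r1 : D.P) * p⁻¹) by group,
        hshift b hb, hshift r1 (fun h => hr1 h)]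
      rw [mul_assoc, ← mul_assoc (b : D.P) (z : D.P), ← Subgroup.coe_mul, hzc b, Subgroup.coe_mul, mul_assoc,
        ← mul_assoc (z : D.P), ← Subgroup.coe_mul D.R z z, ← sq, hz2, Subgroup.coe_one, one_mul]
  -- the centre of `P`
  have hzZ : (z : D.P) ∈ center D.P := mem_center_iff.2 fun p => by
    obtain ⟨i, r, hr, rfl⟩ := hdec p
    exact (((hCR c hc z).zpow_left i).mul_left
      (show Commute ((⟨r, hr⟩ : D.R) : D.P) (z : D.P) from congrArg Subtype.val (hzc ⟨r, hr⟩))).eq
  have hfix_center : ∀ p ∈ D.C, p ∈ center D.P := by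
    intro p hp
    obtain ⟨j, r', hr', rfl⟩ := hdec p
    have hfix : D.α r' = r' := by
      have := mul_mem (inv_mem (zpow_mem hc j)) hp
      rwa [inv_mul_cancel_left] at this
    have hj : c ^ j ∈ center D.P := mem_center_iff.2 fun p => by
      obtain ⟨i, r, hr, rfl⟩ := hdec p
      exact (((Commute.refl c).zpow_zpow i j).mul_left
        ((hCR c hc ⟨r, hr⟩).zpow_left j).symm).eq
    refine mul_mem hj ?_
    rcases hfixR ⟨r', hr'⟩ hfix with h | h
    · rw [show r' = 1 from congrArg Subtype.val h]; exact one_mem _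
    · rw [show r' = (z : D.P) from congrArg Subtype.val h]; exact hzZ
  have hcen_form : ∀ p ∈ center D.P, ∃ i : ℤ, ∃ e : D.R, (e = 1 ∨ e = z) ∧ p = c ^ i * (e : D.P) := by
    intro p hp
    obtain ⟨i, r, hr, rfl⟩ := hdec p
    have hrc : r ∈ center D.P := by
      have := mul_mem (inv_mem (zpow_mem (hfix_center c hc) i)) hp
      rwa [inv_mul_cancel_left] at this
    exact ⟨i, ⟨r, hr⟩, hcentR _ (Subtype.ext (mem_center_iff.1 hrc (a : D.P)))
      (Subtype.ext (mem_center_iff.1 hrc (u : D.P))), rfl⟩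
  -- automorphisms trivial on `P / Z(P)` are inner
  have hker : ∀ β ∈ D.s.A, (∀ p, β p * p⁻¹ ∈ center D.P) → β ∈ Inn D.P := by
    intro β hβA hβ
    have hchar : ∀ (δ : MulAut D.P) {ζ : D.P}, ζ ∈ center D.P → δ ζ ∈ center D.P := fun δ ζ hζ =>
      mem_center_iff.2 fun p => by
        obtain ⟨p, rfl⟩ := δ.surjective p
        rw [← map_mul, ← map_mul, mem_center_iff.1 hζ p]
    let K : Subgroup (MulAut D.P) :=
      { carrier := {β | β ∈ D.s.A ∧ ∀ p, β p * p⁻¹ ∈ center D.P}
        one_mem' := ⟨one_mem _, fun p => by simp⟩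
        mul_mem' := fun {β γ} hβ hγ => ⟨mul_mem hβ.1 hγ.1, fun p => by
          rw [MulAut.mul_apply, show β (γ p) * p⁻¹ = β (γ p) * (γ p)⁻¹ * (γ p * p⁻¹) by group]
          exact mul_mem (hβ.2 _) (hγ.2 p)⟩
        inv_mem' := fun {β} hβ => ⟨inv_mem hβ.1, fun p => by
          have := inv_mem (hβ.2 (β⁻¹ p))
          rw [MulAut.apply_inv_self, mul_inv_rev, inv_inv] at this
          exact this⟩ }
    have hzPhi : (z : D.P) ∈ frattini D.P := by
      rw [← hg0, Subgroup.coe_pow]; exact PGroups.pow_mem_frattini D.two_P _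
    have hstab : ∀ δ ∈ K, ∀ p : D.P, (δ ^ 2) p * p⁻¹ ∈ frattini D.P := by
      intro δ hδ
      have hZΦ : ∀ ζ ∈ center D.P, δ ζ * ζ⁻¹ ∈ frattini D.P := by
        have hδz : δ (z : D.P) ∈ frattini D.P :=
          (characteristic_iff_map_le.1 frattini_characteristic δ) (mem_map_of_mem _ hzPhi)
        have hδc : δ c * c⁻¹ ∈ frattini D.P := by
          obtain ⟨j, e, he, hje⟩ := hcen_form _ (hchar δ (hfix_center c hc))
          have heΦ : (e : D.P) ∈ frattini D.P := by
            rcases he with rfl | rfl <;> [exact one_mem _; exact hzPhi]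
          rcases Int.even_or_odd j with ⟨w, rfl⟩ | ⟨w, rfl⟩
          · have hδcΦ : δ c ∈ frattini D.P := by
              rw [hje, zpow_add, ← sq]
              exact mul_mem (PGroups.pow_mem_frattini D.two_P _) heΦ
            have hcΦ : c ∈ frattini D.P := by
              have := (characteristic_iff_map_le.1 frattini_characteristic (δ⁻¹ : MulAut D.P))
                (mem_map_of_mem _ hδcΦ)
              rwa [show (δ⁻¹ : MulAut D.P).toMonoidHom (δ c) = c from MulAut.inv_apply_self _ δ c] at this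
            exact mul_mem hδcΦ (inv_mem hcΦ)
          · have h1 : c ^ (2 * w + 1) * (e : D.P) * c⁻¹ = (c ^ w) ^ 2 * (e : D.P) := by
              rw [mul_assoc, ← mem_center_iff.1 (hfix_center _ (inv_mem hc)) (e : D.P) |>.symm, ← mul_assoc,
                ← zpow_natCast, ← zpow_mul, zpow_add, zpow_one, mul_inv_cancel_right]
              push_cast
              rw [mul_comm 2 w]
            rw [hje, h1]
            exact mul_mem (PGroups.pow_mem_frattini D.two_P _) heΦ
        intro ζ hζ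
        obtain ⟨i, e, he, rfl⟩ := hcen_form ζ hζ
        have h1 : δ (c ^ i) * (c ^ i)⁻¹ = (δ c * c⁻¹) ^ i := by
          rw [(show Commute (δ c) c⁻¹ from
            (mem_center_iff.1 (hfix_center _ (inv_mem hc)) (δ c))).mul_zpow, map_zpow, inv_zpow]
        have h2 : δ (e : D.P) * (e : D.P)⁻¹ ∈ frattini D.P := by
          rcases he with rfl | rfl
          · simp
          · exact mul_mem hδz (inv_mem hzPhi)
        rw [map_mul, mul_inv_rev, show δ (c ^ i) * δ (e : D.P) * ((e : D.P)⁻¹ * (c ^ i)⁻¹) =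
          δ (c ^ i) * (δ (e : D.P) * (e : D.P)⁻¹) * (δ (c ^ i))⁻¹ * (δ (c ^ i) * (c ^ i)⁻¹) by group, h1]
        exact mul_mem ((inferInstance : (frattini D.P).Normal).conj_mem _ h2 _) (zpow_mem hδc i)
      intro p
      have hζ := hδ.2 p
      have hζ2 : (δ p * p⁻¹) ^ 2 ∈ frattini D.P := PGroups.pow_mem_frattini D.two_P _
      rw [sq δ, MulAut.mul_apply]
      have key : δ (δ p) * p⁻¹ = δ (δ p * p⁻¹) * (δ p * p⁻¹) := by
        rw [map_mul, map_inv]; group
      rw [key, show δ (δ p * p⁻¹) * (δ p * p⁻¹) = (δ (δ p * p⁻¹) * (δ p * p⁻¹)⁻¹) * (δ p * p⁻¹) ^ 2 by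
        rw [sq]; group]
      exact mul_mem (hZΦ _ hζ) hζ2
    have hK2 : IsPGroup 2 K := by
      rintro ⟨δ, hδ⟩
      obtain ⟨n, hn⟩ := IsPGroup.iff_card.1 D.two_P
      obtain ⟨r, hr⟩ := D.two_P.index (frattini D.P)
      obtain ⟨j, -, hj⟩ := (Nat.dvd_prime_pow Nat.prime_two).1
        (PGroups.card_stabilizing_dvd hn hr (zpowers (δ ^ 2)) fun γ hγ x => by
          obtain ⟨i, rfl⟩ := mem_zpowers_iff.1 hγ
          have hS : δ ^ 2 ∈ ({ carrier := {β | ∀ x : D.P, β x * x⁻¹ ∈ frattini D.P}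
                               one_mem' := fun x => by simp
                               mul_mem' := fun {β γ} hβ hγ x => by
                                 rw [MulAut.mul_apply, show β (γ x) * x⁻¹ = β (γ x) * (γ x)⁻¹ * (γ x * x⁻¹) by group]
                                 exact mul_mem (hβ _) (hγ x)
                               inv_mem' := fun {β} hβ x => by
                                 have := inv_mem (hβ (β⁻¹ x))
                                 rw [MulAut.apply_inv_self, mul_inv_rev, inv_inv] at this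
                                 exact this } : Subgroup (MulAut D.P)) := hstab δ hδ
          exact zpow_mem hS i x)
      refine ⟨j + 1, Subtype.ext ?_⟩
      show δ ^ 2 ^ (j + 1) = 1
      rw [pow_succ', pow_mul, ← hj, Nat.card_zpowers, pow_orderOf_eq_one]
    refine D.s.rad K (fun _ h => h.1) hK2 (fun e he k hk =>
      ⟨mul_mem (mul_mem he hk.1) (inv_mem he), fun p => ?_⟩) ⟨hβA, hβ⟩
    have h1 := hchar e (hk.2 (e⁻¹ p))
    simpa using h1
  -- closure under conjugation is checked on generators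
  set A := f a with hA
  set U := f u with hU
  set Cc : T := (c : T) with hCc
  have hPgen : ∀ N : Subgroup T, A ∈ N → U ∈ N → Cc ∈ N → D.P ≤ N := by
    intro N h1 h2 h3 x hx
    obtain ⟨i, r, hr, e⟩ := hdec ⟨x, hx⟩
    have : L ≤ N.comap f := (closure_le _).2 (by rintro _ (rfl | rfl) <;> assumption)
    have hr' : f ⟨r, hr⟩ ∈ N := this (hLtop _)
    rw [show x = Cc ^ i * f ⟨r, hr⟩ from congrArg Subtype.val e]
    exact mul_mem (zpow_mem h3 i) hr'
  have hnorm : ∀ q : T, q * A * q⁻¹ ∈ D.P → q * U * q⁻¹ ∈ D.P → q * Cc * q⁻¹ ∈ D.P →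
      q ∈ normalizer (D.P : Set T) := fun q h1 h2 h3 =>
    mem_normalizer_iff_map_conj_eq.2 (eq_of_le_of_card_ge
      (map_le_iff_le_comap.2 (hPgen _ h1 h2 h3)) (card_map_of_injective (MulEquiv.injective _)).ge)
  have hinner : ∀ (q : T) (hq : q ∈ normalizer (D.P : Set T)),
      (∀ d ∈ ({A, U, Cc} : Set T), ∃ ζ ∈ center D.P, q * d * q⁻¹ = (ζ : T) * d) → q ∈ D.P := by
    intro q hq h
    refine D.mem_of_inner hq (hker _ (D.s.conj q hq) fun p => ?_)
    set β := Fusion.conjAut D.P q hq
    let N : Subgroup D.P :=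
      { carrier := {p | β p * p⁻¹ ∈ center D.P}
        one_mem' := by simp
        mul_mem' := fun {p p'} hp hp' => by
          show β (p * p') * (p * p')⁻¹ ∈ center D.P
          rw [map_mul, show β p * β p' * (p * p')⁻¹ = β p * (β p' * p'⁻¹) * p⁻¹ by group,
            mem_center_iff.1 hp' (β p), mul_assoc]
          exact mul_mem hp' hp
        inv_mem' := fun {p} hp => by
          show β p⁻¹ * p⁻¹⁻¹ ∈ center D.P
          rw [map_inv, inv_inv, show (β p)⁻¹ * p = p⁻¹ * (β p * p⁻¹)⁻¹ * p by group,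
            mem_center_iff.1 (inv_mem hp) p⁻¹, inv_mul_cancel_right]
          exact inv_mem hp }
    have hle : D.P ≤ N.map D.P.subtype := by
      have key : ∀ d : D.P, (d : T) ∈ ({A, U, Cc} : Set T) → (d : T) ∈ N.map D.P.subtype := fun d hd => by
        obtain ⟨ζ, hζ, e⟩ := h _ hd
        refine ⟨d, ?_, rfl⟩
        have : β d * d⁻¹ = ζ := mul_inv_eq_iff_eq_mul.2 (Subtype.ext e)
        show β d * d⁻¹ ∈ center D.P
        rw [this]; exact hζ
      exact hPgen _ (key (a : D.P) (Or.inl rfl)) (key (u : D.P) (Or.inr (Or.inl rfl)))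
        (key c (Or.inr (Or.inr rfl)))
    obtain ⟨p', hp', e⟩ := hle p.2
    exact Subtype.ext e ▸ hp'
  -- a suitable involution and conjugating element
  have hA2 : A ^ 2 = zT := by rw [hA, ← map_pow, hsq a haR]
  have hU2 : U ^ 2 = zT := by rw [hU, ← map_pow, hsq u huR]
  have hAU : A * U * A⁻¹ = U⁻¹ := by rw [hA, hU, ← map_inv, ← map_mul, ← map_mul, hinvr a u hau, map_inv]
  have hcomm := D.hyp.gen.commutator_comm
  obtain ⟨w, hwW, hw1, hwz, haw, g, hga, hgu⟩ : ∃ w ∈ D.W, w ≠ 1 ∧ w ≠ zT ∧ Commute A w ∧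
      ∃ g : T, g * A * g⁻¹ = w * A ∧ g * U * g⁻¹ * U⁻¹ ∈ D.W := by
    by_cases hzZ' : zT ∈ center T
    · obtain ⟨w, hw, h1, h2⟩ := D.exists_W_ne zT
      have hc2 : A ^ 2 ∈ center T := hA2 ▸ hzZ'
      have hinvA := D.hyp.inverts haΦ hc2
      obtain ⟨g, hg⟩ := D.hyp.cover D.hnc haΦ hc2 w hw.1
      have hAw : Commute A w := by
        refine mul_inv_eq_iff_eq_mul.1 ?_
        rw [hinvA w hw.1, inv_eq_of_mul_eq_one_right]
        rw [← sq, D.W_sq hw]
      refine ⟨w, hw, h1, h2, hAw, g, hg,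
        mul_mem ((inferInstance : (commutator T).Normal).conj_mem U hu' g) (inv_mem hu'), ?_⟩
      rw [(show Commute (g * U * g⁻¹) U⁻¹ from hcomm _
        ((inferInstance : (commutator T).Normal).conj_mem U hu' g) _ (inv_mem hu')).mul_pow, conj_pow, inv_pow,
        hU2, mem_center_iff.1 hzZ' g, mul_inv_cancel_right, mul_inv_cancel]
    · obtain ⟨x, hx⟩ : ∃ x : T, x * zT * x⁻¹ ≠ zT := by
        by_contra! hall
        exact hzZ' (mem_center_iff.2 fun x => mul_inv_eq_iff_eq_mul.1 (hall x))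
      have hxz : x * zT * x⁻¹ = zT * z0 := (hconj x zT hzW).resolve_left hx
      have hzz0 : z0 ≠ zT := fun h => hzZ' (h ▸ hz0Z)
      have hconjc : ∀ e : T, e * U * e⁻¹ ∈ commutator T := fun e =>
        (inferInstance : (commutator T).Normal).conj_mem U hu' e
      set v := x * U * x⁻¹ * U⁻¹ with hv
      have hvc : v ∈ commutator T := mul_mem (hconjc x) (inv_mem hu')
      have hv2 : v ^ 2 = z0 := by
        rw [hv, (show Commute (x * U * x⁻¹) U⁻¹ from hcomm _ (hconjc x) _ (inv_mem hu')).mul_pow, conj_pow,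
          inv_pow, hU2, hxz, mul_inv_eq_iff_eq_mul]
        exact (mem_center_iff.1 hz0Z zT)
      have hk : A * x * A⁻¹ * x⁻¹ ∈ commutator T := by
        rw [_root_.commutator_def]
        exact commutator_mem_commutator (mem_top A) (mem_top x)
      have hAv : A * v⁻¹ * A⁻¹ = v := by
        set k := A * x * A⁻¹ * x⁻¹
        have hxi : x * U⁻¹ * x⁻¹ ∈ commutator T := (inferInstance : (commutator T).Normal).conj_mem _ (inv_mem hu') x
        calc A * v⁻¹ * A⁻¹ = (A * U * A⁻¹) * (k * (x * (A * U⁻¹ * A⁻¹) * x⁻¹) * k⁻¹) := by rw [hv]; simp only [k]; group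
          _ = U⁻¹ * (x * U * x⁻¹) := by
            rw [hAU, show A * U⁻¹ * A⁻¹ = U by rw [← conj_inv, hAU, inv_inv],
              hcomm k hk _ (hconjc x), mul_inv_cancel_right]
          _ = v := hcomm _ (inv_mem hu') _ (hconjc x)
      refine ⟨z0, hz0W, hz01, hzz0, mem_center_iff.1 hz0Z A, v, ?_, ?_⟩
      · rw [show v * A * v⁻¹ = v * (A * v⁻¹ * A⁻¹) * A by group, hAv, ← sq, hv2]
      · rw [hcomm v hvc U hu', mul_inv_cancel_right, mul_inv_cancel]
        exact one_mem _
  have hWz : ∀ w' ∈ D.W, Commute A w' := by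
    have hle : D.W ≤ centralizer {A} := by
      have hM : D.W ⊓ centralizer {A} = D.W := by
        refine eq_of_le_of_card_ge inf_le_left ?_
        have hzM : zT ∈ D.W ⊓ centralizer {A} :=
          Subgroup.mem_inf.2 ⟨hzW, mem_centralizer_singleton_iff.2 (hA2 ▸ (Commute.self_pow A 2).symm.eq)⟩
        have hwM : w ∈ D.W ⊓ centralizer {A} := Subgroup.mem_inf.2 ⟨hwW, mem_centralizer_singleton_iff.2 haw.symm⟩
        have h3 : 3 ≤ Nat.card (D.W ⊓ centralizer {A} : Subgroup T) := by
          classical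
          haveI := Fintype.ofFinite (D.W ⊓ centralizer {A} : Subgroup T)
          rw [Nat.card_eq_fintype_card]
          refine le_trans (le_of_eq ?_) (Finset.card_le_univ
            ({1, ⟨zT, hzM⟩, ⟨w, hwM⟩} : Finset (D.W ⊓ centralizer {A} : Subgroup T)))
          rw [Finset.card_insert_of_notMem, Finset.card_insert_of_notMem, Finset.card_singleton]
          · simp only [Finset.mem_singleton, Subtype.mk.injEq]; exact Ne.symm hwz
          · simp only [Finset.mem_insert, Finset.mem_singleton, not_or, Subtype.ext_iff]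
            exact ⟨Ne.symm hzT1, Ne.symm hw1⟩
        have h4 : Nat.card (D.W ⊓ centralizer {A} : Subgroup T) ∣ 4 :=
          D.card_W ▸ card_dvd_of_le inf_le_left
        have := Nat.le_of_dvd (by norm_num) h4
        rw [D.card_W]
        interval_cases hcc : Nat.card (D.W ⊓ centralizer {A} : Subgroup T) <;> omega
      exact inf_eq_left.1 hM
    exact fun w' hw' => (mem_centralizer_singleton_iff.1 (hle hw')).symm
  obtain ⟨hPW, hWP⟩ := D.W_central (a : D.P).2 haΦ hWz
  have hWZ : ∀ (w' : T) (hw' : w' ∈ D.W), (⟨w', hWP hw'⟩ : D.P) ∈ center D.P := fun w' hw' =>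
    mem_center_iff.2 fun p => Subtype.ext (hPW p.1 p.2 w' hw').eq
  have hcA : Commute A Cc := congrArg Subtype.val (hCR c hc a).symm.eq
  have hcU : Commute U Cc := congrArg Subtype.val (hCR c hc u).symm.eq
  have hgen_cent : ∀ (p : T) (hp : p ∈ D.P), Commute A p → Commute U p → (⟨p, hp⟩ : D.P) ∈ center D.P := by
    intro p hp h1 h2
    obtain ⟨i, r, hr, e⟩ := hdec ⟨p, hp⟩
    have hci : c ^ i ∈ center D.P := zpow_mem (hfix_center c hc) i
    have hcomm1 : ∀ d : D.R, Commute (f d) p → d * ⟨r, hr⟩ = ⟨r, hr⟩ * d := fun d hd => by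
      have hd' : Commute (d : D.P) (⟨p, hp⟩ : D.P) := Subtype.ext hd
      have := hd'.mul_right (show Commute (d : D.P) (c ^ i)⁻¹ from mem_center_iff.1 (inv_mem hci) _)
      rw [e, ← mem_center_iff.1 hci r, mul_inv_cancel_right] at this
      exact Subtype.ext this.eq
    rw [e]
    refine mul_mem hci ?_
    rcases hcentR ⟨r, hr⟩ (hcomm1 a h1) (hcomm1 u h2) with h | h
    · rw [show r = 1 from congrArg Subtype.val h]; exact one_mem _
    · rw [show r = (z : D.P) from congrArg Subtype.val h]; exact hzZ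
  set M : Subgroup T := centralizer {A, U} with hM
  have hMmem : ∀ q, q ∈ M ↔ Commute A q ∧ Commute U q := fun q => by
    rw [hM, mem_centralizer_iff]; simp [Commute, SemiconjBy]
  have hMP : M ≤ D.P := D.le_P_of_grow M fun q hq hqn => by
    obtain ⟨hqA, hqU⟩ := (hMmem q).1 hq
    have hCM : Cc ∈ M ⊓ D.P := Subgroup.mem_inf.2 ⟨(hMmem _).2 ⟨hcA, hcU⟩, c.2⟩
    have h3 := Subgroup.mem_inf.1 (hqn _ hCM)
    have h1 : q * A * q⁻¹ = A := by rw [← hqA.eq, mul_inv_cancel_right]
    have h2 : q * U * q⁻¹ = U := by rw [← hqU.eq, mul_inv_cancel_right]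
    refine hinner q (hnorm q (h1.symm ▸ (a : D.P).2) (h2.symm ▸ (u : D.P).2) h3.2) fun d hd => ?_
    rcases hd with rfl | rfl | rfl
    · exact ⟨1, one_mem _, by rw [h1, Subgroup.coe_one, one_mul]⟩
    · exact ⟨1, one_mem _, by rw [h2, Subgroup.coe_one, one_mul]⟩
    · obtain ⟨h3a, h3u⟩ := (hMmem _).1 h3.1
      exact ⟨⟨_, h3.2⟩ * c⁻¹, mul_mem (hgen_cent _ h3.2 h3a h3u) (inv_mem (hfix_center c hc)),
        by rw [Subgroup.coe_mul, Subgroup.coe_inv, ← hCc, inv_mul_cancel_right]⟩
  set d := g * U * g⁻¹ * U⁻¹ with hd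
  have hgU : g * U * g⁻¹ = d * U := by rw [hd, inv_mul_cancel_right]
  have hMeq : M.map (MulAut.conj g).toMonoidHom = M := by
    refine (eq_of_le_of_card_ge ?_ (card_map_of_injective (MulEquiv.injective _)).le).symm
    intro q hq
    obtain ⟨hqA, hqU⟩ := (hMmem q).1 hq
    refine ⟨g⁻¹ * q * g, ?_, by simp [mul_assoc]⟩
    have key : ∀ X : T, Commute q (g * X * g⁻¹) → Commute X (g⁻¹ * q * g) := fun X h => by
      show _ = _
      calc X * (g⁻¹ * q * g) = g⁻¹ * ((g * X * g⁻¹) * q) * g := by group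
        _ = g⁻¹ * (q * (g * X * g⁻¹)) * g := by rw [h.eq]
        _ = _ := by group
    exact (hMmem _).2 ⟨key A (by rw [hga]; exact (hPW q (hMP hq) w hwW).mul_right hqA.symm),
      key U (by rw [hgU]; exact (hPW q (hMP hq) d hgu).mul_right hqU.symm)⟩
  have hgC : g * Cc * g⁻¹ ∈ M := hMeq ▸ mem_map_of_mem _ ((hMmem _).2 ⟨hcA, hcU⟩)
  have hgP : g ∈ D.P := by
    refine hinner g (hnorm g (hga.symm ▸ mul_mem (hWP hwW) (a : D.P).2) (hgU.symm ▸ mul_mem (hWP hgu) (u : D.P).2)
      (hMP hgC)) fun e he => ?_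
    rcases he with rfl | rfl | rfl
    · exact ⟨_, hWZ w hwW, hga⟩
    · exact ⟨_, hWZ d hgu, hgU⟩
    · obtain ⟨h3a, h3u⟩ := (hMmem _).1 hgC
      exact ⟨⟨_, hMP hgC⟩ * c⁻¹, mul_mem (hgen_cent _ (hMP hgC) h3a h3u) (inv_mem (hfix_center c hc)),
        by rw [Subgroup.coe_mul, Subgroup.coe_inv, ← hCc, inv_mul_cancel_right]⟩
  obtain ⟨i, r, hr, e⟩ := hdec ⟨g, hgP⟩
  have hgr : g = Cc ^ i * f ⟨r, hr⟩ := congrArg Subtype.val e
  have hR : f (⟨r, hr⟩ * a * (⟨r, hr⟩ : D.R)⁻¹ * a⁻¹) = w := by
    have hci := hcA.zpow_right i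
    have h1 : f (⟨r, hr⟩ * a * (⟨r, hr⟩ : D.R)⁻¹) = w * A := by
      rw [map_mul, map_mul, map_inv, ← hA]
      have h2 : Cc ^ i * (f ⟨r, hr⟩ * A * (f ⟨r, hr⟩)⁻¹) * (Cc ^ i)⁻¹ = w * A := by
        rw [← hga, hgr]; group
      calc f ⟨r, hr⟩ * A * (f ⟨r, hr⟩)⁻¹
          = (Cc ^ i)⁻¹ * (Cc ^ i * (f ⟨r, hr⟩ * A * (f ⟨r, hr⟩)⁻¹) * (Cc ^ i)⁻¹) * Cc ^ i := by group
        _ = w * A := by
          rw [h2, mul_assoc, ← (show Commute (Cc ^ i) (w * A) from
            ((hPW _ c.2 w hwW).zpow_left i).mul_right hci.symm).eq, inv_mul_cancel_left]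
    rw [map_mul, h1, map_inv, ← hA, mul_inv_cancel_right]
  by_cases hra : (⟨r, hr⟩ : D.R) * a = a * ⟨r, hr⟩
  · rw [hra, mul_inv_cancel_right, mul_inv_cancel, map_one] at hR
    exact hw1 hR.symm
  · rw [hinvr _ _ hra, ← mul_inv_rev, ← sq, hsq a haR, inv_eq_of_mul_eq_one_right (by rw [← sq, hz2])] at hR
    exact hwz hR.symm

end Data

end Cfsg.Lib.Bicyclic
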