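import Cfsg.Agent.PGroups.Bicyclic.CaseFour
import Cfsg.Agent.PGroups.Bicyclic.CaseHomo
import Cfsg.Agent.PGroups.Bicyclic.CaseQuat

/-!
A non-inner saturated fusion system over a bicyclic non-metacyclic 2-group forces a cyclic derived subgroup.
-/

set_option autoImplicit false
set_option linter.unusedSectionVars false
set_option linter.style.haveILetI false

namespace Cfsg.Lib.Bicyclic

open Subgroup
open scoped commutatorElement

universe u

variable {T : Type u} [Group T] [Finite T]

/-- an automorphism of a group of order 4 with a fixed element other than 1 is an involution -/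
theorem sq_apply_of_fixed {Q : Type*} [Group Q] [Finite Q] (hQ : Nat.card Q = 4) (σ : MulAut Q) {r : Q}
    (hr : r ≠ 1) (hσ : σ r = r) (s : Q) : σ (σ s) = s := by
  classical
  by_cases hs : σ s = s
  · rw [hs, hs]
  have hs1 : s ≠ 1 := fun h => hs (by rw [h, map_one])
  have hsr : s ≠ r := fun h => hs (by rw [h, hσ])
  have h1 : σ s ≠ 1 := fun h => hs1 ((map_eq_one_iff _ σ.injective).1 h)
  have h2 : σ s ≠ r := fun h => hsr (σ.injective (h.trans hσ.symm))
  haveI := Fintype.ofFinite Q
  have hu : ({1, r, s, σ s} : Finset Q) = Finset.univ := Finset.eq_univ_of_card _ (by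
    rw [← Nat.card_eq_fintype_card, hQ, Finset.card_insert_of_notMem, Finset.card_insert_of_notMem,
      Finset.card_insert_of_notMem, Finset.card_singleton]
    · simp only [Finset.mem_singleton]; exact Ne.symm hs
    · simp only [Finset.mem_insert, Finset.mem_singleton, not_or]; exact ⟨hsr.symm, h2.symm⟩
    · simp only [Finset.mem_insert, Finset.mem_singleton, not_or]; exact ⟨hr.symm, hs1.symm, h1.symm⟩)
  have hm : σ (σ s) ∈ ({1, r, s, σ s} : Finset Q) := hu ▸ Finset.mem_univ _
  simp only [Finset.mem_insert, Finset.mem_singleton] at hm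
  rcases hm with h | h | h | h
  · exact absurd ((map_eq_one_iff _ σ.injective).1 h) h1
  · exact absurd (σ.injective (h.trans hσ.symm)) h2
  · exact h
  · exact absurd (σ.injective h) hs

/-- if the automorphism group is no 2-group then the derived subgroup is cyclic -/
theorem Hyp.isCyclic_of_aut (H : Hyp T) (hA : ¬ IsPGroup 2 (MulAut T)) : IsCyclic (commutator T) := by
  haveI : Fact (Nat.Prime 2) := ⟨Nat.prime_two⟩
  obtain ⟨q, hq, hq2, hqd⟩ : ∃ q, q.Prime ∧ q ≠ 2 ∧ q ∣ Nat.card (MulAut T) := by
    by_contra! hno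
    refine hA (IsPGroup.of_card (n := (Nat.card (MulAut T)).primeFactorsList.length) ?_)
    refine Nat.eq_prime_pow_of_unique_prime_dvd Nat.card_pos.ne' fun {d} hd hdd => ?_
    by_contra h
    exact hno d hd h hdd
  haveI : Fact q.Prime := ⟨hq⟩
  obtain ⟨α, hα⟩ := exists_prime_orderOf_dvd_card' q hqd
  have hαq : α ^ q = 1 := hα ▸ pow_orderOf_eq_one α
  have hα1 : α ≠ 1 := fun h => hq.ne_one (by rw [← hα, h, orderOf_one])
  have hfp : ∀ r, α r * r⁻¹ ∈ frattini T → r ∈ frattini T := by
    intro r hr
    by_contra hrΦ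
    apply hα1
    let σ : MulAut (T ⧸ frattini T) := QuotientGroup.congr _ _ α
      (characteristic_iff_map_eq.1 frattini_characteristic α)
    have hσ : ∀ s : T, σ (s : T ⧸ frattini T) = ((α s : T) : T ⧸ frattini T) := fun s => rfl
    have hfix : σ (r : T ⧸ frattini T) = r := by
      rw [hσ]
      exact QuotientGroup.eq_iff_div_mem.2 (by rwa [div_eq_mul_inv])
    have h2 : ∀ s, (α ^ 2) s * s⁻¹ ∈ frattini T := fun s => by
      rw [← div_eq_mul_inv, ← QuotientGroup.eq_iff_div_mem, sq, MulAut.mul_apply, ← hσ, ← hσ]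
      exact sq_apply_of_fixed H.card_quot σ (fun h => hrΦ ((QuotientGroup.eq_one_iff _).1 h)) hfix _
    have h3 := eq_one_of_stab H.two hq hq2 (α ^ 2) (by rw [← pow_mul, mul_comm, pow_mul, hαq, one_pow]) h2
    obtain ⟨w, hw⟩ := hq.odd_of_ne_two hq2
    rw [hw, pow_add, pow_mul, h3, one_pow, one_mul, pow_one] at hαq
    exact hαq
  rcases homo_or_quat H.two α hfp hA (by rw [index_eq_card, H.card_quot]) (H.gen.two_gen H.two le_rfl) with
    ⟨k, hk⟩ | ⟨z, hz1, hz2, hall, hzc, hinv⟩
  · have h0 : commutator T = ⊥ := by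
      rw [_root_.commutator_def, eq_bot_iff, commutator_le]
      intro a _ b _
      rw [mem_bot, commutatorElement_eq_one_iff_mul_comm]
      exact hk.2.1 a b
    rw [h0]
    infer_instance
  · have hle : commutator T ≤ zpowers z := by
      rw [_root_.commutator_def, commutator_le]
      intro g _ h _
      by_cases hgh : g * h = h * g
      · rw [commutatorElement_eq_one_iff_mul_comm.2 hgh]; exact one_mem _
      · have hh : h ^ 2 = z := by
          rcases hall h with e | e | e
          · exact absurd (by rw [e, one_mul, mul_one]) hgh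
          · exact absurd (by rw [e, hzc]) hgh
          · exact e
        rw [commutatorElement_def, hinv g h hgh, ← mul_inv_rev, ← sq, hh]
        exact inv_mem (mem_zpowers z)
    exact isCyclic_of_injective (inclusion hle) (inclusion_injective hle)

/-- the first half of the theorem -/
theorem isCyclic_of_noninner {Ω : Type u} [Group Ω] {S : Subgroup Ω} [Finite S] (H : Hyp S)
    {F : Cfsg.FusionSystem S} (hF : F.IsSaturated 2)
    (hni : ¬ ∀ P : Subgroup Ω, F.Hom P = (Cfsg.innerFusionSystem S).Hom P) : IsCyclic (commutator S) := by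
  by_contra hnc
  rcases Fusion.exists_twoSite_or H.two hF hni with ⟨⟨s⟩⟩ | hA
  · obtain ⟨D⟩ := exists_data H hnc s
    rcases D.shape with ⟨k, hk⟩ | hQ
    · obtain rfl | hk2 : k = 1 ∨ 2 ≤ k := by have := hk.1; omega
      · exact D.false_of_four hk
      · exact hnc (D.isCyclic_of_homo hk2 hk)
    · exact D.false_of_quat hQ
  · exact hnc (H.isCyclic_of_aut hA)

end Cfsg.Lib.Bicyclic
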