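import Cfsg.Agent.PGroups.Bicyclic.Meta
import Cfsg.Agent.PGroups.HomocyclicRankTwo
import Cfsg.Agent.PGroups.CommutatorIndexFour

/-!
2-groups with two generators, a fixed-point-free automorphism on the Frattini quotient and a two-generated
Frattini subgroup: homocyclic, or quaternion of order 8.
-/

set_option autoImplicit false
set_option linter.unusedSectionVars false
set_option linter.style.haveILetI false

namespace Cfsg.Lib.Bicyclic

open Subgroup
open scoped commutatorElement

universe u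

variable {R : Type u} [Group R] [Finite R]

theorem frattini_le_closure_sq (hR : IsPGroup 2 R) :
    frattini R ≤ closure (Set.range fun g : R => g ^ 2) := by
  haveI : Fact (Nat.Prime 2) := ⟨Nat.prime_two⟩
  set N := closure (Set.range fun g : R => g ^ 2) with hN
  haveI : N.Normal := ⟨fun n hn g => by
    have : N ≤ N.comap (MulAut.conj g).toMonoidHom := by
      rw [hN, closure_le]
      rintro _ ⟨k, rfl⟩
      exact subset_closure ⟨g * k * g⁻¹, by simp⟩
    exact this hn⟩
  refine PGroups.SpecialCoprime.frattini_le_of_elementary (p := 2) N (fun g => subset_closure ⟨g, rfl⟩) ?_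
  rw [_root_.commutator_def, commutator_le]
  intro a _ b _
  rw [show ⁅a, b⁆ = a ^ 2 * (a⁻¹ * b) ^ 2 * (b⁻¹) ^ 2 by rw [commutatorElement_def, sq, sq, sq]; group]
  exact mul_mem (mul_mem (subset_closure ⟨a, rfl⟩) (subset_closure ⟨_, rfl⟩)) (subset_closure ⟨_, rfl⟩)

/-- no invariant subgroup of index 2 when the fixed points on the Frattini quotient are trivial -/
theorem no_invariant (hR : IsPGroup 2 R) (α : MulAut R) (hfp : ∀ r, α r * r⁻¹ ∈ frattini R → r ∈ frattini R)
    (M : Subgroup R) (hM : M.index = 2) (hinv : ∀ m ∈ M, α m ∈ M) : False := by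
  haveI : Fact (Nat.Prime 2) := ⟨Nat.prime_two⟩
  haveI hMn : M.Normal := normal_of_index_eq_two hM
  have hΦM : frattini R ≤ M := (frattini_le_closure_sq hR).trans ((closure_le _).2 (by
    rintro _ ⟨g, rfl⟩
    have := M.pow_index_mem g
    rwa [hM] at this))
  have hα : ∀ r, α r * r⁻¹ ∈ M := fun r => by
    by_cases hr : r ∈ M
    · exact mul_mem (hinv r hr) (inv_mem hr)
    · have hαr : α r ∉ M := fun h => hr (by
        have hMeq : M.map α.toMonoidHom = M := eq_of_le_of_card_ge
          (by rintro _ ⟨m, hm, rfl⟩; exact hinv m hm) (card_map_of_injective α.injective).ge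
        rw [← hMeq] at h
        obtain ⟨m, hm, e⟩ := h
        exact α.injective e ▸ hm)
      exact (mul_mem_iff_of_index_two hM).2 (iff_of_false hαr (fun h => hr (inv_mem_iff.1 h)))
  -- the map `r ↦ α r * r⁻¹` is onto modulo `Φ`
  have hΦα : ∀ r, r ∈ frattini R → α r ∈ frattini R := fun r hr =>
    (characteristic_iff_map_le.1 frattini_characteristic α) (mem_map_of_mem _ hr)
  let f : R ⧸ frattini R → R ⧸ frattini R :=
    Quotient.lift (fun r : R => ((α r * r⁻¹ : R) : R ⧸ frattini R)) fun r s h => by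
      haveI := PGroups.isMulCommutative_quotient_frattini hR
      have hrs : r⁻¹ * s ∈ frattini R := QuotientGroup.leftRel_apply.1 h
      simp only [QuotientGroup.mk_mul, QuotientGroup.mk_inv]
      have e1 : (s : R ⧸ frattini R) = r := ((QuotientGroup.eq (s := frattini R)).2 hrs).symm
      have e2 : ((α s : R) : R ⧸ frattini R) = α r := ((QuotientGroup.eq (s := frattini R)).2 (by
        rw [← map_inv, ← map_mul]; exact hΦα _ hrs)).symm
      rw [e1, e2]
  have hf : Function.Injective f := by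
    intro p q hpq
    obtain ⟨r, rfl⟩ := QuotientGroup.mk_surjective p
    obtain ⟨s, rfl⟩ := QuotientGroup.mk_surjective q
    haveI hc := PGroups.isMulCommutative_quotient_frattini hR
    change ((α r * r⁻¹ : R) : R ⧸ frattini R) = ((α s * s⁻¹ : R) : R ⧸ frattini R) at hpq
    refine QuotientGroup.eq.2 (hfp _ ?_)
    rw [← QuotientGroup.eq_one_iff, map_mul, map_inv, QuotientGroup.mk_mul, QuotientGroup.mk_mul,
      QuotientGroup.mk_inv, QuotientGroup.mk_inv, QuotientGroup.mk_mul, QuotientGroup.mk_inv]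
    rw [QuotientGroup.mk_mul, QuotientGroup.mk_mul, QuotientGroup.mk_inv, QuotientGroup.mk_inv] at hpq
    have cm : ∀ u v : R ⧸ frattini R, u * v = v * u := hc.is_comm.comm
    generalize (r : R ⧸ frattini R) = r' at hpq ⊢
    generalize (s : R ⧸ frattini R) = s' at hpq ⊢
    generalize ((α r : R) : R ⧸ frattini R) = a at hpq ⊢
    generalize ((α s : R) : R ⧸ frattini R) = b at hpq ⊢
    rw [mul_inv_eq_one]
    calc a⁻¹ * b = a⁻¹ * (b * s'⁻¹) * s' := by group
      _ = r'⁻¹ * s' := by rw [← hpq]; group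
  have hMtop : M = ⊤ := top_le_iff.1 fun r _ => by
    obtain ⟨q, hq⟩ := Finite.surjective_of_injective hf (r : R ⧸ frattini R)
    obtain ⟨s, rfl⟩ := QuotientGroup.mk_surjective q
    change ((α s * s⁻¹ : R) : R ⧸ frattini R) = r at hq
    convert mul_mem (hα s) (hΦM (QuotientGroup.eq.1 hq)) using 1
    group
  rw [hMtop, index_top] at hM
  omega

/-- the data of a homocyclic group `C_{2^k} × C_{2^k}` we need -/
def Homo (k : ℕ) (R : Type u) [Group R] : Prop :=
  1 ≤ k ∧ (∀ r s : R, r * s = s * r) ∧ (∀ r : R, r ^ 2 ^ k = 1) ∧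
    (∀ r : R, r ^ 2 ^ (k - 1) = 1 → r ∈ frattini R) ∧ ∀ r ∈ frattini R, ∃ s : R, s ^ 2 = r

theorem homo_of_comm (hR : IsPGroup 2 R) (hc : ∀ r s : R, r * s = s * r) (α : MulAut R)
    (hfp : ∀ r, α r * r⁻¹ ∈ frattini R → r ∈ frattini R) (hidx : (frattini R).index = 4) :
    ∃ k, Homo k R := by
  haveI : Fact (Nat.Prime 2) := ⟨Nat.prime_two⟩
  letI : CommGroup R := { (inferInstance : Group R) with mul_comm := hc }
  rcases PGroups.char_index_or_homocyclic hR (p := 2) hidx with ⟨M, hM, hMi⟩ | ⟨k, hk, hexp, ⟨e⟩⟩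
  · exact (no_invariant hR α hfp M hM (hMi α)).elim
  refine ⟨k, hk, hc, hexp, fun r hr => ?_, fun r hr => ?_⟩
  · rw [PGroups.frattini_eq_range_pow hR]
    have h1 : (2 ^ (k - 1) : ℕ) • (e r).toAdd = 0 := by
      rw [← toAdd_pow, ← map_pow, hr, map_one, toAdd_one]
    haveI : NeZero (2 ^ k) := ⟨(Nat.two_pow_pos k).ne'⟩
    have half : ∀ z : ZMod (2 ^ k), (2 ^ (k - 1) : ℕ) • z = 0 → ∃ w, z = w + w := by
      intro z hz
      rw [nsmul_eq_mul, ← ZMod.natCast_zmod_val z, ← Nat.cast_mul, ZMod.natCast_eq_zero_iff] at hz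
      have h2 : 2 ∣ z.val := by
        generalize z.val = v at hz ⊢
        rw [show 2 ^ k = 2 ^ (k - 1) * 2 by rw [← pow_succ, Nat.sub_add_cancel hk]] at hz
        exact Nat.dvd_of_mul_dvd_mul_left (Nat.two_pow_pos _) hz
      obtain ⟨w, hw⟩ := h2
      exact ⟨(w : ZMod (2 ^ k)), by rw [← Nat.cast_add, ← two_mul, ← hw, ZMod.natCast_zmod_val]⟩
    obtain ⟨w1, hw1⟩ := half (e r).toAdd.1 (congrArg Prod.fst h1)
    obtain ⟨w2, hw2⟩ := half (e r).toAdd.2 (congrArg Prod.snd h1)
    refine ⟨e.symm (Multiplicative.ofAdd (w1, w2)), e.injective ?_⟩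
    rw [powMonoidHom_apply, map_pow, MulEquiv.apply_symm_apply, sq]
    exact Multiplicative.toAdd.injective (Prod.ext hw1.symm hw2.symm)
  · rw [PGroups.frattini_eq_range_pow hR] at hr
    exact hr

/-- the quaternion data -/
def Quat (R : Type u) [Group R] : Prop :=
  ∃ z : R, z ≠ 1 ∧ z ^ 2 = 1 ∧ (∀ g : R, g = 1 ∨ g = z ∨ g ^ 2 = z) ∧ (∀ g : R, g * z = z * g) ∧
    ∀ g h : R, g * h ≠ h * g → g * h * g⁻¹ = h⁻¹

theorem quat_of_equiv (e : R ≃* QuaternionGroup 2) : Quat R := by
  have h0 : ∃ z : QuaternionGroup 2, z ≠ 1 ∧ z ^ 2 = 1 ∧ (∀ g, g = 1 ∨ g = z ∨ g ^ 2 = z) ∧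
      (∀ g, g * z = z * g) ∧ ∀ g h : QuaternionGroup 2, g * h ≠ h * g → g * h * g⁻¹ = h⁻¹ :=
    ⟨.a 2, by decide, by decide, by decide, by decide, by decide⟩
  obtain ⟨z, h1, h2, h3, h4, h5⟩ := h0
  refine ⟨e.symm z, fun h => h1 (by simpa using congrArg e h), by rw [← map_pow, h2, map_one],
    fun g => ?_, fun g => ?_, fun g h hgh => ?_⟩
  · rcases h3 (e g) with h | h | h
    · exact Or.inl (e.injective (by rw [h, map_one]))
    · exact Or.inr (Or.inl (e.injective (by rw [h, MulEquiv.apply_symm_apply])))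
    · exact Or.inr (Or.inr (e.injective (by rw [map_pow, h, MulEquiv.apply_symm_apply])))
  · exact e.injective (by simp [h4 (e g)])
  · refine e.injective ?_
    rw [map_mul, map_mul, map_inv, map_inv, h5 (e g) (e h) fun he => hgh (e.injective (by simp [he]))]

/-- homocyclic or quaternion -/
theorem homo_or_quat (hR : IsPGroup 2 R) (α : MulAut R) (hfp : ∀ r, α r * r⁻¹ ∈ frattini R → r ∈ frattini R)
    (hα2 : ¬ IsPGroup 2 (MulAut R)) (hidx : (frattini R).index = 4)
    (hgen : ∃ g k : R, closure ({g, k} : Set R) = frattini R) : (∃ k, Homo k R) ∨ Quat R := by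
  haveI : Fact (Nat.Prime 2) := ⟨Nat.prime_two⟩
  by_cases hc : ∀ r s : R, r * s = s * r
  · exact Or.inl (homo_of_comm hR hc α hfp hidx)
  right
  have hna : ¬ IsMulCommutative R := fun h => hc h.is_comm.comm
  -- the abelianisation
  set C := commutator R with hC
  set π := QuotientGroup.mk' C with hπ
  have hπs : Function.Surjective π := QuotientGroup.mk'_surjective _
  have hQ : IsPGroup 2 (R ⧸ C) := hR.to_quotient _
  have hQc : ∀ p q : R ⧸ C, p * q = q * p :=
    (Normal.quotient_commutative_iff_commutator_le.mpr (le_refl C)).is_comm.comm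
  have hCΦ : C ≤ frattini R := PGroups.commutator_le_frattini hR
  have hΦQ : ∀ r : R, π r ∈ frattini (R ⧸ C) ↔ r ∈ frattini R := by
    intro r
    refine ⟨fun h => ?_, fun h => frattini_le_comap_frattini_of_surjective hπs h⟩
    have : frattini (R ⧸ C) ≤ (frattini R).map π := (frattini_le_closure_sq hQ).trans ((closure_le _).2 (by
      rintro _ ⟨q, rfl⟩
      obtain ⟨s, rfl⟩ := hπs q
      exact ⟨s ^ 2, PGroups.pow_mem_frattini hR s, map_pow π s 2⟩))
    obtain ⟨s, hs, e⟩ := this h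
    simpa using mul_mem hs (hCΦ (QuotientGroup.eq.1 e))
  have hCmap : C.map α.toMonoidHom = C := characteristic_iff_map_eq.1 inferInstance α
  set β : MulAut (R ⧸ C) := QuotientGroup.congr C C α hCmap with hβ
  have hβa : ∀ r, β (π r) = π (α r) := fun r => rfl
  have hfpQ : ∀ q, β q * q⁻¹ ∈ frattini (R ⧸ C) → q ∈ frattini (R ⧸ C) := by
    intro q hq
    obtain ⟨r, rfl⟩ := hπs q
    rw [hβa, ← map_inv, ← map_mul, hΦQ] at hq
    exact (hΦQ r).2 (hfp r hq)
  have hidxQ : (frattini (R ⧸ C)).index = 4 := by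
    rw [← hidx, show frattini R = (frattini (R ⧸ C)).comap π from Subgroup.ext fun r => (hΦQ r).symm,
      index_comap_of_surjective _ hπs]
  obtain ⟨k, hk, -, hexp, hord, hroot⟩ := homo_of_comm hQ hQc β hfpQ hidxQ
  obtain rfl | hk2 : k = 1 ∨ 2 ≤ k := by omega
  · refine quat_of_equiv (IndexFour.quaternion_of_aut hR hna ?_ hα2).some
    have hbot : frattini (R ⧸ C) = ⊥ := (eq_bot_iff_forall _).2 fun q hq => by
      obtain ⟨s, rfl⟩ := hroot q hq
      simpa using hexp s
    rw [hbot, index_bot, ← Subgroup.index_eq_card] at hidxQ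
    exact hidxQ
  exfalso
  -- pass to the quotient by `low R`
  set L := low R with hL
  set ρ := QuotientGroup.mk' L with hρ
  have hρs : Function.Surjective ρ := QuotientGroup.mk'_surjective _
  have hCne : ¬ C ≤ L := by
    intro hCL
    have hCbot : C ≠ ⊥ := fun h => hc fun r s => by
      have : ⁅r, s⁆ ∈ C := by rw [hC, _root_.commutator_def]; exact commutator_mem_commutator (mem_top r) (mem_top s)
      rw [h, mem_bot] at this
      exact commutatorElement_eq_one_iff_mul_comm.1 this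
    obtain ⟨M, ⟨hMn, hMC⟩, hMmax⟩ := Set.Finite.exists_maximal
      (Set.toFinite {M : Subgroup R | M.Normal ∧ M < C}) ⟨⊥, inferInstance, bot_lt_iff_ne_bot.2 hCbot⟩
    haveI := hMn
    obtain ⟨K, hKn, hMK, hKC, hK2⟩ := PGroups.exists_normal_relIndex_prime hR hMC
    obtain rfl : K = C := by
      by_contra hne
      have hMKeq : K = M := le_antisymm (hMmax ⟨hKn, lt_of_le_of_ne hKC hne⟩ hMK) hMK
      rw [hMKeq, relIndex_self] at hK2
      omega
    have hcentral : C.map (QuotientGroup.mk' M) ≤ center (R ⧸ M) := by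
      haveI : (C.map (QuotientGroup.mk' M)).Normal :=
        Subgroup.Normal.map inferInstance _ (QuotientGroup.mk'_surjective _)
      refine PGroups.le_center_of_card_eq_prime (hR.to_quotient M) ?_
      rw [← MonoidHom.domRestrict_range, ← Subgroup.index_ker, MonoidHom.ker_domRestrict, QuotientGroup.ker_mk']
      exact hK2
    have hLM : L ≤ M := by
      refine sup_le ?_ ((closure_le _).2 ?_)
      · rw [commutator_le]
        intro s hs t _
        rw [← QuotientGroup.eq_one_iff, ← QuotientGroup.mk'_apply, map_commutatorElement,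
          commutatorElement_eq_one_iff_mul_comm]
        exact (mem_center_iff.1 (hcentral (mem_map_of_mem _ hs)) _).symm
      · rintro _ ⟨s, hs, rfl⟩
        have := (M.subgroupOf C).pow_index_mem ⟨s, hs⟩
        rw [show (M.subgroupOf C).index = 2 from hK2] at this
        exact this
    exact hMC.not_ge (hCL.trans hLM)
  have hcen : ∀ r ∈ C, ρ r ∈ center (R ⧸ L) := fun r hr => by
    refine mem_center_iff.2 fun q => ?_
    obtain ⟨t, rfl⟩ := hρs q
    refine (commutatorElement_eq_one_iff_mul_comm.1 ?_).symm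
    rw [← map_commutatorElement]
    exact (QuotientGroup.eq_one_iff _).2 (mem_sup_left (commutator_mem_commutator hr (mem_top t)))
  have hC2 : ∀ r ∈ C, ρ r ^ 2 = 1 := fun r hr => by
    rw [← map_pow]; exact (QuotientGroup.eq_one_iff _).2 (mem_sup_right (subset_closure ⟨r, hr, rfl⟩))
  have hcomm : ∀ r s : R, ⁅r, s⁆ ∈ C := fun r s => by
    rw [hC, _root_.commutator_def]; exact commutator_mem_commutator (mem_top r) (mem_top s)
  have hsqc : ∀ q : R ⧸ L, q ^ 2 ∈ center (R ⧸ L) := fun q => by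
    obtain ⟨r, rfl⟩ := hρs q
    refine mem_center_iff.2 fun p => ?_
    obtain ⟨s, rfl⟩ := hρs p
    have hd : ρ r * ρ s * (ρ r)⁻¹ = ρ ⁅r, s⁆ * ρ s := by
      rw [← map_inv, ← map_mul, ← map_mul, ← map_mul, commutatorElement_def]; congr 1; group
    have h2 : ρ r ^ 2 * ρ s * (ρ r ^ 2)⁻¹ = ρ s := by
      calc ρ r ^ 2 * ρ s * (ρ r ^ 2)⁻¹ = ρ r * (ρ r * ρ s * (ρ r)⁻¹) * (ρ r)⁻¹ := by rw [sq]; group
        _ = ρ r * (ρ ⁅r, s⁆ * ρ s) * (ρ r)⁻¹ := by rw [hd]
        _ = (ρ r * ρ ⁅r, s⁆ * (ρ r)⁻¹) * (ρ r * ρ s * (ρ r)⁻¹) := by group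
        _ = ρ ⁅r, s⁆ ^ 2 * ρ s := by
          rw [mem_center_iff.1 (hcen _ (hcomm r s)) (ρ r), mul_inv_cancel_right, hd, sq, mul_assoc]
        _ = ρ s := by rw [hC2 _ (hcomm r s), one_mul]
    exact (mul_inv_eq_iff_eq_mul.1 h2).symm
  set F := (frattini R).map ρ with hF
  have hFc : F ≤ center (R ⧸ L) :=
    (map_mono (frattini_le_closure_sq hR)).trans (by
      rw [MonoidHom.map_closure, closure_le]
      rintro _ ⟨_, ⟨g, rfl⟩, rfl⟩
      rw [map_pow]
      exact hsqc _)
  have hFcomm : ∀ p ∈ F, ∀ q ∈ F, Commute p q := fun p hp q _ => (mem_center_iff.1 (hFc hp) q).symm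
  -- generators of the abelianisation modulo its Frattini subgroup
  obtain ⟨a, ha⟩ : ∃ a : R, a ∉ frattini R := by
    by_contra! h
    rw [(eq_top_iff' _).2 h, index_top] at hidx
    omega
  have hαa : α a * a⁻¹ ∉ frattini R := fun h => ha (hfp a h)
  set b := α a with hb
  have hb' : b ∉ frattini R := fun h => ha (by
    have := (characteristic_iff_map_le.1 frattini_characteristic (α⁻¹ : MulAut R)) (mem_map_of_mem _ h)
    simpa [hb] using this)
  have hab : a * b ∉ frattini R := fun h => hαa (by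
    have h2 := mul_mem (inv_mem (PGroups.pow_mem_frattini hR a)) h
    have : a⁻¹ * b ∈ frattini R := by simpa [sq, mul_assoc] using h2
    simpa [mul_assoc] using (frattini R).mul_mem (frattini R |>.mul_mem (one_mem _) (one_mem _))
      ((inferInstance : (frattini R).Normal).conj_mem _ this a))
  obtain ⟨g0, k0, hgk⟩ := hgen
  let Q4 : Subgroup (R ⧸ L) :=
    { carrier := {q | ∃ f ∈ F, f ^ 2 = q}
      one_mem' := ⟨1, one_mem _, one_pow 2⟩
      mul_mem' := fun {p q} ⟨f, hf, e⟩ ⟨f', hf', e'⟩ => ⟨f * f', mul_mem hf hf', by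
        rw [(hFcomm f hf f' hf').mul_pow, e, e']⟩
      inv_mem' := fun {p} ⟨f, hf, e⟩ => ⟨f⁻¹, inv_mem hf, by rw [inv_pow, e]⟩ }
  haveI : Q4.Normal := ⟨fun q ⟨f, hf, e⟩ p => ⟨f, hf, by
    rw [← e, mem_center_iff.1 (pow_mem (hFc hf) 2) p, mul_inv_cancel_right]⟩⟩
  set σ := QuotientGroup.mk' Q4 with hσ
  set c := ⁅a, b⁆ with hcd
  let pick : Bool × Bool × Bool → R := fun t =>
    (if t.1 then a ^ 2 else 1) * (if t.2.1 then b ^ 2 else 1) * (if t.2.2 then c else 1)
  have hpickΦ : ∀ t, pick t ∈ frattini R := fun t => by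
    refine mul_mem (mul_mem ?_ ?_) ?_ <;> split_ifs <;>
      first | exact one_mem _ | exact PGroups.pow_mem_frattini hR _ | exact hCΦ (hcomm a b)
  classical
  set T : Finset ((R ⧸ L) ⧸ Q4) := {1, σ (ρ g0), σ (ρ k0), σ (ρ g0) * σ (ρ k0)} with hT
  have hσF : ∀ f ∈ F, σ f ^ 2 = 1 := fun f hf => by
    rw [← map_pow]; exact (QuotientGroup.eq_one_iff _).2 ⟨f, hf, rfl⟩
  have hTmem : ∀ t, σ (ρ (pick t)) ∈ T := by
    intro t
    suffices ∀ r ∈ closure ({g0, k0} : Set R), σ (ρ r) ∈ T from this _ (hgk ▸ hpickΦ t)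
    intro r hmem
    have hgF : ρ g0 ∈ F := mem_map_of_mem _ (hgk ▸ subset_closure (by simp))
    have hkF : ρ k0 ∈ F := mem_map_of_mem _ (hgk ▸ subset_closure (by simp))
    have hgk' : σ (ρ g0) * σ (ρ k0) = σ (ρ k0) * σ (ρ g0) := by
      rw [← map_mul σ, ← map_mul σ, (hFcomm _ hgF _ hkF).eq]
    have hsg := hσF _ hgF
    have hsk := hσF _ hkF
    rw [sq] at hsg hsk
    induction hmem using closure_induction with
    | mem z hz =>
      rcases hz with rfl | hz
      · simp [hT]
      · rw [Set.mem_singleton_iff] at hz; subst hz; simp [hT]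
    | one => simp [hT]
    | mul p q _ _ hp hq =>
      simp only [hT, Finset.mem_insert, Finset.mem_singleton, map_mul] at hp hq ⊢
      have e4 : σ (ρ g0) * (σ (ρ g0) * σ (ρ k0)) = σ (ρ k0) := by rw [← mul_assoc, hsg, one_mul]
      have e5 : σ (ρ k0) * (σ (ρ g0) * σ (ρ k0)) = σ (ρ g0) := by
        rw [← mul_assoc, ← hgk', mul_assoc, hsk, mul_one]
      have e6 : σ (ρ g0) * σ (ρ k0) * σ (ρ g0) = σ (ρ k0) := by rw [mul_assoc, ← hgk', ← mul_assoc, hsg, one_mul]
      have e7 : σ (ρ g0) * σ (ρ k0) * σ (ρ k0) = σ (ρ g0) := by rw [mul_assoc, hsk, mul_one]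
      have e8 : σ (ρ g0) * σ (ρ k0) * (σ (ρ g0) * σ (ρ k0)) = 1 := by rw [← mul_assoc, e6, hsk]
      rcases hp with h | h | h | h <;> rcases hq with h' | h' | h' | h' <;>
        simp [h, h', hsg, hsk, ← hgk', e4, e5, e6, e7, e8]
    | inv p hp h =>
      rw [map_inv, map_inv, inv_eq_of_mul_eq_one_right (by
        rw [← sq]; exact hσF _ (mem_map_of_mem _ (hgk ▸ hp)))]
      exact h
  have hpig : ∃ t t', t ≠ t' ∧ σ (ρ (pick t)) = σ (ρ (pick t')) := by
    have hlt : T.card < (Finset.univ : Finset (Bool × Bool × Bool)).card :=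
      lt_of_le_of_lt Finset.card_le_four (by decide)
    obtain ⟨t, -, t', -, hne, he⟩ :=
      Finset.exists_ne_map_eq_of_card_lt_of_maps_to hlt (fun t _ => hTmem t)
    exact ⟨t, t', hne, he⟩
  obtain ⟨t, t', hne, he⟩ := hpig
  obtain ⟨f, hf, hf2⟩ : (ρ (pick t))⁻¹ * ρ (pick t') ∈ Q4 := QuotientGroup.eq.1 he
  obtain ⟨f0, hf0, rfl⟩ := hf
  -- read the relation in the abelianisation
  have rel : π (f0 ^ 2) = π ((pick t)⁻¹ * pick t') := by
    have h1 : (f0 ^ 2)⁻¹ * ((pick t)⁻¹ * pick t') ∈ L := by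
      apply QuotientGroup.eq.1
      show ρ (f0 ^ 2) = ρ ((pick t)⁻¹ * pick t')
      rw [map_pow, hf2, map_mul ρ (pick t)⁻¹ (pick t'), map_inv]
    refine QuotientGroup.eq.2 (?_ : _ ∈ C)
    exact (sup_le (commutator_mono le_rfl le_top |>.trans (commutator_le_left _ _))
      ((closure_le _).2 (by rintro _ ⟨s, hs, rfl⟩; exact pow_mem hs 2)) : L ≤ C) h1
  have hπc : π c = 1 := (QuotientGroup.eq_one_iff _).2 (hcomm a b)
  letI : CommGroup (R ⧸ C) := { (inferInstance : Group (R ⧸ C)) with mul_comm := hQc }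
  have inv2 : ∀ q : R ⧸ C, q ^ 2 = 1 → q ∈ frattini (R ⧸ C) := fun q hq => hord q (by
    rw [show k - 1 = (k - 2) + 1 by omega, pow_succ', pow_mul, hq, one_pow])
  set A := π a
  set B := π b
  have hsame : t.1 = t'.1 ∧ t.2.1 = t'.2.1 := by
    let X : Bool × Bool × Bool → R ⧸ C := fun u => (if u.1 then A else 1) * (if u.2.1 then B else 1)
    have hX : ∀ u, π (pick u) = X u ^ 2 := fun u => by
      simp only [pick, X, map_mul, mul_pow]
      split_ifs <;> simp [hπc, map_pow, A, B]
    have hq : ((X t)⁻¹ * X t' * (π f0)⁻¹) ^ 2 = 1 := by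
      rw [mul_pow, mul_pow, inv_pow, inv_pow, ← map_pow, rel, map_mul, map_inv, hX, hX, mul_inv_cancel]
    have hfQ : π f0 ∈ frattini (R ⧸ C) := (hΦQ f0).2 hf0
    have hXΦ : (X t)⁻¹ * X t' ∈ frattini (R ⧸ C) := by simpa using mul_mem (inv2 _ hq) hfQ
    have hA : A ∉ frattini (R ⧸ C) := fun h => ha ((hΦQ a).1 h)
    have hB : B ∉ frattini (R ⧸ C) := fun h => hb' ((hΦQ b).1 h)
    have hAB : A * B ∉ frattini (R ⧸ C) := fun h => hab ((hΦQ _).1 (by rwa [map_mul]))
    have hsqQ : ∀ q : R ⧸ C, q ^ 2 ∈ frattini (R ⧸ C) := PGroups.pow_mem_frattini hQ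
    have hAB' : A⁻¹ * B ∉ frattini (R ⧸ C) := fun h => hAB (by
      have := mul_mem (hsqQ A) h; simpa [sq, mul_assoc] using this)
    have hBA' : B⁻¹ * A ∉ frattini (R ⧸ C) := fun h => hAB' (by simpa using inv_mem h)
    obtain ⟨i, j, e⟩ := t; obtain ⟨i', j', e'⟩ := t'
    cases i <;> cases j <;> cases i' <;> cases j' <;>
      simp [X, inv_mem_iff, mul_assoc, mul_comm, mul_left_comm] at hXΦ ⊢ <;>
      first
        | exact hA hXΦ | exact hB hXΦ
        | exact hAB (by simpa [mul_comm] using hXΦ)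
        | exact hAB' (by simpa [mul_comm] using hXΦ)
        | exact hBA' (by simpa [mul_comm] using hXΦ)
        | exact hAB (by simpa [mul_comm] using inv_mem hXΦ)
        | exact hAB' (by simpa [mul_comm] using inv_mem hXΦ)
  have hc1 : π (f0 ^ 2) = 1 := by
    rw [rel, map_mul, map_inv]
    simp only [pick, hsame.1, hsame.2, map_mul]
    split_ifs <;> simp [hπc, mul_assoc, mul_comm, mul_left_comm]
  have hfc : ρ f0 ^ 2 = ρ c := by
    have hne2 : t.2.2 ≠ t'.2.2 := fun h => hne (Prod.ext hsame.1 (Prod.ext hsame.2 h))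
    rw [hf2]
    simp only [pick, hsame.1, hsame.2, map_mul]
    generalize ρ (if t'.1 = true then a ^ 2 else 1) * ρ (if t'.2.1 = true then b ^ 2 else 1) = X0
    rcases ht : t.2.2 with _ | _ <;> rcases ht' : t'.2.2 with _ | _ <;> simp [ht, ht'] at hne2 ⊢
    calc _ = (ρ c)⁻¹ := by group
      _ = ρ c := by rw [inv_eq_iff_mul_eq_one, ← sq, hC2 _ (hcomm a b)]
  -- roots of involutions in the abelianisation
  have root : ∀ j, j ≤ k - 1 → ∀ q : R ⧸ C, q ^ 2 = 1 → ∃ s, q = s ^ 2 ^ j := by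
    intro j
    induction j with
    | zero => exact fun _ q _ => ⟨q, by simp⟩
    | succ j ih =>
      intro hj q hq
      obtain ⟨s, rfl⟩ := ih (by omega) q hq
      obtain ⟨s', rfl⟩ := hroot s (hord s (by
        rw [show k - 1 = j + ((k - 1 - j - 1) + 1) by omega, pow_add, pow_mul, pow_succ', pow_mul, hq, one_pow]))
      exact ⟨s', by rw [← pow_mul, ← pow_succ']⟩
  obtain ⟨s, hs⟩ := root (k - 1) le_rfl (π f0) (by rw [← map_pow, hc1])
  obtain ⟨s, rfl⟩ := hπs s
  rw [← map_pow] at hs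
  have hfs : ρ c = ρ s ^ 2 ^ k := by
    have he : f0⁻¹ * s ^ 2 ^ (k - 1) ∈ C := QuotientGroup.eq.1 hs
    have hcm : Commute (ρ f0) (ρ (f0⁻¹ * s ^ 2 ^ (k - 1))) := mem_center_iff.1 (hcen _ he) _
    rw [← hfc, show 2 ^ k = 2 ^ (k - 1) * 2 by rw [← pow_succ, Nat.sub_add_cancel hk], pow_mul, ← map_pow ρ s,
      show s ^ 2 ^ (k - 1) = f0 * (f0⁻¹ * s ^ 2 ^ (k - 1)) by group, map_mul, hcm.mul_pow, hC2 _ he, mul_one]
  have hmul2 : ∀ p q : R ⧸ L, (p * q) ^ 4 = p ^ 4 * q ^ 4 := fun p q => by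
    obtain ⟨r, rfl⟩ := hρs p
    obtain ⟨u, rfl⟩ := hρs q
    have cr := fun x => mem_center_iff.1 (hsqc (ρ r)) x
    have cu := fun x => mem_center_iff.1 (hsqc (ρ u)) x
    have cc := fun x => mem_center_iff.1 (hcen _ (hcomm u r)) x
    have h2 : (ρ r * ρ u) ^ 2 = ρ r ^ 2 * ρ u ^ 2 * ρ ⁅u, r⁆ := by
      calc (ρ r * ρ u) ^ 2 = ρ r * (ρ u * ρ r) * ρ u := by rw [sq]; group
        _ = ρ r * (ρ ⁅u, r⁆ * (ρ r * ρ u)) * ρ u := by
          rw [show ρ u * ρ r = ρ ⁅u, r⁆ * (ρ r * ρ u) by
            rw [← map_mul, ← map_mul, ← map_mul, commutatorElement_def]; congr 1; group]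
        _ = _ := by
          rw [← mul_assoc (ρ r) (ρ ⁅u, r⁆), cc (ρ r), mul_assoc (ρ ⁅u, r⁆), mul_assoc (ρ ⁅u, r⁆), ← cc]
          rw [sq, sq]; group
    rw [show (4 : ℕ) = 2 * 2 from rfl, pow_mul, h2,
      (show Commute (ρ r ^ 2 * ρ u ^ 2) (ρ ⁅u, r⁆) from cc _).mul_pow,
      (show Commute (ρ r ^ 2) (ρ u ^ 2) from (cr _).symm).mul_pow, hC2 _ (hcomm u r), mul_one, ← pow_mul, ← pow_mul]
  have h4c : ∀ q : R ⧸ L, q ^ 4 ∈ center (R ⧸ L) := fun q => by
    rw [show (4 : ℕ) = 2 * 2 from rfl, pow_mul]; exact hsqc _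
  let φ : R →* R ⧸ L :=
    { toFun := fun r => ρ r ^ 2 ^ k
      map_one' := by simp
      map_mul' := fun r u => by
        rw [map_mul, show 2 ^ k = 4 * 2 ^ (k - 2) by
          rw [show (4 : ℕ) = 2 ^ 2 from rfl, ← pow_add, Nat.add_sub_cancel' hk2], pow_mul, hmul2,
          (show Commute (ρ r ^ 4) (ρ u ^ 4) from (mem_center_iff.1 (h4c _) _).symm).mul_pow, ← pow_mul, ← pow_mul] }
  have hgenab : closure ({a, b} : Set R) = ⊤ := by
    refine frattini_nongenerating (top_le_iff.1 fun g _ => ?_)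
    haveI := Fintype.ofFinite (R ⧸ frattini R)
    have ne : ∀ {u : R}, u ∉ frattini R → (u : R ⧸ frattini R) ≠ 1 :=
      fun hu h => hu ((QuotientGroup.eq_one_iff _).1 h)
    set U : Finset (R ⧸ frattini R) :=
      {1, (a : R ⧸ frattini R), (b : R ⧸ frattini R), ((a * b : R) : R ⧸ frattini R)} with hU
    have hUc : U.card = 4 := by
      rw [hU, Finset.card_insert_of_notMem, Finset.card_insert_of_notMem, Finset.card_insert_of_notMem,
        Finset.card_singleton]
      · simp only [Finset.mem_singleton, QuotientGroup.mk_mul]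
        exact fun h => ne ha (mul_eq_right.1 h.symm)
      · simp only [Finset.mem_insert, Finset.mem_singleton, QuotientGroup.mk_mul, not_or]
        refine ⟨fun h => ne hab ?_, fun h => ne hb' (mul_eq_left.1 h.symm)⟩
        rw [QuotientGroup.mk_mul, h, ← sq]
        exact PGroups.pow_prime_quotient_frattini hR _
      · simp only [Finset.mem_insert, Finset.mem_singleton, not_or]
        exact ⟨(ne ha).symm, (ne hb').symm, (ne hab).symm⟩
    have hUu : U = Finset.univ :=
      Finset.eq_univ_of_card U (by rw [hUc, ← Nat.card_eq_fintype_card, ← Subgroup.index_eq_card, hidx])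
    have hgU : (g : R ⧸ frattini R) ∈ U := hUu ▸ Finset.mem_univ _
    simp only [hU, Finset.mem_insert, Finset.mem_singleton] at hgU
    have key : ∀ u ∈ closure ({a, b} : Set R), (g : R ⧸ frattini R) = u → g ∈ closure ({a, b} : Set R) ⊔ frattini R :=
      fun u hu h => by simpa using mul_mem_sup hu (QuotientGroup.eq.1 h.symm)
    rcases hgU with h | h | h | h
    · exact key 1 (one_mem _) (by rw [h, QuotientGroup.mk_one])
    · exact key a (subset_closure (by simp)) h
    · exact key b (subset_closure (by simp)) h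
    · exact key (a * b) (mul_mem (subset_closure (by simp)) (subset_closure (by simp))) h
  have hrange : φ.range = zpowers (ρ c) := by
    refine le_antisymm ?_ (zpowers_le.2 ⟨s, hfs.symm⟩)
    rintro _ ⟨r, rfl⟩
    have hr : r ^ 2 ^ k ∈ C := (QuotientGroup.eq_one_iff _).1 (by
      rw [QuotientGroup.mk_pow]; exact hexp _)
    have hCc : C.map ρ ≤ zpowers (ρ c) := by
      haveI hzn : (zpowers (ρ c)).Normal := ⟨fun n hn g => by
        rw [mem_center_iff.1 ((zpowers_le.2 (hcen _ (hcomm a b))) hn) g, mul_inv_cancel_right]; exact hn⟩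
      rw [hC, _root_.commutator_def, map_commutator, ← MonoidHom.range_eq_map,
        MonoidHom.range_eq_top.2 hρs, ← _root_.commutator_def]
      refine Normal.quotient_commutative_iff_commutator_le.mp ⟨⟨fun p q => ?_⟩⟩
      set τ := QuotientGroup.mk' (zpowers (ρ c)) with hτ
      have hab2 : Commute (τ (ρ a)) (τ (ρ b)) := by
        refine commutatorElement_eq_one_iff_mul_comm.1 ?_
        rw [← map_commutatorElement τ, ← map_commutatorElement ρ]
        exact (QuotientGroup.eq_one_iff _).2 (mem_zpowers _)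
      have hQt : closure ({τ (ρ a), τ (ρ b)} : Set ((R ⧸ L) ⧸ zpowers (ρ c))) = ⊤ := by
        have := congrArg (Subgroup.map (τ.comp ρ)) hgenab
        rw [MonoidHom.map_closure, Set.image_pair,
          map_top_of_surjective (τ.comp ρ) (fun q => by
            obtain ⟨q, rfl⟩ := QuotientGroup.mk'_surjective _ q
            obtain ⟨r, rfl⟩ := hρs q
            exact ⟨r, rfl⟩)] at this
        exact this
      have h1 : (⊤ : Subgroup ((R ⧸ L) ⧸ zpowers (ρ c))) ≤ center _ := by
        rw [← hQt, closure_le]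
        intro u hu
        refine mem_center_iff.2 fun v => ?_
        have : (⊤ : Subgroup ((R ⧸ L) ⧸ zpowers (ρ c))) ≤ centralizer {u} := by
          rw [← hQt, closure_le]
          intro v hv
          refine mem_centralizer_singleton_iff.2 ?_
          rcases hu with rfl | rfl <;> rcases hv with rfl | rfl
          · rfl
          · exact hab2.eq.symm
          · exact hab2.eq
          · rfl
        exact mem_centralizer_singleton_iff.1 (this (mem_top v))
      exact mem_center_iff.1 (h1 (mem_top q)) p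
    show ρ r ^ 2 ^ k ∈ _
    rw [← map_pow]
    exact hCc (mem_map_of_mem _ hr)
  have hρc : ρ c ≠ 1 := by
    intro h
    apply hCne
    intro r hr
    have hr' : ρ r ∈ center (R ⧸ L) := hcen r hr
    by_contra hrL
    -- `C` maps into the trivial group
    have hzero : C.map ρ = ⊥ := by
      have : φ.range = ⊥ := by rw [hrange, h, zpowers_one_eq_bot]
      have hcab : Commute (ρ a) (ρ b) := commutatorElement_eq_one_iff_mul_comm.1 (by rw [← map_commutatorElement]; exact h)
      rw [eq_bot_iff, hC, _root_.commutator_def, map_commutator, commutator_le]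
      intro p _ q _
      rw [mem_bot, commutatorElement_eq_one_iff_mul_comm]
      have hgenab : closure ({ρ a, ρ b} : Set (R ⧸ L)) = ⊤ := by
        have := congrArg (Subgroup.map ρ) hgenab
        rwa [MonoidHom.map_closure, Set.image_pair, map_top_of_surjective _ hρs] at this
      have : (⊤ : Subgroup (R ⧸ L)) ≤ center _ := by
        rw [← hgenab, closure_le]
        intro u hu
        refine mem_center_iff.2 fun v => ?_
        have : (⊤ : Subgroup (R ⧸ L)) ≤ centralizer {u} := by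
          rw [← hgenab, closure_le]
          intro v hv
          refine mem_centralizer_singleton_iff.2 ?_
          rcases hu with rfl | rfl <;> rcases hv with rfl | rfl
          · rfl
          · exact hcab.eq.symm
          · exact hcab.eq
          · rfl
        exact mem_centralizer_singleton_iff.1 (this (mem_top v))
      exact mem_center_iff.1 (this (mem_top q)) p
    exact hrL ((QuotientGroup.eq_one_iff _).1 (mem_bot.1 (hzero ▸ mem_map_of_mem ρ hr)))
  refine no_invariant hR α hfp φ.ker ?_ ?_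
  · rw [index_ker, hrange, Nat.card_zpowers]
    exact orderOf_eq_prime (hC2 _ (hcomm a b)) hρc
  · intro m hm
    rw [MonoidHom.mem_ker] at hm ⊢
    show ρ (α m) ^ 2 ^ k = 1
    have hm' : m ^ 2 ^ k ∈ L := (QuotientGroup.eq_one_iff _).1 (by rw [QuotientGroup.mk_pow]; exact hm)
    rw [← map_pow, ← map_pow α]
    exact (QuotientGroup.eq_one_iff _).2 ((characteristic_iff_map_le.1 inferInstance α) (mem_map_of_mem _ hm'))

end Cfsg.Lib.Bicyclic
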