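import Mathlib

/-!
Homomorphisms out of a group `⟨z⟩⟨y⟩` with `y` inverting `z` and `y² ∈ ⟨z⟩`.
-/

set_option autoImplicit false
set_option linter.unusedSectionVars false

namespace Cfsg.Lib.Bicyclic

open Subgroup

/-- an inverting element moves past a power -/
theorem mul_zpow_of_inverting {C : Type*} [Group C] (a b : C) (h : b * a * b⁻¹ = a⁻¹) (j : ℤ) :
    b * a ^ j = a ^ (-j) * b := by
  rw [← mul_inv_eq_iff_eq_mul, ← conj_zpow, h, inv_zpow, zpow_neg]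

/-- the map `z^i y^b ↦ Z^i W^b` -/
theorem exists_hom_inverting {A B : Type*} [Group A] [Group B] {z y : A} {Z W : B} {e : ℤ}
    (ho : orderOf z = orderOf Z) (hyz : y * z * y⁻¹ = z⁻¹) (hWZ : W * Z * W⁻¹ = Z⁻¹)
    (hy : y * y = z ^ e) (hW : W * W = Z ^ e) (hy' : y ∉ zpowers z) (hW' : W ∉ zpowers Z)
    (D : Subgroup A) (hD : ∀ d, d ∈ D → ∃ i : ℤ, d = z ^ i ∨ d = z ^ i * y) :
    ∃ f : D →* B, Function.Injective f ∧ (∀ (i : ℤ) (h : z ^ i ∈ D), f ⟨z ^ i, h⟩ = Z ^ i) ∧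
      ∀ (i : ℤ) (h : z ^ i * y ∈ D), f ⟨z ^ i * y, h⟩ = Z ^ i * W := by
  classical
  have heq : ∀ i j : ℤ, z ^ i = z ^ j ↔ Z ^ i = Z ^ j := fun i j => by
    rw [zpow_eq_zpow_iff_modEq, zpow_eq_zpow_iff_modEq, ho]
  let R : A → B → Prop := fun d b => ∃ i : ℤ, (d = z ^ i ∧ b = Z ^ i) ∨ (d = z ^ i * y ∧ b = Z ^ i * W)
  have hcross : ∀ i j : ℤ, z ^ i ≠ z ^ j * y := fun i j h => hy' (by
    rw [show y = (z ^ j)⁻¹ * z ^ i by rw [h, inv_mul_cancel_left]]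
    exact mul_mem (inv_mem (zpow_mem (mem_zpowers z) j)) (zpow_mem (mem_zpowers z) i))
  have hCross : ∀ i j : ℤ, Z ^ i ≠ Z ^ j * W := fun i j h => hW' (by
    rw [show W = (Z ^ j)⁻¹ * Z ^ i by rw [h, inv_mul_cancel_left]]
    exact mul_mem (inv_mem (zpow_mem (mem_zpowers Z) j)) (zpow_mem (mem_zpowers Z) i))
  have huniq : ∀ {d b b'}, R d b → R d b' → b = b' := by
    rintro d b b' ⟨i, ⟨rfl, rfl⟩ | ⟨rfl, rfl⟩⟩ ⟨j, ⟨e', rfl⟩ | ⟨e', rfl⟩⟩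
    · exact (heq i j).1 e'
    · exact absurd e' (hcross i j)
    · exact absurd e'.symm (hcross j i)
    · rw [(heq i j).1 (mul_right_cancel e')]
  have hinj : ∀ {d d' b}, R d b → R d' b → d = d' := by
    rintro d d' b ⟨i, ⟨rfl, rfl⟩ | ⟨rfl, rfl⟩⟩ ⟨j, ⟨rfl, e'⟩ | ⟨rfl, e'⟩⟩
    · exact (heq i j).2 e'
    · exact absurd e' (hCross i j)
    · exact absurd e'.symm (hCross j i)
    · rw [(heq i j).2 (mul_right_cancel e')]
  have hmul : ∀ {d d' b b'}, R d b → R d' b' → R (d * d') (b * b') := by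
    rintro d d' b b' ⟨i, ⟨rfl, rfl⟩ | ⟨rfl, rfl⟩⟩ ⟨j, ⟨rfl, rfl⟩ | ⟨rfl, rfl⟩⟩
    · exact ⟨i + j, Or.inl ⟨(zpow_add z i j).symm, (zpow_add Z i j).symm⟩⟩
    · exact ⟨i + j, Or.inr ⟨by rw [zpow_add, mul_assoc], by rw [zpow_add, mul_assoc]⟩⟩
    · refine ⟨i + -j, Or.inr ⟨?_, ?_⟩⟩
      · rw [mul_assoc, mul_zpow_of_inverting z y hyz, zpow_add, mul_assoc]
      · rw [mul_assoc, mul_zpow_of_inverting Z W hWZ, zpow_add, mul_assoc]
    · refine ⟨i + -j + e, Or.inl ⟨?_, ?_⟩⟩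
      · rw [show z ^ i * y * (z ^ j * y) = z ^ i * (y * z ^ j) * y by group, mul_zpow_of_inverting z y hyz, zpow_add, zpow_add, ← hy]
        group
      · rw [show Z ^ i * W * (Z ^ j * W) = Z ^ i * (W * Z ^ j) * W by group, mul_zpow_of_inverting Z W hWZ, zpow_add, zpow_add, ← hW]
        group
  have hex : ∀ d : D, ∃ b, R d b := fun d => by
    obtain ⟨i, h | h⟩ := hD d d.2
    · exact ⟨_, i, Or.inl ⟨h, rfl⟩⟩
    · exact ⟨_, i, Or.inr ⟨h, rfl⟩⟩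
  choose f hf using hex
  refine ⟨MonoidHom.mk' f fun d d' => huniq (hf (d * d')) (hmul (hf d) (hf d')), fun d d' h => ?_, fun i h => ?_,
    fun i h => ?_⟩
  · exact Subtype.ext (hinj (hf d) (show R d' (f d) from (show f d = f d' from h) ▸ hf d'))
  · exact huniq (hf _) ⟨i, Or.inl ⟨rfl, rfl⟩⟩
  · exact huniq (hf _) ⟨i, Or.inr ⟨rfl, rfl⟩⟩

end Cfsg.Lib.Bicyclic
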