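import Cfsg.Agent.Fusion.PullSystem

/-!
A 2-group `S = ⟨x⟩D` embedded as a Sylow 2-subgroup of `(L ⋊ ℤ)/⟨u⟩`, where `D` sits in `L` with odd index, and the
resulting fusion system.
-/

set_option autoImplicit false
set_option linter.unusedSectionVars false
set_option linter.style.haveILetI false

namespace Cfsg.Lib.Bicyclic

open Subgroup

universe u w

/-- the fusion system of the extension is not inner once an element of `L` moves `Z` out of itself -/
theorem exists_noninner_of_extension {Ω : Type u} [Group Ω] {S : Subgroup Ω} [Finite S] (hS : IsPGroup 2 S)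
    (D : Subgroup S) [D.Normal] (x : S) (N : ℕ) (hN0 : N ≠ 0)
    (hgen : ∀ s : S, ∃ i : ℤ, ∃ d ∈ D, s = x ^ i * d) (hN : ∀ i : ℤ, x ^ i ∈ D ↔ (N : ℤ) ∣ i)
    {L : Type w} [Group L] [Finite L] (f : D →* L) (hf : Function.Injective f) (α : MulAut L)
    (hα : ∀ (d : D) (h : x * d * x⁻¹ ∈ D), α (f d) = f ⟨x * d * x⁻¹, h⟩)
    (hαN : ∀ h : x ^ N ∈ D, α ^ N = MulAut.conj (f ⟨x ^ N, h⟩)) (hodd : ¬ 2 ∣ f.range.index)
    (Z : Subgroup S) [Z.Normal] (y t : D) (hy : (y : S) ∉ Z) (ht : (t : S) ∈ Z) (g : L)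
    (hg : g * f y * g⁻¹ = f t) :
    ∃ F : Cfsg.FusionSystem S, F.IsSaturated 2 ∧
      ¬ ∀ P : Subgroup Ω, F.Hom P = (Cfsg.innerFusionSystem S).Hom P := by
  classical
  haveI : Fact (Nat.Prime 2) := ⟨Nat.prime_two⟩
  have hxN : x ^ N ∈ D := by simpa using (hN N).2 dvd_rfl
  set c : D := ⟨x ^ N, hxN⟩ with hc
  have hDx : ∀ d : D, x * d * x⁻¹ ∈ D := fun d => ‹D.Normal›.conj_mem d d.2 x
  let κ : MulAut D := MulAut.conjNormal x
  have hκ : ∀ d : D, ((κ d : D) : S) = x * d * x⁻¹ := fun d => MulAut.conjNormal_apply x d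
  let φD : Multiplicative ℤ →* MulAut D := zpowersHom _ κ
  let φL : Multiplicative ℤ →* MulAut L := zpowersHom _ α
  have hφD : ∀ m : Multiplicative ℤ, φD m = κ ^ m.toAdd := fun m => rfl
  have hφL : ∀ m : Multiplicative ℤ, φL m = α ^ m.toAdd := fun m => rfl
  have hκf : ∀ d, f (κ d) = α (f d) := fun d => by
    rw [hα d (hDx d)]; exact congrArg f (Subtype.ext (hκ d))
  have hκfn : ∀ (m : ℤ) (d : D), f ((κ ^ m) d) = (α ^ m) (f d) := by
    intro m
    induction m using Int.induction_on with
    | zero => exact fun d => rfl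
    | succ i ih =>
      intro d
      rw [zpow_add, zpow_add, zpow_one, zpow_one, MulAut.mul_apply, MulAut.mul_apply, ← hκf, ih]
    | pred i ih =>
      intro d
      have h1 : α (f (κ⁻¹ d)) = f d := by rw [← hκf, MulAut.apply_inv_self]
      rw [zpow_sub, zpow_sub, zpow_one, zpow_one, MulAut.mul_apply, MulAut.mul_apply, ih, ← h1,
        MulAut.inv_apply_self]
  let μ : D ⋊[φD] Multiplicative ℤ →* L ⋊[φL] Multiplicative ℤ :=
    SemidirectProduct.map f (MonoidHom.id _) fun m => MonoidHom.ext fun d => by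
      show f ((φD m) d) = (φL m) (f d)
      rw [hφD, hφL, hκfn]
  let ρ : D ⋊[φD] Multiplicative ℤ →* S :=
    SemidirectProduct.lift D.subtype (zpowersHom S x) fun m => MonoidHom.ext fun d => by
      show (((φD m) d : D) : S) = x ^ m.toAdd * (d : S) * (x ^ m.toAdd)⁻¹
      rw [hφD, ← map_zpow]
      exact MulAut.conjNormal_apply _ _
  set u : L ⋊[φL] Multiplicative ℤ :=
    SemidirectProduct.inl (f c)⁻¹ * SemidirectProduct.inr (Multiplicative.ofAdd (N : ℤ)) with hu
  have hfix : α (f c) = f c := by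
    rw [hα c (hDx c)]
    refine congrArg f (Subtype.ext ?_)
    show x * x ^ N * x⁻¹ = x ^ N
    rw [← pow_succ', pow_succ, mul_inv_cancel_right]
  have hu_cen : u ∈ center (L ⋊[φL] Multiplicative ℤ) := by
    have hfixz : ∀ i : ℤ, (α ^ i) (f c) = f c := fun i => by
      induction i using Int.induction_on with
      | zero => rfl
      | succ i ih => rw [zpow_add, zpow_one, MulAut.mul_apply, hfix, ih]
      | pred i ih =>
        rw [zpow_sub, zpow_one, MulAut.mul_apply]
        conv_lhs => rw [← hfix, MulAut.inv_apply_self, ih]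
    refine mem_center_iff.2 fun p => ?_
    refine SemidirectProduct.ext ?_ ?_
    · simp only [hu, SemidirectProduct.mul_left, SemidirectProduct.mul_right, SemidirectProduct.left_inl,
        SemidirectProduct.right_inl, SemidirectProduct.left_inr, SemidirectProduct.right_inr, map_one,
        one_mul, mul_one, hφL, toAdd_ofAdd, zpow_natCast, hαN hxN]
      rw [map_inv (α ^ p.right.toAdd), hfixz, MulAut.conj_apply]
      simp only [hc]
      group
    · exact mul_comm _ _
  set U := zpowers u with hU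
  haveI hUn : U.Normal := ⟨fun n hn p => by
    have : n ∈ center (L ⋊[φL] Multiplicative ℤ) := (zpowers_le.2 hu_cen) hn
    rw [mem_center_iff.1 this p, mul_inv_cancel_right]
    exact hn⟩
  let π := QuotientGroup.mk' U
  have hupow : ∀ r : ℤ, (u ^ r).right = Multiplicative.ofAdd ((N : ℤ) * r) := fun r => by
    rw [show (u ^ r).right = SemidirectProduct.rightHom (u ^ r) from rfl, map_zpow, hu]
    simp only [map_mul, SemidirectProduct.rightHom_inl, SemidirectProduct.rightHom_inr, one_mul]
    exact Multiplicative.toAdd.injective (by simp [mul_comm])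
  set uD : D ⋊[φD] Multiplicative ℤ :=
    SemidirectProduct.inl c⁻¹ * SemidirectProduct.inr (Multiplicative.ofAdd (N : ℤ)) with huD
  have hμu : μ uD = u := by
    simp only [huD, hu, μ, map_mul, SemidirectProduct.map_inl, SemidirectProduct.map_inr, map_inv,
      MonoidHom.id_apply]
  have hρu : ρ uD = 1 := by
    simp only [huD, ρ, map_mul, SemidirectProduct.lift_inl, SemidirectProduct.lift_inr, map_inv,
      zpowersHom_apply, toAdd_ofAdd, zpow_natCast]
    exact inv_mul_cancel _
  have hμi : Function.Injective μ := fun a b h =>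
    SemidirectProduct.ext (hf (congrArg SemidirectProduct.left h)) (congrArg SemidirectProduct.right h :)
  have hρs : Function.Surjective ρ := fun s => by
    obtain ⟨i, d, hd, rfl⟩ := hgen s
    refine ⟨SemidirectProduct.inr (Multiplicative.ofAdd i) * SemidirectProduct.inl ⟨d, hd⟩, ?_⟩
    rw [map_mul, SemidirectProduct.lift_inr, SemidirectProduct.lift_inl]
    rfl
  have hker : ∀ p, ρ p = 1 ↔ μ p ∈ U := by
    intro p
    constructor
    · intro hp
      have hp' : (p.left : S) * x ^ p.right.toAdd = 1 := hp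
      obtain ⟨r, hr⟩ := (hN p.right.toAdd).1 (by rw [eq_inv_of_mul_eq_one_right hp']; exact inv_mem p.left.2)
      refine ⟨r, ?_⟩
      show u ^ r = μ p
      rw [← hμu, ← map_zpow]
      congr 1
      have h1 : (uD ^ r).right = p.right := by
        rw [show (uD ^ r).right = SemidirectProduct.rightHom (uD ^ r) from rfl, map_zpow, huD]
        simp only [map_mul, SemidirectProduct.rightHom_inl, SemidirectProduct.rightHom_inr, one_mul]
        exact Multiplicative.toAdd.injective (by simp [hr, mul_comm])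
      refine SemidirectProduct.ext ?_ h1
      have h2 : ((uD ^ r).left : S) * x ^ (uD ^ r).right.toAdd = 1 := by
        show ρ (uD ^ r) = 1
        rw [map_zpow, hρu, one_zpow]
      rw [h1] at h2
      exact Subtype.ext (mul_right_cancel (h2.trans hp'.symm))
    · rintro ⟨r, hr⟩
      have : μ (uD ^ r) = μ p := by rw [map_zpow, hμu]; exact hr
      rw [← hμi this, map_zpow, hρu, one_zpow]
  let ι : S →* (L ⋊[φL] Multiplicative ℤ) ⧸ U :=
    ρ.liftOfSurjective hρs ⟨π.comp μ, fun p hp =>
      (QuotientGroup.eq_one_iff (μ p)).2 ((hker p).1 hp)⟩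
  have hιρ : ∀ p, ι (ρ p) = π (μ p) := fun p =>
    MonoidHom.liftOfRightInverse_comp_apply _ _ _ _ p
  have hιi : Function.Injective ι := (injective_iff_map_eq_one _).2 fun s hs => by
    obtain ⟨p, rfl⟩ := hρs s
    rw [hιρ] at hs
    exact (hker p).2 ((QuotientGroup.eq_one_iff _).1 hs)
  -- finiteness and order
  haveI : NeZero N := ⟨hN0⟩
  let e : L × Fin N → (L ⋊[φL] Multiplicative ℤ) ⧸ U := fun q =>
    π ⟨q.1, Multiplicative.ofAdd ((q.2 : ℕ) : ℤ)⟩
  have he : Function.Bijective e := by
    constructor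
    · rintro ⟨l, i⟩ ⟨l', i'⟩ h
      obtain ⟨r, hr⟩ := QuotientGroup.eq.1 h
      have h1 := congrArg SemidirectProduct.right hr
      simp only [hupow, SemidirectProduct.mul_right, SemidirectProduct.inv_right] at h1
      have h2 := congrArg Multiplicative.toAdd h1
      simp only [toAdd_ofAdd, toAdd_mul, toAdd_inv] at h2
      have hr0 : r = 0 := by
        have b1 := i.2
        have b2 := i'.2
        nlinarith
      simp only [hr0, zpow_zero] at hr
      have h3 : (⟨l, Multiplicative.ofAdd ((i : ℕ) : ℤ)⟩ : L ⋊[φL] Multiplicative ℤ) =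
          ⟨l', Multiplicative.ofAdd ((i' : ℕ) : ℤ)⟩ := inv_mul_eq_one.1 hr.symm
      simp only [SemidirectProduct.ext_iff, EmbeddingLike.apply_eq_iff_eq, Nat.cast_inj] at h3
      exact Prod.ext h3.1 (Fin.ext h3.2)
    · intro q
      obtain ⟨p, rfl⟩ := QuotientGroup.mk_surjective q
      set m := p.right.toAdd with hm
      have hNpos : (0 : ℤ) < N := by exact_mod_cast Nat.pos_of_ne_zero hN0
      obtain ⟨i, hi⟩ : ∃ i : ℕ, (i : ℤ) = m % N := ⟨_, Int.toNat_of_nonneg (Int.emod_nonneg m hNpos.ne')⟩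
      have hiN : i < N := by have := Int.emod_lt_of_pos m hNpos; omega
      refine ⟨((p * u ^ (-(m / N))).left, ⟨i, hiN⟩), ?_⟩
      refine QuotientGroup.eq.2 ?_
      have h4 : (⟨(p * u ^ (-(m / N))).left, Multiplicative.ofAdd (i : ℤ)⟩ : L ⋊[φL] Multiplicative ℤ) =
          p * u ^ (-(m / N)) := by
        refine SemidirectProduct.ext rfl ?_
        rw [SemidirectProduct.mul_right, hupow]
        refine Multiplicative.toAdd.injective ?_
        simp only [toAdd_ofAdd, toAdd_mul, hi, ← hm]
        rw [Int.emod_def]; ring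
      show (_ : L ⋊[φL] Multiplicative ℤ)⁻¹ * p ∈ U
      rw [h4, mul_inv_rev, inv_mul_cancel_right]
      exact inv_mem (zpow_mem (mem_zpowers u) _)
  haveI : Finite ((L ⋊[φL] Multiplicative ℤ) ⧸ U) := Finite.of_surjective e he.2
  have hcardG : Nat.card ((L ⋊[φL] Multiplicative ℤ) ⧸ U) = Nat.card L * N := by
    rw [← Nat.card_eq_of_bijective e he, Nat.card_prod, Nat.card_fin]
  have hcardS : Nat.card S = Nat.card D * N := by
    have hx : orderOf (x : S ⧸ D) = N := by
      refine Nat.dvd_antisymm (orderOf_dvd_of_pow_eq_one ?_) ?_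
      · rw [← QuotientGroup.mk_pow, QuotientGroup.eq_one_iff]; exact hxN
      · have h1 : x ^ ((orderOf (x : S ⧸ D) : ℕ) : ℤ) ∈ D := by
          rw [zpow_natCast, ← QuotientGroup.eq_one_iff, QuotientGroup.mk_pow, pow_orderOf_eq_one]
        exact_mod_cast (hN _).1 h1
    have htop : zpowers (x : S ⧸ D) = ⊤ := top_le_iff.1 fun q _ => by
      obtain ⟨s, rfl⟩ := QuotientGroup.mk_surjective q
      obtain ⟨i, d, hd, rfl⟩ := hgen s
      rw [QuotientGroup.mk_mul, (QuotientGroup.eq_one_iff d).2 hd, mul_one, QuotientGroup.mk_zpow]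
      exact zpow_mem (mem_zpowers _) i
    rw [card_eq_card_quotient_mul_card_subgroup D, ← card_top (G := S ⧸ D), ← htop, Nat.card_zpowers, hx, mul_comm]
  have hidx : ι.range.index = f.range.index := by
    have h1 := ι.range.card_mul_index
    have h2 := f.range.card_mul_index
    rw [Nat.card_congr (MonoidHom.ofInjective hιi).toEquiv.symm, hcardS, hcardG] at h1
    rw [Nat.card_congr (MonoidHom.ofInjective hf).toEquiv.symm] at h2
    refine Nat.eq_of_mul_eq_mul_left (Nat.mul_pos (Nat.card_pos (α := D)) (Nat.pos_of_ne_zero hN0)) ?_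
    rw [h1, ← h2]
    ring
  have hι2 : IsPGroup 2 ι.range := hS.of_equiv (MonoidHom.ofInjective hιi)
  let P := hι2.toSylow (by rwa [hidx])
  refine ⟨Fusion.pullSystem ι hιi, Fusion.saturated_pullSystem ι hιi P rfl, fun hall => hy ?_⟩
  -- otherwise `Z` would be strongly closed
  have hιD : ∀ d : D, ι d = π (SemidirectProduct.inl (f d)) := fun d => by
    have h := hιρ (SemidirectProduct.inl d)
    rw [SemidirectProduct.lift_inl, SemidirectProduct.map_inl] at h
    exact h
  have hK : (Fusion.pullSystem ι hιi).StronglyClosed (Z.map S.subtype) := by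
    refine ⟨map_subtype_le Z, fun R hR φ hφ r => ?_⟩
    rw [hall R] at hφ
    obtain ⟨hRS, a, ha, e⟩ := hφ
    obtain ⟨z, hz, ez⟩ := hR r.2
    rw [e r, ← ez]
    exact ⟨(⟨a, ha⟩ : S) * z * (⟨a, ha⟩ : S)⁻¹, ‹Z.Normal›.conj_mem z hz _, rfl⟩
  have key : π (SemidirectProduct.inl g⁻¹) * ι t * (π (SemidirectProduct.inl g⁻¹))⁻¹ = ι y := by
    rw [hιD, hιD, ← hg, ← map_inv, ← map_mul, ← map_mul]
    congr 1
    rw [← map_inv, ← map_mul, ← map_mul]
    congr 1
    group
  obtain ⟨s, hs, e'⟩ := Fusion.mem_of_conj_pullSystem hK (s := (t : S)) (t := (y : S))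
    ⟨(t : S), ht, rfl⟩ _ key
  exact (Subtype.coe_injective e') ▸ hs

end Cfsg.Lib.Bicyclic
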