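import Mathlib
import Cfsg.Agent.Classical.Misc.PSLFourGroupsMain
import Cfsg.Agent.Classical.Misc.SLTwoTori

/-!
Semilinear automorphisms of `SL(2, 5^(2^(m-2)))` inducing on a quaternion Sylow 2-subgroup the outer automorphism
`Z ↦ Z^v`, `W ↦ ZW`.
-/

set_option autoImplicit false
set_option linter.unusedSectionVars false
set_option linter.style.haveILetI false

namespace Cfsg.Lib.Bicyclic

open Cfsg.Lib.Classical.PSLFour
open scoped MatrixGroups

theorem five_two_pow (j : ℕ) : ∃ t : ℕ, Odd t ∧ 5 ^ 2 ^ j = 1 + 2 ^ (j + 2) * t := by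
  induction j with
  | zero => exact ⟨1, odd_one, by norm_num⟩
  | succ j ih =>
    obtain ⟨t, ht, e⟩ := ih
    refine ⟨t * (1 + 2 ^ (j + 1) * t), ht.mul ?_, ?_⟩
    · exact odd_one.add_even ((Nat.even_pow.2 ⟨even_two, by omega⟩).mul_right t)
    · rw [pow_succ, pow_mul, e]; ring

/-- every odd number is `± 5^i` modulo `2^m` -/
theorem signed_five {m : ℕ} (hm : 2 ≤ m) (v : ℤ) (hv : Odd v) :
    ∃ (i : ℕ) (s : ℤ), (s = 1 ∨ s = -1) ∧ (2 : ℤ) ^ m ∣ v - s * 5 ^ i := by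
  induction m, hm using Nat.le_induction with
  | base =>
    obtain ⟨w, rfl⟩ := hv
    rcases Int.even_or_odd' w with ⟨r, rfl | rfl⟩
    · exact ⟨0, 1, Or.inl rfl, ⟨r, by ring⟩⟩
    · exact ⟨0, -1, Or.inr rfl, ⟨r + 1, by ring⟩⟩
  | succ m hm ih =>
    obtain ⟨i, s, hs, r, hr⟩ := ih
    rcases Int.even_or_odd' r with ⟨w, rfl | rfl⟩
    · exact ⟨i, s, hs, w, by rw [hr]; ring⟩
    · obtain ⟨t, ht, et⟩ := five_two_pow (m - 2)
      rw [Nat.sub_add_cancel hm] at et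
      have et' : (5 : ℤ) ^ 2 ^ (m - 2) = 1 + 2 ^ m * (t : ℤ) := by exact_mod_cast et
      obtain ⟨k, hk⟩ : Even ((2 * w + 1) - s * 5 ^ i * (t : ℤ)) :=
        (odd_two_mul_add_one w).sub_odd ((((show Odd s by rcases hs with rfl | rfl <;> decide)).mul
          ((show Odd (5 : ℤ) by decide).pow)).mul (by exact_mod_cast ht))
      refine ⟨i + 2 ^ (m - 2), s, hs, k, ?_⟩
      rw [pow_add (5 : ℤ), et', pow_succ, mul_assoc, two_mul k, ← hk, mul_sub, ← hr]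
      ring

/-- the order of 5 modulo `2^m` -/
theorem five_dvd {m : ℕ} (hm : 2 ≤ m) (r : ℕ) (h : (2 : ℤ) ^ m ∣ 5 ^ r - 1) : 2 ^ (m - 2) ∣ r := by
  rcases Nat.eq_or_lt_of_le hm with rfl | hm3
  · simp
  obtain ⟨j, rfl⟩ : ∃ j, m = j + 3 := ⟨m - 3, by omega⟩
  haveI : Fact (Nat.Prime 2) := ⟨Nat.prime_two⟩
  rw [show j + 3 - 2 = j + 1 by omega]
  have hcast : ∀ a : ℕ, ((5 : ZMod (2 ^ (j + 3))) ^ a = 1) ↔ (2 : ℤ) ^ (j + 3) ∣ 5 ^ a - 1 := fun a => by
    rw [show ((2 : ℤ) ^ (j + 3)) = ((2 ^ (j + 3) : ℕ) : ℤ) by push_cast; rfl,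
      ← ZMod.intCast_zmod_eq_zero_iff_dvd, ← sub_eq_zero]
    push_cast
    rfl
  have hord : orderOf (5 : ZMod (2 ^ (j + 3))) = 2 ^ (j + 1) := by
    refine orderOf_eq_prime_pow (fun h1 => ?_) ((hcast _).2 ?_)
    · obtain ⟨t, ht, et⟩ := five_two_pow j
      obtain ⟨w, hw⟩ := (hcast _).1 h1
      rw [show ((5 : ℤ) ^ 2 ^ j) = 1 + 2 ^ (j + 2) * (t : ℤ) by exact_mod_cast et] at hw
      have h2 : (t : ℤ) = 2 * w := by
        refine mul_left_cancel₀ (pow_ne_zero (j + 2) (two_ne_zero : (2 : ℤ) ≠ 0)) ?_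
        rw [add_sub_cancel_left] at hw
        rw [hw]; ring
      obtain ⟨b, rfl⟩ := ht
      push_cast at h2
      omega
    · obtain ⟨t, -, et⟩ := five_two_pow (j + 1)
      refine ⟨t, ?_⟩
      rw [show ((5 : ℤ) ^ 2 ^ (j + 1)) = 1 + 2 ^ (j + 3) * (t : ℤ) by exact_mod_cast et]
      ring
  rw [← hord]
  exact orderOf_dvd_of_pow_eq_one ((hcast r).2 h)

section
variable {F : Type} [Field F]

/-- the diagonal torus -/
def torus : Fˣ →* SL(2, F) :=
  MonoidHom.mk' (fun u => sl (u : F) 0 0 ((u⁻¹ : Fˣ) : F) (by simp)) fun u w => by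
    refine ext_four ?_ ?_ ?_ ?_ <;> simp [sl00, sl01, sl10, sl11, val_mul, Fin.sum_univ_two, mul_comm]

theorem torus_val (u : Fˣ) : (torus u).1 0 0 = u ∧ (torus u).1 0 1 = 0 ∧ (torus u).1 1 0 = 0 ∧
    (torus u).1 1 1 = ((u⁻¹ : Fˣ) : F) := by
  refine ⟨?_, ?_, ?_, ?_⟩ <;> simp [torus, sl00, sl01, sl10, sl11]

theorem torus_inj : Function.Injective (torus (F := F)) := fun u w h =>
  Units.ext (by rw [← (torus_val u).1, h, (torus_val w).1])

/-- scaling off the diagonal composed with a field automorphism -/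
noncomputable def twist [Finite F] (δ : Fˣ) (σ : RingAut F) : MulAut SL(2, F) :=
  MulEquiv.ofBijective
    (MonoidHom.mk' (fun g => sl (σ (g.1 0 0)) ((δ : F) * σ (g.1 0 1)) (((δ⁻¹ : Fˣ) : F) * σ (g.1 1 0)) (σ (g.1 1 1))
      (by
        have h := congrArg σ (det_eq_one g)
        rw [map_sub, map_mul, map_mul, map_one] at h
        rw [mul_mul_mul_comm, Units.mul_inv, one_mul, h]))
      fun g h => by
        refine ext_four ?_ ?_ ?_ ?_ <;> simp only [sl00, sl01, sl10, sl11, val_mul, Fin.sum_univ_two, map_add, map_mul]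
        · linear_combination -(σ (g.1 0 1) * σ (h.1 1 0)) * δ.mul_inv
        · ring
        · ring
        · linear_combination -(σ (g.1 1 0) * σ (h.1 0 1)) * δ.inv_mul)
    (Finite.injective_iff_bijective.1 ((injective_iff_map_eq_one _).2 fun g hg => by
      have e := congrArg Subtype.val hg
      refine ext_four ?_ ?_ ?_ ?_
      · have := congrFun (congrFun e 0) 0
        simpa [sl00] using this
      · have := congrFun (congrFun e 0) 1
        simpa [sl01] using this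
      · have := congrFun (congrFun e 1) 0
        simpa [sl10] using this
      · have := congrFun (congrFun e 1) 1
        simpa [sl11] using this))

theorem twist_val [Finite F] (δ : Fˣ) (σ : RingAut F) (g : SL(2, F)) :
    (twist δ σ g).1 0 0 = σ (g.1 0 0) ∧ (twist δ σ g).1 0 1 = δ * σ (g.1 0 1) ∧
      (twist δ σ g).1 1 0 = ((δ⁻¹ : Fˣ) : F) * σ (g.1 1 0) ∧ (twist δ σ g).1 1 1 = σ (g.1 1 1) := by
  refine ⟨?_, ?_, ?_, ?_⟩ <;> simp [twist, sl00, sl01, sl10, sl11]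

theorem twist_mul [Finite F] (δ δ' : Fˣ) (σ σ' : RingAut F) :
    twist δ σ * twist δ' σ' = twist (δ * Units.map (σ : F →* F) δ') (σ * σ') := MulEquiv.ext fun g => by
  rw [MulAut.mul_apply]
  obtain ⟨a, b, c, d⟩ := twist_val δ σ (twist δ' σ' g)
  obtain ⟨a', b', c', d'⟩ := twist_val δ' σ' g
  obtain ⟨a'', b'', c'', d''⟩ := twist_val (δ * Units.map (σ : F →* F) δ') (σ * σ') g
  refine ext_four ?_ ?_ ?_ ?_
  · rw [a, a', a'']; rfl
  · rw [b, b', b'', map_mul, Units.val_mul, mul_assoc]; rfl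
  · rw [c, c', c'', map_mul, mul_inv, Units.val_mul, mul_assoc, ← map_inv]; rfl
  · rw [d, d', d'']; rfl

theorem conjJ_val (g : SL(2, F)) : (J * g * J⁻¹).1 0 0 = g.1 1 1 ∧ (J * g * J⁻¹).1 0 1 = -g.1 1 0 ∧
    (J * g * J⁻¹).1 1 0 = -g.1 0 1 ∧ (J * g * J⁻¹).1 1 1 = g.1 0 0 := by
  have h : (J : SL(2, F))⁻¹ = sl 0 (-1) 1 0 (by ring) := inv_eq_of_mul_eq_one_right (by
    refine ext_four ?_ ?_ ?_ ?_ <;> simp [J, sl00, sl01, sl10, sl11, val_mul, Fin.sum_univ_two, val_one])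
  rw [h]
  refine ⟨?_, ?_, ?_, ?_⟩ <;> simp [J, sl00, sl01, sl10, sl11, val_mul, Fin.sum_univ_two]

theorem conj_mul_twist [Finite F] (δ : Fˣ) (σ : RingAut F) :
    MulAut.conj (J : SL(2, F)) * twist δ σ = twist δ⁻¹ σ * MulAut.conj J := MulEquiv.ext fun g => by
  rw [MulAut.mul_apply, MulAut.mul_apply, MulAut.conj_apply, MulAut.conj_apply]
  obtain ⟨a, b, c, d⟩ := conjJ_val (twist δ σ g)
  obtain ⟨a', b', c', d'⟩ := twist_val δ σ g
  obtain ⟨a'', b'', c'', d''⟩ := twist_val δ⁻¹ σ (J * g * J⁻¹)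
  obtain ⟨p, q, r, s⟩ := conjJ_val g
  refine ext_four ?_ ?_ ?_ ?_
  · rw [a, d', a'', p]
  · rw [b, c', b'', q, map_neg, mul_neg]
  · rw [c, b', c'', r, map_neg, mul_neg, inv_inv]
  · rw [d, a', d'', s]

theorem conjJ_sq : MulAut.conj (J : SL(2, F)) * MulAut.conj J = 1 := MulEquiv.ext fun g => by
  rw [MulAut.mul_apply, MulAut.conj_apply, MulAut.conj_apply, MulAut.one_apply]
  obtain ⟨p, q, r, s⟩ := conjJ_val g
  obtain ⟨p', q', r', s'⟩ := conjJ_val (J * g * J⁻¹)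
  refine ext_four ?_ ?_ ?_ ?_
  · rw [p', s]
  · rw [q', r, neg_neg]
  · rw [r', q, neg_neg]
  · rw [s', p]

theorem center_card_two [Fintype F] (hodd : Odd (Fintype.card F)) :
    Nat.card (Subgroup.center SL(2, F)) = 2 := by
  have hmem : ∀ g : SL(2, F), g ∈ Subgroup.center SL(2, F) ↔ g = 1 ∨ g = -1 := fun g => by
    rw [← π_one_iff, QuotientGroup.mk'_apply, QuotientGroup.eq_one_iff]
  refine Nat.card_eq_two_iff.2 ⟨⟨1, (hmem 1).2 (Or.inl rfl)⟩, ⟨-1, (hmem (-1)).2 (Or.inr rfl)⟩,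
    fun h => neg_one_ne hodd (congrArg Subtype.val h).symm, ?_⟩
  refine Set.eq_univ_of_forall fun g => ?_
  rcases (hmem g).1 g.2 with h | h
  · exact Or.inl (Subtype.ext h)
  · exact Or.inr (Set.mem_singleton_iff.2 (Subtype.ext h))

end

/-- the model over a given field -/
theorem twist_model {F : Type} [Field F] [Fintype F] [CharP F 5] {m : ℕ} (hm : 2 ≤ m) (v c : ℤ) (N : ℕ) (hv : Odd v) (hN : Even N)
    (hvN : (2 : ℤ) ^ m ∣ v ^ N - 1) (hsum : (2 : ℤ) ^ m ∣ (∑ i ∈ Finset.range N, v ^ i) - 2 * c)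
    (hF : Fintype.card F = 5 ^ 2 ^ (m - 2)) :
    ∃ (Z W g : SL(2, F)) (α : MulAut SL(2, F)),
      Odd (Fintype.card F) ∧ orderOf Z = 2 ^ m ∧ Z ^ 2 ^ (m - 1) = -1 ∧ W * W = -1 ∧ W * Z * W⁻¹ = Z⁻¹ ∧
        α Z = Z ^ v ∧ α W = Z * W ∧ α ^ N = MulAut.conj (Z ^ c) ∧ g * W * g⁻¹ = Z ^ 2 ^ (m - 2) ∧
        ∃ t : ℕ, Odd t ∧ Nat.card SL(2, F) = 2 ^ (m + 1) * t := by
  classical
  haveI : Fact (Nat.Prime 5) := ⟨by norm_num⟩
  haveI : Fact (Nat.Prime 2) := ⟨Nat.prime_two⟩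
  set n := 2 ^ (m - 2) with hn
  have hodd : Odd (Fintype.card F) := by rw [hF]; exact (show Odd 5 by decide).pow
  obtain ⟨t, ht, et⟩ := five_two_pow (m - 2)
  rw [Nat.sub_add_cancel hm, ← hn] at et
  have hdvd : 2 ^ m ∣ Nat.card Fˣ := by
    rw [Nat.card_units, Nat.card_eq_fintype_card, hF, et, Nat.add_sub_cancel_left]
    exact dvd_mul_right _ _
  obtain ⟨ζ, hζ⟩ : ∃ ζ : Fˣ, orderOf ζ = 2 ^ m := by
    obtain ⟨u, hu⟩ := IsCyclic.exists_monoid_generator (α := Fˣ)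
    have hu' : orderOf u = Nat.card Fˣ :=
      orderOf_eq_card_of_forall_mem_zpowers fun w => by
        obtain ⟨k, rfl⟩ := Submonoid.mem_powers_iff _ _ |>.1 (hu w)
        exact ⟨k, zpow_natCast u k⟩
    exact ⟨u ^ (Nat.card Fˣ / 2 ^ m), by
      rw [← hu']; exact orderOf_pow_orderOf_div (orderOf_pos u).ne' (hu' ▸ hdvd)⟩
  have hzeq : ∀ a b : ℤ, (2 : ℤ) ^ m ∣ a - b → ζ ^ a = ζ ^ b := fun a b h => by
    rw [← mul_inv_eq_one, ← zpow_neg, ← zpow_add, ← sub_eq_add_neg, ← orderOf_dvd_iff_zpow_eq_one, hζ]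
    exact_mod_cast h
  obtain ⟨i, s, hs, hsi⟩ := signed_five hm v hv
  let σ : RingAut F := iterateFrobeniusEquiv F 5 i
  have hσ : ∀ x : F, σ x = x ^ 5 ^ i := fun x => rfl
  have hσu : ∀ w : Fˣ, Units.map (σ : F →* F) w = w ^ 5 ^ i := fun w => Units.ext (by
    show σ (w : F) = _; rw [hσ, Units.val_pow_eq_pow_val])
  have hσr : ∀ (r : ℕ) (x : F), (σ ^ r) x = x ^ 5 ^ (i * r) := by
    intro r
    induction r with
    | zero => intro x; simp
    | succ r ih =>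
      intro x
      rw [pow_succ', RingAut.mul_apply, ih, hσ, ← pow_mul, ← pow_add]
      congr 2
  have hσN : σ ^ N = 1 := by
    refine RingEquiv.ext fun x => ?_
    have h5 : (2 : ℤ) ^ m ∣ 5 ^ (i * N) - 1 := by
      have e1 : s ^ N = 1 := by
        rcases hs with rfl | rfl
        · exact one_pow N
        · exact hN.neg_one_pow
      have h2 := dvd_trans hsi (sub_dvd_pow_sub_pow v (s * 5 ^ i) N)
      rw [mul_pow, e1, one_mul, ← pow_mul] at h2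
      have := dvd_sub hvN h2
      rwa [show (v ^ N - 1) - (v ^ N - (5 : ℤ) ^ (i * N)) = 5 ^ (i * N) - 1 by ring] at this
    obtain ⟨w, hw⟩ := five_dvd hm _ h5
    rw [hσr, hw, ← hn, pow_mul, ← hF, FiniteField.pow_card_pow]
    rfl
  set Z : SL(2, F) := torus ζ with hZd
  set W : SL(2, F) := J with hWd
  have hZo : orderOf Z = 2 ^ m := by rw [hZd, orderOf_injective _ torus_inj, hζ]
  have hhalf : ζ ^ 2 ^ (m - 1) = -1 := by
    have h1 : (((ζ ^ 2 ^ (m - 1) : Fˣ)) : F) ^ 2 = 1 := by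
      rw [← Units.val_pow_eq_pow_val, ← pow_mul, ← pow_succ, Nat.sub_add_cancel (by omega), ← hζ,
        pow_orderOf_eq_one, Units.val_one]
    rcases sq_eq_one_iff.1 h1 with h | h
    · exfalso
      have h2 := orderOf_dvd_of_pow_eq_one (Units.ext h : ζ ^ 2 ^ (m - 1) = 1)
      rw [hζ, Nat.pow_dvd_pow_iff_le_right one_lt_two] at h2
      omega
    · exact Units.ext h
  have hZhalf : Z ^ 2 ^ (m - 1) = -1 := by
    rw [hZd, ← map_pow, hhalf]
    obtain ⟨a, b, c, d⟩ := torus_val (-1 : Fˣ)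
    refine ext_four ?_ ?_ ?_ ?_ <;> simp [val_neg, val_one, a, b, c, d]
  have hWZ : W * Z * W⁻¹ = Z⁻¹ := by
    rw [hZd, ← map_inv]
    obtain ⟨a, b, c, d⟩ := torus_val ζ
    obtain ⟨a', b', c', d'⟩ := torus_val ζ⁻¹
    obtain ⟨p, q, r, t'⟩ := conjJ_val (torus ζ)
    refine ext_four ?_ ?_ ?_ ?_
    · rw [hWd, p, d, a']
    · rw [hWd, q, c, b', neg_zero]
    · rw [hWd, r, b, c', neg_zero]
    · rw [hWd, t', a, d', inv_inv]
  have hTt : ∀ (δ : Fˣ) (τ : RingAut F) (w : Fˣ), twist δ τ (torus w) = torus (Units.map (τ : F →* F) w) := by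
    intro δ τ w
    obtain ⟨a, b, c, d⟩ := twist_val δ τ (torus w)
    obtain ⟨a', b', c', d'⟩ := torus_val w
    obtain ⟨a'', b'', c'', d''⟩ := torus_val (Units.map (τ : F →* F) w)
    refine ext_four ?_ ?_ ?_ ?_
    · rw [a, a', a'']; rfl
    · rw [b, b', b'', map_zero, mul_zero]
    · rw [c, c', c'', map_zero, mul_zero]
    · rw [d, d', d'', ← map_inv]; rfl
  have hTJ : ∀ (δ : Fˣ) (τ : RingAut F), twist δ τ W = torus δ * W := by
    intro δ τ
    obtain ⟨a, b, c, d⟩ := twist_val δ τ W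
    obtain ⟨a', b', c', d'⟩ := torus_val δ
    obtain ⟨w1, w2, w3, w4⟩ : W.1 0 0 = 0 ∧ W.1 0 1 = 1 ∧ W.1 1 0 = -1 ∧ W.1 1 1 = 0 := sl_val _ _ _ _ (by ring)
    refine ext_four ?_ ?_ ?_ ?_ <;>
      simp [a, b, c, d, a', b', c', d', w1, w2, w3, w4, val_mul, Fin.sum_univ_two]
  -- the automorphism
  obtain ⟨α, hαZ, hαW, δ2, hα2⟩ : ∃ α : MulAut SL(2, F), α Z = Z ^ v ∧ α W = Z * W ∧
      ∃ δ2 : Fˣ, α ^ 2 = twist δ2 (σ ^ 2) := by
    rcases hs with rfl | rfl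
    · refine ⟨twist ζ σ, ?_, hTJ ζ σ, _, by rw [sq, sq, twist_mul]⟩
      rw [hZd, hTt, hσu, ← map_zpow]
      congr 1
      rw [← zpow_natCast]
      refine (hzeq _ _ ?_).symm
      push_cast
      simpa using hsi
    · refine ⟨twist ζ σ * MulAut.conj W, ?_, ?_, ζ * Units.map (σ : F →* F) ζ⁻¹, ?_⟩
      · rw [MulAut.mul_apply, MulAut.conj_apply, hWZ, hZd, ← map_inv, hTt, hσu, ← map_zpow]
        congr 1
        rw [inv_pow, ← zpow_natCast, ← zpow_neg]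
        refine (hzeq _ _ ?_).symm
        push_cast
        simpa using hsi
      · rw [MulAut.mul_apply, MulAut.conj_apply, mul_inv_cancel_right, hTJ]
      · rw [sq, mul_assoc, ← mul_assoc (MulAut.conj W), conj_mul_twist, mul_assoc, conjJ_sq, mul_one, twist_mul,
          ← sq]
  have hαj : ∀ j : ℕ, (α ^ j) W = Z ^ (∑ l ∈ Finset.range j, v ^ l) * W := by
    intro j
    induction j with
    | zero => simp
    | succ j ih =>
      rw [pow_succ', MulAut.mul_apply, ih, map_mul, map_zpow, hαZ, hαW, ← mul_assoc, ← zpow_mul, ← zpow_add_one,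
        geom_sum_succ]
  have hαN : α ^ N = MulAut.conj (Z ^ c) := by
    obtain ⟨w, rfl⟩ := hN
    have hpw : ∀ j : ℕ, ∃ δ' : Fˣ, (twist δ2 (σ ^ 2)) ^ j = twist δ' ((σ ^ 2) ^ j) := by
      intro j
      induction j with
      | zero =>
        refine ⟨1, MulEquiv.ext fun g => ?_⟩
        rw [pow_zero, pow_zero, MulAut.one_apply]
        obtain ⟨a, b, c, d⟩ := twist_val (1 : Fˣ) (1 : RingAut F) g
        refine ext_four ?_ ?_ ?_ ?_ <;> simp [a, b, c, d]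
      | succ j ih =>
        obtain ⟨δ', e⟩ := ih
        exact ⟨_, by rw [pow_succ, e, twist_mul, ← pow_succ]⟩
    obtain ⟨δ', h1⟩ := hpw w
    rw [← hα2, ← pow_mul, ← pow_mul] at h1
    rw [← two_mul] at hσN hsum ⊢
    rw [hσN] at h1
    have h2 := hαj (2 * w)
    rw [h1, hTJ, hZd, ← map_zpow, hzeq _ _ hsum] at h2
    have h3 : δ' = ζ ^ (2 * c) := torus_inj (mul_right_cancel h2)
    rw [h1]
    refine MulEquiv.ext fun g => ?_
    rw [MulAut.conj_apply, hZd, ← map_zpow, ← map_inv]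
    obtain ⟨a, b, c', d⟩ := twist_val δ' (1 : RingAut F) g
    obtain ⟨a1, b1, c1, d1⟩ := torus_val (ζ ^ c)
    obtain ⟨a2, b2, c2, d2⟩ := torus_val (ζ ^ c)⁻¹
    have e2 : ((δ' : Fˣ) : F) = ((ζ ^ c : Fˣ) : F) * ((ζ ^ c : Fˣ) : F) := by
      rw [h3, two_mul, zpow_add, Units.val_mul]
    have e3 : ((δ'⁻¹ : Fˣ) : F) = (((ζ ^ c)⁻¹ : Fˣ) : F) * (((ζ ^ c)⁻¹ : Fˣ) : F) := by
      rw [h3, two_mul, zpow_add, mul_inv, Units.val_mul]
    refine ext_four ?_ ?_ ?_ ?_ <;>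
      simp only [a, b, c', d, a1, b1, c1, d1, a2, b2, c2, d2, e2, e3, inv_inv, val_mul, Fin.sum_univ_two,
        RingAut.one_apply, mul_zero, zero_mul, add_zero, zero_add]
    · rw [mul_right_comm, Units.mul_inv, one_mul]
    · ring
    · ring
    · rw [mul_right_comm, Units.inv_mul, one_mul]
  -- the fusing element
  have h2 : (2 : F) ≠ 0 := two_ne hodd
  set I : Fˣ := ζ ^ 2 ^ (m - 2) with hI
  have hI2 : (I : F) * (I : F) = -1 := by
    rw [← Units.val_mul, hI, ← pow_add, ← two_mul, ← pow_succ', show m - 2 + 1 = m - 1 by omega, hhalf,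
      Units.val_neg, Units.val_one]
  have hI0 : (I : F) ≠ 0 := I.ne_zero
  have hIinv : ((I⁻¹ : Fˣ) : F) = -(I : F) := by
    rw [Units.val_inv_eq_inv_val]
    exact inv_eq_of_mul_eq_one_right (by rw [mul_neg, hI2, neg_neg])
  let g : SL(2, F) := sl 1 (-(I : F)) (1 / (2 * (I : F))) (1 / 2) (by field_simp; ring)
  refine ⟨Z, W, g, α, hodd, hZo, hZhalf, J_sq, hWZ, hαZ, hαW, hαN, ?_, ?_⟩
  · rw [mul_inv_eq_iff_eq_mul, hZd, ← map_pow, ← hI]
    obtain ⟨a, b, c, d⟩ := torus_val I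
    refine ext_four ?_ ?_ ?_ ?_ <;>
      simp only [g, hWd, J, sl00, sl01, sl10, sl11, val_mul, Fin.sum_univ_two, a, b, c, d, hIinv]
    · ring
    · linear_combination hI2
    · field_simp
      ring
    · field_simp
      linear_combination hI2
  · refine ⟨5 ^ n * t * (1 + 2 ^ (m - 1) * t), ?_, ?_⟩
    · exact (((show Odd 5 by decide).pow).mul ht).mul
        (odd_one.add_even ((Nat.even_pow.2 ⟨even_two, by omega⟩).mul_right t))
    · rw [Cfsg.Lib.Classical.SLTwoTori.card_SL2, hF]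
      rw [show (5 ^ n) ^ 2 - 1 = (5 ^ n + 1) * (5 ^ n - 1) by rw [← Nat.sq_sub_sq, one_pow]]
      generalize 5 ^ n = p at et ⊢
      subst et
      obtain ⟨k, rfl⟩ : ∃ k, m = k + 1 := ⟨m - 1, by omega⟩
      rw [Nat.add_sub_cancel_left, Nat.add_sub_cancel]
      ring

/-- the model -/
theorem exists_twist {m : ℕ} (hm : 2 ≤ m) (v c : ℤ) (N : ℕ) (hv : Odd v) (hN : Even N)
    (hvN : (2 : ℤ) ^ m ∣ v ^ N - 1) (hsum : (2 : ℤ) ^ m ∣ (∑ i ∈ Finset.range N, v ^ i) - 2 * c) :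
    ∃ (F : Type) (_ : Field F) (_ : Fintype F) (Z W g : SL(2, F)) (α : MulAut SL(2, F)),
      Odd (Fintype.card F) ∧ orderOf Z = 2 ^ m ∧ Z ^ 2 ^ (m - 1) = -1 ∧ W * W = -1 ∧ W * Z * W⁻¹ = Z⁻¹ ∧
        α Z = Z ^ v ∧ α W = Z * W ∧ α ^ N = MulAut.conj (Z ^ c) ∧ g * W * g⁻¹ = Z ^ 2 ^ (m - 2) ∧
        ∃ t : ℕ, Odd t ∧ Nat.card SL(2, F) = 2 ^ (m + 1) * t := by
  haveI : Fact (Nat.Prime 5) := ⟨by norm_num⟩
  letI : Fintype (GaloisField 5 (2 ^ (m - 2))) := Fintype.ofFinite _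
  have hF : Fintype.card (GaloisField 5 (2 ^ (m - 2))) = 5 ^ 2 ^ (m - 2) := by
    rw [← Nat.card_eq_fintype_card]
    exact GaloisField.card 5 _ (Nat.two_pow_pos _).ne'
  exact ⟨_, inferInstance, inferInstance, twist_model hm v c N hv hN hvN hsum hF⟩

end Cfsg.Lib.Bicyclic
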