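import Cfsg.Agent.PGroups.Bicyclic.Facts
import Cfsg.Agent.PGroups.Bicyclic.DihedralHom
import Cfsg.Agent.PGroups.Bicyclic.ExtGroup
import Cfsg.Agent.PGroups.Bicyclic.Twist

/-!
A bicyclic non-metacyclic 2-group with cyclic derived subgroup is a cyclic extension of a dihedral or quaternion
group and carries a non-inner saturated fusion system.
-/

set_option autoImplicit false
set_option linter.unusedSectionVars false
set_option linter.style.haveILetI false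

namespace Cfsg.Lib.Bicyclic

open Subgroup
open scoped commutatorElement MatrixGroups

universe u w

/-- the shape of the group with respect to a pair of generators -/
structure Shape {T : Type u} [Group T] (x y : T) where
  z : T
  k : ℕ
  v : ℤ
  c : ℤ
  p : ℕ
  hk : 1 ≤ k
  hz : orderOf z = 2 ^ k
  hzn : (zpowers z).Normal
  der : commutator T = zpowers z
  hy : y ∉ zpowers z
  hyz : y * z * y⁻¹ = z⁻¹
  hv : Odd v
  hxz : x * z * x⁻¹ = z ^ v
  hxy : x * y * x⁻¹ = z * y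
  hyy : y * y = 1 ∨ 2 ≤ k ∧ y * y = z ^ 2 ^ (k - 1)
  D : Subgroup T
  hDn : D.Normal
  hD : ∀ d, d ∈ D ↔ ∃ i : ℤ, d = z ^ i ∨ d = z ^ i * y
  hgen : ∀ s : T, ∃ i : ℤ, ∃ d ∈ D, s = x ^ i * d
  hN : ∀ i : ℤ, x ^ i ∈ D ↔ ((2 ^ (p + 1) : ℕ) : ℤ) ∣ i
  hxN : x ^ 2 ^ (p + 1) = z ^ c

theorem conj_pow_y {T : Type u} [Group T] {x y z : T} {v : ℤ} (hxz : x * z * x⁻¹ = z ^ v)
    (hxy : x * y * x⁻¹ = z * y) :
    ∀ j : ℕ, x ^ j * y * (x ^ j)⁻¹ = z ^ (∑ l ∈ Finset.range j, v ^ l) * y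
  | 0 => by simp
  | j + 1 => by
    rw [pow_succ', show x * x ^ j * y * (x * x ^ j)⁻¹ = x * (x ^ j * y * (x ^ j)⁻¹) * x⁻¹ by group,
      conj_pow_y hxz hxy j,
      show ∀ a : T, x * (a * y) * x⁻¹ = (x * a * x⁻¹) * (x * y * x⁻¹) from fun a => by group, ← conj_zpow, hxz,
      ← zpow_mul, hxy, ← mul_assoc, ← zpow_add_one, geom_sum_succ]

theorem conj_pow_z {T : Type u} [Group T] {x z : T} {v : ℤ} (hxz : x * z * x⁻¹ = z ^ v) :
    ∀ j : ℕ, x ^ j * z * (x ^ j)⁻¹ = z ^ (v ^ j)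
  | 0 => by simp
  | j + 1 => by
    rw [pow_succ', show x * x ^ j * z * (x * x ^ j)⁻¹ = x * (x ^ j * z * (x ^ j)⁻¹) * x⁻¹ by group,
      conj_pow_z hxz j, ← conj_zpow, hxz, ← zpow_mul, ← pow_succ']

theorem dvd_of_zpow_eq {T : Type u} [Group T] {z : T} {k : ℕ} (hz : orderOf z = 2 ^ k) {a b : ℤ}
    (h : z ^ a = z ^ b) : (2 : ℤ) ^ k ∣ b - a := by
  have h1 := (zpow_eq_zpow_iff_modEq.1 h).dvd
  rw [hz] at h1
  exact_mod_cast h1

theorem zpow_eq_of_dvd {T : Type u} [Group T] {z : T} {k : ℕ} (hz : orderOf z = 2 ^ k) {a b : ℤ}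
    (h : (2 : ℤ) ^ k ∣ b - a) : z ^ a = z ^ b :=
  zpow_eq_zpow_iff_modEq.2 (Int.modEq_iff_dvd.2 (by rw [hz]; exact_mod_cast h))

variable {T : Type u} [Group T] [Finite T]

theorem exists_shape (hS : IsPGroup 2 T) (hnm : ¬ Cfsg.IsMetacyclic T) {x y : T}
    (hcl : closure ({x, y} : Set T) = ⊤) (hder : commutator T = zpowers ⁅x, y⁆)
    (hyy : y * y ∈ zpowers (⁅x, y⁆ ^ 2)) : Nonempty (Shape x y) := by
  haveI : Fact (Nat.Prime 2) := ⟨Nat.prime_two⟩
  set z := ⁅x, y⁆ with hzd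
  have hzΦ : z ∈ frattini T := PGroups.commutator_le_frattini hS (hder ▸ mem_zpowers z)
  have nocyc : ∀ g k : T, g ∈ frattini T → closure ({g, k} : Set T) = ⊤ → False := fun g k hg h => by
    have h1 : zpowers k ⊔ frattini T = ⊤ := top_le_iff.1 (h ▸ (closure_le _).2 (by
      rintro t (rfl | rfl)
      · exact mem_sup_right hg
      · exact mem_sup_left (mem_zpowers _)))
    exact hnm (meta_of_cyclic ⟨⟨k, fun g => mem_zpowers_iff.1 (frattini_nongenerating h1 ▸ mem_top g)⟩⟩)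
  have hz1 : z ≠ 1 := fun h => hnm (meta_of hcl (by rw [hder, h, zpowers_one_eq_bot]; exact bot_le))
  obtain ⟨k, hk⟩ := IsPGroup.iff_orderOf.1 hS z
  have hk1 : 1 ≤ k := Nat.one_le_iff_ne_zero.2 fun h => hz1 (orderOf_eq_one_iff.1 (by rw [hk, h, pow_zero]))
  haveI hzn : (zpowers z).Normal := hder ▸ inferInstance
  obtain ⟨v, hv⟩ := mem_zpowers_iff.1 (hzn.conj_mem z (mem_zpowers z) x)
  obtain ⟨w, hw⟩ := mem_zpowers_iff.1 (hzn.conj_mem z (mem_zpowers z) y)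
  have hdodd : ∀ (g : T) (r : ℤ), z ^ r = g * z * g⁻¹ → Odd r := fun g r hr => by
    by_contra hr'
    obtain ⟨q, rfl⟩ := Int.not_odd_iff_even.1 hr'
    have h1 : (g * z * g⁻¹) ^ ((2 : ℤ) ^ (k - 1)) = 1 := by
      rw [← hr, ← zpow_mul]
      refine orderOf_dvd_iff_zpow_eq_one.1 ⟨q, ?_⟩
      rw [hk]
      obtain ⟨k', rfl⟩ := Nat.exists_eq_add_of_le' hk1
      push_cast
      ring
    rw [conj_zpow, conj_eq_one_iff, ← orderOf_dvd_iff_zpow_eq_one, hk] at h1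
    have h2 : 2 ^ k ∣ 2 ^ (k - 1) := by exact_mod_cast h1
    rw [Nat.pow_dvd_pow_iff_le_right one_lt_two] at h2
    omega
  have hvo := hdodd x v hv
  have hwo := hdodd y w hw
  have hxy : x * y * x⁻¹ = z * y := by rw [hzd, commutatorElement_def, inv_mul_cancel_right]
  have hy : y ∉ zpowers z := fun h => nocyc y x (zpowers_le.2 hzΦ h) (Set.pair_comm y x ▸ hcl)
  obtain ⟨e, he⟩ := mem_zpowers_iff.1 hyy
  rw [← zpow_natCast, ← zpow_mul, Nat.cast_ofNat] at he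
  have h1 : (2 : ℤ) ^ k ∣ 2 * e - w * (2 * e) := by
    refine dvd_of_zpow_eq hk ?_
    rw [zpow_mul, hw, conj_zpow, he]
    group
  have h2 : (2 : ℤ) ^ k ∣ v * (2 * e) - (1 + w + 2 * e) := by
    refine dvd_of_zpow_eq hk ?_
    rw [zpow_mul, hv, conj_zpow, he, show x * (y * y) * x⁻¹ = (x * y * x⁻¹) * (x * y * x⁻¹) by group, hxy,
      zpow_add, zpow_add, zpow_one, hw, he]
    group
  obtain ⟨h4e, hw1⟩ : (2 : ℤ) ^ k ∣ 4 * e ∧ (2 : ℤ) ^ k ∣ 1 + w := by
    obtain ⟨b, rfl⟩ := hwo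
    obtain ⟨a, rfl⟩ := hvo
    by_cases hk2 : k = 1
    · subst hk2
      exact ⟨⟨2 * e, by ring⟩, ⟨b + 1, by ring⟩⟩
    have h4 : (4 : ℤ) ∣ (2 : ℤ) ^ k := by
      simpa using pow_dvd_pow (2 : ℤ) (show 2 ≤ k by omega)
    obtain ⟨r, hr⟩ : ∃ r, 1 + (2 * b + 1) = 4 * r := by
      obtain ⟨q, hq⟩ := h4.trans h2
      exact ⟨a * e - q, by linear_combination -hq⟩
    have hb : (2 * b + 1 : ℤ) = 4 * r - 1 := by linear_combination hr
    rw [hb] at h1 h2
    have h4e : (2 : ℤ) ^ k ∣ 4 * e := by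
      have h5 : (2 : ℤ) ^ k ∣ (2 * r - 1) * (4 * e) := by
        have := h1.neg_right
        rwa [show -(2 * e - (4 * r - 1) * (2 * e)) = (2 * r - 1) * (4 * e) by ring] at this
      exact (IsCoprime.pow_left (⟨r, -1, by ring⟩ : IsCoprime (2 : ℤ) (2 * r - 1))).dvd_of_dvd_mul_left h5
    refine ⟨h4e, ?_⟩
    have := dvd_sub (h4e.mul_right a) h2
    rw [show 4 * e * a - ((2 * a + 1) * (2 * e) - (1 + (4 * r - 1) + 2 * e)) = 1 + (4 * r - 1) by ring] at this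
    rwa [hb]
  have hyz : y * z * y⁻¹ = z⁻¹ := by
    rw [← hw, ← zpow_neg_one]
    exact (zpow_eq_of_dvd hk (by rwa [sub_neg_eq_add, add_comm] : (2 : ℤ) ^ k ∣ w - -1)).symm
  have hyy' : y * y = 1 ∨ 2 ≤ k ∧ y * y = z ^ 2 ^ (k - 1) := by
    obtain ⟨j, hj⟩ := h4e
    obtain ⟨k', rfl⟩ := Nat.exists_eq_add_of_le' hk1
    have hj' : 2 * e = 2 ^ k' * j := by rw [pow_succ] at hj; linarith
    rcases Int.even_or_odd' j with ⟨q, rfl | rfl⟩
    · left
      rw [← he, ← zpow_zero z]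
      exact zpow_eq_of_dvd hk ⟨-q, by rw [pow_succ, hj']; ring⟩
    · right
      have hk2 : 2 ≤ k' + 1 := by
        by_contra hlt
        obtain rfl : k' = 0 := by omega
        rw [pow_zero, one_mul] at hj'
        omega
      refine ⟨hk2, ?_⟩
      rw [← he, Nat.add_sub_cancel, ← zpow_natCast]
      push_cast
      exact zpow_eq_of_dvd hk ⟨-q, by rw [pow_succ, hj']; ring⟩
  -- the normal subgroup
  have hyinv : y⁻¹ ∈ zpowers z ∨ ∃ i : ℤ, y⁻¹ = z ^ i * y := Or.inr ⟨-(2 * e), by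
    rw [zpow_neg, he, mul_inv_rev, inv_mul_cancel_right]⟩
  have swap : ∀ j : ℤ, y * z ^ j = z ^ (-j) * y := fun j => by
    rw [← mul_inv_eq_iff_eq_mul, ← conj_zpow, hyz, inv_zpow, zpow_neg]
  let D : Subgroup T :=
    { carrier := {d | ∃ i : ℤ, d = z ^ i ∨ d = z ^ i * y}
      one_mem' := ⟨0, Or.inl (by simp)⟩
      mul_mem' := by
        rintro _ _ ⟨i, rfl | rfl⟩ ⟨j, rfl | rfl⟩
        · exact ⟨i + j, Or.inl (zpow_add z i j).symm⟩
        · exact ⟨i + j, Or.inr (by rw [zpow_add, mul_assoc])⟩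
        · exact ⟨i + -j, Or.inr (by rw [mul_assoc, swap, zpow_add, mul_assoc])⟩
        · refine ⟨i + -j + 2 * e, Or.inl ?_⟩
          rw [show z ^ i * y * (z ^ j * y) = z ^ i * (y * z ^ j) * y by group, swap, zpow_add, zpow_add, he]
          group
      inv_mem' := by
        rintro _ ⟨i, rfl | rfl⟩
        · exact ⟨-i, Or.inl (zpow_neg z i).symm⟩
        · refine ⟨i + -(2 * e), Or.inr ?_⟩
          have hc : z ^ (-(2 * e)) * y = y * z ^ (-(2 * e)) := by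
            rw [zpow_neg, he]; group
          rw [mul_inv_rev, show y⁻¹ = z ^ (-(2 * e)) * y by rw [zpow_neg, he, mul_inv_rev, inv_mul_cancel_right],
            mul_assoc, ← zpow_neg, swap, neg_neg, ← mul_assoc, ← zpow_add, add_comm] }
  have hzD : ∀ i : ℤ, z ^ i ∈ D := fun i => ⟨i, Or.inl rfl⟩
  have hyD : y ∈ D := ⟨0, Or.inr (by simp)⟩
  have hDn : D.Normal := by
    refine normalizer_eq_top_iff.1 (top_le_iff.1 (hcl ▸ (closure_le _).2 ?_))
    intro t ht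
    refine mem_normalizer_iff_map_conj_eq.2 (eq_of_le_of_card_ge ?_ (card_map_of_injective (MulEquiv.injective _)).ge)
    rintro _ ⟨d, ⟨i, hd⟩, rfl⟩
    show t * d * t⁻¹ ∈ D
    have hzt : t * z ^ i * t⁻¹ ∈ D := by
      obtain ⟨r, hr⟩ := mem_zpowers_iff.1 (hzn.conj_mem (z ^ i) (zpow_mem (mem_zpowers z) i) t)
      rw [← hr]; exact hzD r
    rcases hd with rfl | rfl
    · exact hzt
    rw [show t * (z ^ i * y) * t⁻¹ = (t * z ^ i * t⁻¹) * (t * y * t⁻¹) by group]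
    refine mul_mem hzt ?_
    rcases ht with rfl | rfl
    · rw [hxy]; exact mul_mem (by simpa using hzD 1) hyD
    · rwa [mul_inv_cancel_right]
  haveI := hDn
  have hgen : ∀ s : T, ∃ i : ℤ, ∃ d ∈ D, s = x ^ i * d := by
    intro s
    have h3 : zpowers x ⊔ D = ⊤ := top_le_iff.1 (hcl ▸ (closure_le _).2 (by
      rintro t (rfl | rfl)
      · exact mem_sup_left (mem_zpowers _)
      · exact mem_sup_right hyD))
    have hs : s ∈ ((zpowers x ⊔ D : Subgroup T) : Set T) := by rw [h3]; exact mem_top s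
    rw [mul_normal] at hs
    obtain ⟨_, ⟨i, rfl⟩, d, hd, rfl⟩ := Set.mem_mul.1 hs
    exact ⟨i, d, hd, rfl⟩
  obtain ⟨n, hn⟩ := IsPGroup.iff_orderOf.1 (hS.to_quotient D) (x : T ⧸ D)
  have hxD : x ∉ D := by
    rintro ⟨i, hx | hx⟩
    · exact nocyc x y (zpowers_le.2 hzΦ ⟨i, hx.symm⟩) hcl
    · refine nocyc (z ^ i) y (zpow_mem hzΦ i) (top_le_iff.1 ?_)
      rw [← hcl, closure_le]
      rintro t (rfl | rfl)
      · rw [hx]; exact mul_mem (subset_closure (by simp)) (subset_closure (by simp))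
      · exact subset_closure (by simp)
  obtain ⟨p, rfl⟩ : ∃ p, n = p + 1 := ⟨n - 1, by
    rcases n with - | n
    · rw [pow_zero, orderOf_eq_one_iff, QuotientGroup.eq_one_iff] at hn
      exact absurd hn hxD
    · omega⟩
  have hN : ∀ i : ℤ, x ^ i ∈ D ↔ ((2 ^ (p + 1) : ℕ) : ℤ) ∣ i := fun i => by
    rw [← QuotientGroup.eq_one_iff, QuotientGroup.mk_zpow, ← orderOf_dvd_iff_zpow_eq_one, hn]
  have hmem : x ^ 2 ^ (p + 1) ∈ D := by
    rw [← zpow_natCast]
    exact (hN _).2 dvd_rfl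
  obtain ⟨c, hc | hc⟩ := hmem
  · exact ⟨⟨z, k, v, c, p, hk1, hk, hzn, hder, hy, hyz, hvo, hv.symm, hxy, hyy', D, hDn, fun d => Iff.rfl, hgen,
      hN, hc⟩⟩
  · exfalso
    refine nocyc z x hzΦ (top_le_iff.1 ?_)
    rw [← hcl, closure_le]
    have hzc : z ∈ closure ({z, x} : Set T) := subset_closure (by simp)
    have hxc : x ∈ closure ({z, x} : Set T) := subset_closure (by simp)
    rintro t (rfl | rfl)
    · exact hxc
    · rw [show t = (z ^ c)⁻¹ * (x ^ 2 ^ (p + 1)) by rw [hc, inv_mul_cancel_left]]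
      exact mul_mem (inv_mem (zpow_mem hzc c)) (pow_mem hxc _)

namespace Shape

variable {x y : T} (M : Shape x y)

theorem conj_c : (2 : ℤ) ^ M.k ∣ M.c * (M.v - 1) := by
  have h1 : M.z ^ M.c = M.z ^ (M.v * M.c) := by
    rw [zpow_mul, ← M.hxz, conj_zpow, ← M.hxN, ((Commute.refl x).pow_right _).eq, mul_inv_cancel_right]
  have := dvd_of_zpow_eq M.hz h1
  rwa [show M.c * (M.v - 1) = M.v * M.c - M.c by ring]

theorem pow_v : (2 : ℤ) ^ M.k ∣ M.v ^ 2 ^ (M.p + 1) - 1 := by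
  have h1 : M.z ^ (1 : ℤ) = M.z ^ (M.v ^ 2 ^ (M.p + 1)) := by
    rw [← conj_pow_z M.hxz, M.hxN, zpow_one, ((Commute.refl M.z).zpow_left M.c).eq, mul_inv_cancel_right]
  exact dvd_of_zpow_eq M.hz h1

theorem sum_v : (2 : ℤ) ^ M.k ∣ (∑ l ∈ Finset.range (2 ^ (M.p + 1)), M.v ^ l) - 2 * M.c := by
  refine dvd_of_zpow_eq M.hz (mul_right_cancel (b := y) ?_)
  rw [← conj_pow_y M.hxz M.hxy, M.hxN, mul_assoc (M.z ^ M.c), ← zpow_neg,
    show y * M.z ^ (-M.c) = M.z ^ M.c * y by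
      rw [← mul_inv_eq_iff_eq_mul, ← conj_zpow, M.hyz, inv_zpow, zpow_neg, inv_inv],
    ← mul_assoc, ← zpow_add, two_mul]

theorem card_D : Nat.card M.D = 2 ^ (M.k + 1) := by
  have hle : zpowers M.z ≤ M.D := zpowers_le.2 ((M.hD _).2 ⟨1, Or.inl (zpow_one _).symm⟩)
  have hyD : y ∈ M.D := (M.hD _).2 ⟨0, Or.inr (by simp)⟩
  have hidx : ((zpowers M.z).subgroupOf M.D).index = 2 := by
    refine index_eq_two_iff.2 ⟨⟨y, hyD⟩, fun b => ?_⟩
    have hyy : y * y ∈ zpowers M.z := by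
      rcases M.hyy with h | ⟨-, h⟩ <;> rw [h]
      · exact one_mem _
      · exact pow_mem (mem_zpowers _) _
    obtain ⟨i, h | h⟩ := (M.hD b).1 b.2
    · refine Or.inr ⟨(h ▸ zpow_mem (mem_zpowers _) i : (b : T) ∈ zpowers M.z), fun h' => M.hy ?_⟩
      have h3 : (b : T) * y ∈ zpowers M.z := h'
      exact (mul_mem_cancel_left (h ▸ zpow_mem (mem_zpowers _) i : (b : T) ∈ zpowers M.z)).1 h3
    · refine Or.inl ⟨?_, fun h' => M.hy ?_⟩
      · show (b : T) * y ∈ zpowers M.z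
        rw [h, mul_assoc]
        exact mul_mem (zpow_mem (mem_zpowers _) i) hyy
      · exact (mul_mem_cancel_left (zpow_mem (mem_zpowers M.z) i)).1 (h ▸ h' : M.z ^ i * y ∈ zpowers M.z)
  rw [← ((zpowers M.z).subgroupOf M.D).card_mul_index, hidx, Nat.card_congr (subgroupOfEquivOfLe hle).toEquiv,
    Nat.card_zpowers, M.hz, pow_succ]

end Shape

variable {Ω : Type u} [Group Ω] {S : Subgroup Ω} [Finite S] {x y : S}

/-- the system attached to a model of the normal subgroup -/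
theorem Shape.exists_noninner (M : Shape x y) (hS : IsPGroup 2 S) {L : Type w} [Group L] [Finite L] {Z W g : L}
    {α : MulAut L} {r t e : ℤ} (v' : ℤ) (hZ : orderOf Z = 2 ^ M.k) (hW' : W ∉ zpowers Z)
    (hWZ : W * Z * W⁻¹ = Z⁻¹) (he : y * y = M.z ^ e) (hW : W * W = Z ^ e) (hαZ : α Z = Z ^ v')
    (hv' : (2 : ℤ) ^ M.k ∣ v' - M.v) (hαW : α W = Z * W) (hαN : α ^ 2 ^ (M.p + 1) = MulAut.conj (Z ^ M.c))
    (hg : g * W * g⁻¹ = Z ^ r) (ht : Odd t) (hcard : (Nat.card L : ℤ) = 2 ^ (M.k + 1) * t) :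
    ∃ F : Cfsg.FusionSystem S, F.IsSaturated 2 ∧
      ¬ ∀ P : Subgroup Ω, F.Hom P = (Cfsg.innerFusionSystem S).Hom P := by
  haveI := M.hDn
  haveI := M.hzn
  obtain ⟨f, hf, hfz, hfy⟩ := exists_hom_inverting (M.hz.trans hZ.symm) M.hyz hWZ he hW M.hy hW' M.D
    fun d hd => (M.hD d).1 hd
  have hzD : ∀ i : ℤ, M.z ^ i ∈ M.D := fun i => (M.hD _).2 ⟨i, Or.inl rfl⟩
  have hyD : M.z ^ (0 : ℤ) * y ∈ M.D := (M.hD _).2 ⟨0, Or.inr rfl⟩
  have hfeq : ∀ i : ℤ, Z ^ (v' * i) = Z ^ (M.v * i) := fun i =>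
    zpow_eq_of_dvd hZ (by rw [← sub_mul, ← neg_sub, neg_mul]; exact (hv'.mul_right i).neg_right)
  refine exists_noninner_of_extension hS M.D x (2 ^ (M.p + 1)) (Nat.two_pow_pos _).ne' M.hgen M.hN f hf α
    (fun d h => ?_) (fun h => ?_) ?_ (zpowers M.z) ⟨M.z ^ (0 : ℤ) * y, hyD⟩ ⟨M.z ^ r, hzD r⟩ ?_
    (zpow_mem (mem_zpowers _) r) g ?_
  · obtain ⟨d, hd⟩ := d
    obtain ⟨i, rfl | rfl⟩ := (M.hD d).1 hd
    · have e1 : x * M.z ^ i * x⁻¹ = M.z ^ (M.v * i) := by rw [← conj_zpow, M.hxz, zpow_mul]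
      rw [show (⟨x * M.z ^ i * x⁻¹, h⟩ : M.D) = ⟨M.z ^ (M.v * i), e1 ▸ h⟩ from Subtype.ext e1, hfz, hfz, map_zpow,
        hαZ, ← zpow_mul, hfeq]
    · have e1 : x * (M.z ^ i * y) * x⁻¹ = M.z ^ (M.v * i + 1) * y := by
        rw [show x * (M.z ^ i * y) * x⁻¹ = (x * M.z ^ i * x⁻¹) * (x * y * x⁻¹) by group, M.hxy, ← conj_zpow, M.hxz,
          ← zpow_mul, zpow_add_one, mul_assoc]
      rw [show (⟨x * (M.z ^ i * y) * x⁻¹, h⟩ : M.D) = ⟨M.z ^ (M.v * i + 1) * y, e1 ▸ h⟩ from Subtype.ext e1, hfy, hfy,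
        map_mul, map_zpow, hαZ, hαW, ← zpow_mul, hfeq, zpow_add_one, mul_assoc]
  · rw [show (⟨x ^ 2 ^ (M.p + 1), h⟩ : M.D) = ⟨M.z ^ M.c, hzD _⟩ from Subtype.ext M.hxN, hfz, hαN]
  · have h1 := f.range.card_mul_index
    rw [Nat.card_congr (MonoidHom.ofInjective hf).toEquiv.symm, M.card_D] at h1
    intro h2
    have h3 : (f.range.index : ℤ) = t := by
      rw [← h1] at hcard
      push_cast at hcard
      exact mul_left_cancel₀ (pow_ne_zero _ two_ne_zero) hcard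
    rw [← h3, Int.odd_coe_nat, Nat.odd_iff] at ht
    omega
  · show M.z ^ (0 : ℤ) * y ∉ zpowers M.z
    rw [zpow_zero, one_mul]; exact M.hy
  · rw [hfy, hfz, zpow_zero, one_mul, hg]

theorem notMem_zpowers {L : Type w} [Group L] {Z W : L} (hWZ : W * Z * W⁻¹ = Z⁻¹) (hZ : Z * Z ≠ 1) :
    W ∉ zpowers Z := fun h => hZ (by
  obtain ⟨i, rfl⟩ := mem_zpowers_iff.1 h
  rw [((Commute.refl Z).zpow_left i).eq, mul_inv_cancel_right] at hWZ
  exact eq_inv_iff_mul_eq_one.1 hWZ)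

theorem Shape.quaternion (M : Shape x y) (hS : IsPGroup 2 S) (hk : 2 ≤ M.k) (he : y * y = M.z ^ 2 ^ (M.k - 1)) :
    ∃ F : Cfsg.FusionSystem S, F.IsSaturated 2 ∧
      ¬ ∀ P : Subgroup Ω, F.Hom P = (Cfsg.innerFusionSystem S).Hom P := by
  obtain ⟨F, _, _, Z, W, g, α, hodd, hZ, hhalf, hW, hWZ, hαZ, hαW, hαN, hg, t, ht, hcard⟩ :=
    exists_twist hk M.v M.c _ M.hv (Nat.even_pow.2 ⟨even_two, Nat.succ_ne_zero _⟩) M.pow_v M.sum_v
  refine M.exists_noninner hS (L := SL(2, F)) (g := g) (e := ((2 ^ (M.k - 1) : ℕ) : ℤ)) (t := (t : ℤ))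
    (r := ((2 ^ (M.k - 2) : ℕ) : ℤ)) M.v hZ (notMem_zpowers hWZ ?_) hWZ ?_ ?_ hαZ ?_ hαW hαN ?_ ?_ ?_
  · intro h
    have := Nat.le_of_dvd two_pos (hZ ▸ orderOf_dvd_of_pow_eq_one (by rw [sq]; exact h))
    have : 2 ^ 2 ≤ 2 ^ M.k := Nat.pow_le_pow_right two_pos hk
    omega
  · rw [zpow_natCast, he]
  · rw [zpow_natCast, hhalf, hW]
  · rw [sub_self]; exact dvd_zero _
  · rw [zpow_natCast, hg]
  · exact_mod_cast ht
  · exact_mod_cast hcard

theorem Shape.dihedral (M : Shape x y) (hS : IsPGroup 2 S) (he : y * y = 1) (v' : ℤ) (hv' : Odd v')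
    (hvv : (2 : ℤ) ^ M.k ∣ v' - M.v)
    (hsum : (2 : ℤ) ^ (M.k + 1) ∣ (∑ l ∈ Finset.range (2 ^ (M.p + 1)), v' ^ l) - 2 * M.c) :
    ∃ F : Cfsg.FusionSystem S, F.IsSaturated 2 ∧
      ¬ ∀ P : Subgroup Ω, F.Hom P = (Cfsg.innerFusionSystem S).Hom P := by
  have hvN : (2 : ℤ) ^ (M.k + 1) ∣ v' ^ 2 ^ (M.p + 1) - 1 := by
    have h1 : (2 : ℤ) ^ M.k ∣ M.c * (v' - 1) := by
      have := dvd_add (hvv.mul_left M.c) M.conj_c
      rwa [← mul_add, sub_add_sub_cancel] at this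
    have h2 : (2 : ℤ) ^ (M.k + 1) ∣ 2 * M.c * (v' - 1) := by
      rw [pow_succ', mul_assoc]; exact mul_dvd_mul_left 2 h1
    have := dvd_add (hsum.mul_right (v' - 1)) h2
    rwa [← add_mul, sub_add_cancel, geom_sum_mul] at this
  obtain ⟨F, _, _, Z, W, g, α, hodd, hZ, hhalf, hW, hWZ, hαZ, hαW, hαN, hg, t, ht, hcard⟩ :=
    exists_twist (show 2 ≤ M.k + 1 by have := M.hk; omega) v' M.c _ hv'
      (Nat.even_pow.2 ⟨even_two, Nat.succ_ne_zero _⟩) hvN hsum
  rw [Nat.add_sub_cancel] at hhalf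
  let π := QuotientGroup.mk' (Subgroup.center SL(2, F))
  have hπ : ∀ a : SL(2, F), π a = 1 ↔ a = 1 ∨ a = -1 := fun a => Classical.PSLFour.π_one_iff
  have hπZ : orderOf (π Z) = 2 ^ M.k := by
    obtain ⟨k', hk'⟩ := Nat.exists_eq_add_of_le' M.hk
    haveI : Fact (Nat.Prime 2) := ⟨Nat.prime_two⟩
    rw [hk']
    refine orderOf_eq_prime_pow (fun h => ?_) ?_
    · rw [← map_pow, hπ] at h
      have hlt : 2 ^ k' < orderOf Z := by rw [hZ, hk']; exact Nat.pow_lt_pow_right one_lt_two (by omega)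
      rcases h with h | h
      · exact pow_ne_one_of_lt_orderOf (Nat.two_pow_pos k').ne' hlt h
      · refine pow_ne_one_of_lt_orderOf (x := Z) (n := 2 ^ (k' + 1)) (Nat.two_pow_pos _).ne' ?_ ?_
        · rw [hZ, hk']; exact Nat.pow_lt_pow_right one_lt_two (by omega)
        · rw [pow_succ, pow_mul, h, sq, neg_mul_neg, one_mul]
    · rw [← map_pow, ← hk', hhalf, hπ]; exact Or.inr rfl
  have hker : Subgroup.center SL(2, F) = π.ker := (QuotientGroup.ker_mk' _).symm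
  let αbar : MulAut (SL(2, F) ⧸ Subgroup.center SL(2, F)) :=
    QuotientGroup.congr _ _ α (characteristic_iff_map_eq.1 inferInstance α)
  have hαbar : ∀ a, αbar (π a) = π (α a) := fun a => rfl
  have hαpow : ∀ (j : ℕ) (a : SL(2, F)), (αbar ^ j) (π a) = π ((α ^ j) a) := by
    intro j
    induction j with
    | zero => exact fun a => rfl
    | succ j ih => intro a; rw [pow_succ, pow_succ, MulAut.mul_apply, MulAut.mul_apply, hαbar, ih]
  refine M.exists_noninner hS (L := SL(2, F) ⧸ Subgroup.center SL(2, F)) (Z := π Z) (W := π W) (g := π g)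
    (α := αbar) (e := 0) (t := (t : ℤ)) (r := ((2 ^ (M.k + 1 - 2) : ℕ) : ℤ)) v' hπZ ?_ ?_ ?_ ?_ ?_ hvv ?_ ?_ ?_ ?_ ?_
  · intro hmem
    obtain ⟨i, hi⟩ := mem_zpowers_iff.1 hmem
    rw [← map_zpow, eq_comm, Classical.PSLFour.π_eq_iff] at hi
    have hWin : W ∈ zpowers Z := by
      rcases hi with hi | hi
      · exact hi.symm ▸ zpow_mem (mem_zpowers Z) i |> fun h => by
          simpa using (show W ∈ zpowers Z from hi ▸ mem_zpowers_iff.2 ⟨i, rfl⟩)
      · rw [show W = (-1 : SL(2, F)) * Z ^ i by rw [hi, neg_one_mul, neg_neg], ← hhalf]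
        exact mul_mem (pow_mem (mem_zpowers Z) _) (zpow_mem (mem_zpowers Z) i)
    refine notMem_zpowers hWZ (fun h => ?_) hWin
    have := Nat.le_of_dvd two_pos (hZ ▸ orderOf_dvd_of_pow_eq_one (by rw [sq]; exact h))
    have : 2 ^ 2 ≤ 2 ^ (M.k + 1) := Nat.pow_le_pow_right two_pos (by have := M.hk; omega)
    omega
  · rw [← map_inv, ← map_inv, ← map_mul, ← map_mul, hWZ]
  · rw [zpow_zero, he]
  · rw [zpow_zero, ← map_mul, hπ, hW]; exact Or.inr rfl
  · rw [hαbar, hαZ, map_zpow]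
  · rw [hαbar, hαW, map_mul]
  · refine MulEquiv.ext fun q => ?_
    obtain ⟨a, rfl⟩ := QuotientGroup.mk'_surjective _ q
    rw [hαpow, hαN, MulAut.conj_apply, MulAut.conj_apply, map_mul, map_mul, map_inv, map_zpow]
  · rw [← map_inv, ← map_mul, ← map_mul, hg, map_pow, zpow_natCast]
  · exact_mod_cast ht
  · have h1 := Subgroup.card_eq_card_quotient_mul_card_subgroup (Subgroup.center SL(2, F))
    rw [center_card_two hodd, hcard] at h1
    have h2 : Nat.card (SL(2, F) ⧸ Subgroup.center SL(2, F)) = 2 ^ (M.k + 1) * t := by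
      rw [pow_succ' 2 (M.k + 1), mul_assoc, mul_comm (Nat.card _) 2] at h1
      omega
    exact_mod_cast h2

/-- the second half of the theorem -/
theorem exists_noninner_of_cyclic (H : Hyp S) (hcyc : IsCyclic (commutator S)) :
    ∃ F : Cfsg.FusionSystem S, F.IsSaturated 2 ∧
      ¬ ∀ P : Subgroup Ω, F.Hom P = (Cfsg.innerFusionSystem S).Hom P := by
  haveI : Fact (Nat.Prime 2) := ⟨Nat.prime_two⟩
  obtain ⟨σ₀, hσ₀⟩ := hcyc.exists_zpow_surjective
  set σ : S := (σ₀ : S) with hσd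
  have hder : commutator S = zpowers σ := le_antisymm
    (fun s hs => by obtain ⟨i, hi⟩ := hσ₀ ⟨s, hs⟩; exact ⟨i, by simpa using congrArg Subtype.val hi⟩)
    (zpowers_le.2 σ₀.2)
  have hlow : low S ≤ zpowers (σ ^ 2) := by
    refine sup_le (commutator_le.2 fun a ha g _ => ?_) ((closure_le _).2 ?_)
    · obtain ⟨i, rfl⟩ := mem_zpowers_iff.1 (hder ▸ ha : a ∈ zpowers σ)
      obtain ⟨r, hr⟩ := mem_zpowers_iff.1
        (hder ▸ (inferInstance : (commutator S).Normal).conj_mem σ σ₀.2 g : g * σ * g⁻¹ ∈ zpowers σ)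
      rw [show ⁅σ ^ i, g⁆ = σ ^ i * (g * σ ^ i * g⁻¹)⁻¹ by rw [commutatorElement_def]; group, ← conj_zpow, ← hr,
        ← zpow_mul, ← zpow_neg, ← zpow_add]
      rcases Int.even_or_odd' r with ⟨q, rfl | rfl⟩
      · obtain ⟨n, hn⟩ := IsPGroup.iff_orderOf.1 H.two σ
        rcases n with - | n
        · rw [orderOf_eq_one_iff.1 (show orderOf σ = 1 by rw [hn, pow_zero]), one_zpow]; exact one_mem _
        · exfalso
          have h1 : (g * σ * g⁻¹) ^ 2 ^ n = 1 := by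
            rw [← hr, ← zpow_natCast, ← zpow_mul, ← orderOf_dvd_iff_zpow_eq_one, hn]
            exact ⟨q, by push_cast; ring⟩
          rw [conj_pow, conj_eq_one_iff, ← orderOf_dvd_iff_pow_eq_one, hn,
            Nat.pow_dvd_pow_iff_le_right one_lt_two] at h1
          omega
      · exact mem_zpowers_iff.2 ⟨-(q * i), by rw [← zpow_natCast σ 2, ← zpow_mul]; congr 1; push_cast; ring⟩
    · rintro _ ⟨a, ha, rfl⟩
      obtain ⟨i, rfl⟩ := mem_zpowers_iff.1 (hder ▸ ha : a ∈ zpowers σ)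
      exact mem_zpowers_iff.2 ⟨i, by
        show (σ ^ 2) ^ i = (σ ^ i) ^ 2
        rw [← zpow_natCast, ← zpow_natCast (σ ^ i), ← zpow_mul, ← zpow_mul, mul_comm]⟩
  set π := QuotientGroup.mk' (low S) with hπ
  have hπs : Function.Surjective π := QuotientGroup.mk'_surjective _
  set z0 := ⁅H.x, H.y⁆
  have hz0 : z0 ∈ commutator S := by
    rw [_root_.commutator_def]; exact commutator_mem_commutator (mem_top _) (mem_top _)
  have hcen : ∀ t : S, Commute (π z0) (π t) := fun t => by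
    refine commutatorElement_eq_one_iff_mul_comm.1 ?_
    rw [← map_commutatorElement]
    exact (QuotientGroup.eq_one_iff _).2 (mem_sup_left (commutator_mem_commutator hz0 (mem_top t)))
  have hc2 : π z0 ^ 2 = 1 := by
    rw [← map_pow]
    exact (QuotientGroup.eq_one_iff _).2 (mem_sup_right (subset_closure ⟨z0, hz0, rfl⟩))
  have hab : π H.x * π H.y = π z0 * (π H.y * π H.x) := by
    rw [← map_mul, ← map_mul, ← map_mul]
    congr 1
    simp only [z0, commutatorElement_def]; group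
  have hmQ : ¬ Cfsg.IsMetacyclic (S ⧸ low S) := fun hq => H.nm (meta_lift _ rfl H.two _ le_rfl hq)
  obtain ⟨i, j, hi, hj, hij⟩ :=
    bad_case (H.two.to_quotient _) (H.gen.map π hπs) (hcen _) (hcen _) hc2 hab hmQ
  have hcij : π z0 ^ (i * j) = π z0 := by
    obtain ⟨w, hw⟩ := hi.mul hj
    rw [hw, zpow_add, zpow_mul, zpow_ofNat, hc2, one_zpow, one_mul, zpow_one]
  set x := H.x ^ i with hx
  set y := H.x ^ i * H.y ^ j with hy
  have hyy : y * y ∈ low S := by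
    rw [← QuotientGroup.eq_one_iff, ← QuotientGroup.mk'_apply, ← hπ, map_mul, ← sq, hy, map_mul, map_zpow,
      map_zpow, mul_sq_of (hcen _) (hcen _) hc2 hab, hij, hcij, ← sq, hc2]
  have hcl : closure ({x, y} : Set S) = ⊤ := by
    refine (H.gen.odd_pow H.two hi hj).top_le (subset_closure (Or.inl rfl)) ?_
    have := mul_mem (inv_mem (subset_closure (by simp) : x ∈ closure ({x, y} : Set S)))
      (subset_closure (by simp) : y ∈ closure ({x, y} : Set S))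
    rwa [hy, ← hx, inv_mul_cancel_left] at this
  set z := ⁅x, y⁆ with hz
  have hπz : π z = π z0 := by
    rw [hz, map_commutatorElement, hy, hx, map_mul, map_zpow, map_zpow, commutatorElement_def,
      show π H.x ^ i * (π H.x ^ i * π H.y ^ j) * (π H.x ^ i)⁻¹ * (π H.x ^ i * π H.y ^ j)⁻¹ =
        π H.x ^ i * (π H.x ^ i * π H.y ^ j * (π H.y ^ j * π H.x ^ i)⁻¹) * (π H.x ^ i)⁻¹ by group,
      comm_zpow (hcen _) (hcen _) hab i j, mul_inv_cancel_right, hcij, ← (hcen H.x).zpow_right i |>.eq,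
      mul_inv_cancel_right]
  have hπz1 : π z0 ≠ 1 := fun h => hmQ (meta_of (H.gen.map π hπs).closure_eq (by
    have hcm : Commute (π H.x) (π H.y) := by show _ = _; rw [hab, h, one_mul]
    rw [_root_.commutator_def, commutator_le]
    intro a _ b _
    obtain ⟨p, q, rfl⟩ := (H.gen.map π hπs) a
    obtain ⟨p', q', rfl⟩ := (H.gen.map π hπs) b
    rw [commutatorElement_eq_one_iff_mul_comm.2 ((((Commute.refl _).zpow_zpow p p').mul_right
      (hcm.zpow_zpow p q')).mul_left ((hcm.symm.zpow_zpow q p').mul_right ((Commute.refl _).zpow_zpow q q'))).eq]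
    exact one_mem _))
  have hzc : z ∈ commutator S := by
    rw [_root_.commutator_def]; exact commutator_mem_commutator (mem_top _) (mem_top _)
  obtain ⟨s, hs⟩ := mem_zpowers_iff.1 (hder ▸ hzc : z ∈ zpowers σ)
  have hso : Odd s := by
    by_contra h
    obtain ⟨q, rfl⟩ := Int.not_odd_iff_even.1 h
    refine hπz1 (hπz ▸ (QuotientGroup.eq_one_iff _).2 ?_)
    rw [← hs, ← two_mul, mul_comm, zpow_mul, zpow_ofNat]
    exact mem_sup_right (subset_closure ⟨σ ^ q, zpow_mem σ₀.2 q, rfl⟩)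
  have hσz : σ ∈ zpowers z := mem_of_odd_zpow H.two hso (hs.symm ▸ mem_zpowers z)
  have hderz : commutator S = zpowers z :=
    le_antisymm (hder.le.trans (zpowers_le.2 hσz)) (zpowers_le.2 hzc)
  have hyz : y * y ∈ zpowers (z ^ 2) := by
    obtain ⟨q, hq⟩ := mem_zpowers_iff.1 hσz
    refine (zpowers_le.2 ?_ : zpowers (σ ^ 2) ≤ zpowers (z ^ 2)) (hlow hyy)
    rw [← hq, ← zpow_natCast (z ^ q) 2, ← zpow_mul, mul_comm, zpow_mul, zpow_natCast]
    exact zpow_mem (mem_zpowers _) q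
  obtain ⟨M⟩ := exists_shape H.two H.nm hcl hderz hyz
  rcases M.hyy with he | ⟨hk, he⟩
  swap
  · exact M.quaternion H.two hk he
  obtain ⟨r, hr⟩ := M.sum_v
  rcases Int.even_or_odd r with ⟨q, rfl⟩ | hro
  · exact M.dihedral H.two he M.v M.hv (by rw [sub_self]; exact dvd_zero _) ⟨q, by rw [hr, pow_succ]; ring⟩
  rcases Nat.eq_zero_or_pos M.p with hp0 | hp0
  · obtain ⟨q, hq⟩ := hro
    refine M.dihedral H.two he (M.v + 2 ^ M.k)
      (M.hv.add_even (Int.even_pow.2 ⟨even_two, by have := M.hk; omega⟩)) ⟨1, by ring⟩ ⟨q + 1, ?_⟩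
    rw [hp0] at hr ⊢
    simp only [zero_add, pow_one, Finset.sum_range_succ, Finset.sum_range_zero, pow_zero] at hr ⊢
    rw [pow_succ, hq] at *
    linear_combination hr
  -- the other lift gives a quaternion group
  obtain ⟨p', hp'⟩ := Nat.exists_eq_add_of_le' hp0
  set h := 2 ^ M.p with hh
  have hN : 2 ^ (M.p + 1) = h + h := by rw [hh, pow_succ]; ring
  set A := ∑ l ∈ Finset.range h, M.v ^ l with hA
  obtain ⟨a, ha⟩ : Even A := by
    have hgen : ∀ n : ℕ, Even (∑ l ∈ Finset.range n, M.v ^ l) ↔ Even n := by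
      intro n
      induction n with
      | zero => simp
      | succ n ih =>
        rw [Finset.sum_range_succ, Int.even_add, ih, Nat.even_add_one,
          iff_false_right (Int.not_even_iff_odd.2 M.hv.pow)]
    exact (hgen h).2 (by rw [hh]; exact Nat.even_pow.2 ⟨even_two, by omega⟩)
  set g := M.z ^ (-a) * x ^ h with hg
  have swap : ∀ e : ℤ, y * M.z ^ e = M.z ^ (-e) * y := fun e => by
    rw [← mul_inv_eq_iff_eq_mul, ← conj_zpow, M.hyz, inv_zpow, zpow_neg]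
  have hgy : Commute g y := by
    show g * y = y * g
    have h1 : x ^ h * y = M.z ^ A * y * x ^ h := mul_inv_eq_iff_eq_mul.1 (conj_pow_y M.hxz M.hxy h)
    rw [hg, mul_assoc, h1, ha, ← mul_assoc y, swap, neg_neg, ← mul_assoc, ← mul_assoc, ← zpow_add,
      show -a + (a + a) = a by ring]
  have hg2 : g * g = M.z ^ 2 ^ (M.k - 1) := by
    have h1 : x ^ h * M.z ^ (-a) = M.z ^ (M.v ^ h * -a) * x ^ h := by
      refine mul_inv_eq_iff_eq_mul.1 ?_
      rw [← conj_zpow, conj_pow_z M.hxz, zpow_mul]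
    rw [hg, show M.z ^ (-a) * x ^ h * (M.z ^ (-a) * x ^ h) = M.z ^ (-a) * (x ^ h * M.z ^ (-a)) * x ^ h by group, h1,
      mul_assoc, mul_assoc, ← pow_add, ← hN, M.hxN, ← zpow_add, ← zpow_add, ← zpow_natCast]
    obtain ⟨k', hk'⟩ := Nat.exists_eq_add_of_le' M.hk
    obtain ⟨q, hq⟩ := hro
    refine zpow_eq_of_dvd M.hz ⟨q + 1, ?_⟩
    rw [hk', Nat.add_sub_cancel]
    push_cast
    rw [hk', hN, Finset.sum_range_add, hq] at hr
    simp only [pow_add, ← Finset.mul_sum, ← hA, ha] at hr ⊢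
    linarith
  have hgΦ : g ∈ frattini S := mul_mem
    (zpow_mem (PGroups.commutator_le_frattini H.two (M.der ▸ mem_zpowers M.z)) _) (by
      rw [hh, hp', pow_succ', pow_mul]
      exact pow_mem (H.sq_mem x) _)
  have hgk : 2 ≤ M.k := by
    by_contra hlt
    have hk1 : M.k = 1 := by have := M.hk; omega
    refine H.nm (meta_of hcl (M.der.le.trans (zpowers_le.2 ?_)))
    rw [hk1] at hg2
    simp only [Nat.sub_self, pow_zero, pow_one] at hg2
    have hzz : M.z * M.z = 1 := by rw [← sq, show (2 : ℕ) = 2 ^ M.k by rw [hk1, pow_one], ← M.hz, pow_orderOf_eq_one]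
    have hz' : ∀ e : ℤ, Commute (M.z ^ e) x := fun e => by
      refine Commute.zpow_left ?_ e
      show M.z * x = x * M.z
      have := M.hxz
      obtain ⟨w, hw⟩ := M.hv
      rw [hw, zpow_add, zpow_mul, zpow_ofNat, sq, hzz, one_zpow, one_mul, zpow_one, mul_inv_eq_iff_eq_mul] at this
      exact this.symm
    rw [← hg2, hg, ((hz' (-a)).symm.pow_left h).mul_mul_mul_comm (M.z ^ (-a)) (x ^ h), ← pow_add, ← zpow_add,
      show -a + -a = 2 * (-a) by ring, zpow_mul, zpow_ofNat, sq, hzz, one_zpow, one_mul]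
    exact pow_mem (mem_zpowers x) _
  have hcl' : closure ({x, y * g} : Set S) = ⊤ := by
    refine frattini_nongenerating (top_le_iff.1 (hcl ▸ (closure_le _).2 ?_))
    rintro t (ht | ht)
    · rw [ht]; exact mem_sup_left (subset_closure (by simp))
    · rw [show t = y * g * g⁻¹ by rw [mul_inv_cancel_right]; exact ht]
      exact mul_mem_sup (subset_closure (by simp)) (inv_mem hgΦ)
  set d := 1 - a + M.v * a with hd
  have hdo : Odd d := by
    obtain ⟨w, hw⟩ := M.hv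
    exact ⟨w * a, by rw [hd, hw]; ring⟩
  have hbr : ⁅x, y * g⁆ = M.z ^ d := by
    have h1 : x * g * x⁻¹ * g⁻¹ = M.z ^ (a - M.v * a) := by
      rw [hg, show x * (M.z ^ (-a) * x ^ h) * x⁻¹ * (M.z ^ (-a) * x ^ h)⁻¹ =
        (x * M.z ^ (-a) * x⁻¹) * (x * x ^ h * x⁻¹ * (x ^ h)⁻¹) * (M.z ^ (-a))⁻¹ by group, ← conj_zpow, M.hxz,
        ← zpow_mul, ← pow_succ', pow_succ, mul_inv_cancel_right, mul_inv_cancel, mul_one, ← zpow_neg, ← zpow_add]
      congr 1; ring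
    rw [commutatorElement_def, show x * (y * g) * x⁻¹ * (y * g)⁻¹ = (x * y * x⁻¹) * (x * g * x⁻¹ * g⁻¹) * y⁻¹ by group,
      M.hxy, h1, mul_assoc M.z y, swap, ← mul_assoc, ← zpow_one_add, mul_inv_cancel_right, hd]
    congr 1; ring
  have hzd : M.z ∈ zpowers (M.z ^ d) := mem_of_odd_zpow H.two hdo (mem_zpowers _)
  have hyg : y * g * (y * g) = M.z ^ 2 ^ (M.k - 1) := by
    rw [mul_assoc y, ← mul_assoc g, hgy.eq, mul_assoc y g g, ← mul_assoc y y, he, one_mul, hg2]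
  have hmem : y * g * (y * g) ∈ zpowers (⁅x, y * g⁆ ^ 2) := by
    obtain ⟨q, hq⟩ := mem_zpowers_iff.1 hzd
    rw [hyg, hbr, show M.z ^ 2 ^ (M.k - 1) = (M.z ^ 2) ^ 2 ^ (M.k - 2) by
      rw [← pow_mul, ← pow_succ', show M.k - 2 + 1 = M.k - 1 by omega]]
    refine pow_mem ?_ _
    exact mem_zpowers_iff.2 ⟨q, by rw [sq, sq, (Commute.refl (M.z ^ d)).mul_zpow, hq]⟩
  obtain ⟨M'⟩ := exists_shape H.two H.nm hcl' (by
    rw [hbr, M.der]
    exact le_antisymm (zpowers_le.2 hzd) (zpowers_le.2 (zpow_mem (mem_zpowers _) d))) hmem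
  rcases M'.hyy with he' | ⟨hk', he'⟩
  · exfalso
    rw [hyg] at he'
    have := orderOf_dvd_of_pow_eq_one he'
    rw [M.hz, Nat.pow_dvd_pow_iff_le_right one_lt_two] at this
    omega
  · exact M'.quaternion H.two hk' he'

end Cfsg.Lib.Bicyclic
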