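import Mathlib
import Cfsg.Prelude.Def_OddOrderLocal
import Cfsg.Agent.SolvStruct.PGroupBasics

/-!
Bicyclic 2-groups: abelian derived subgroup, Frattini subgroup, a criterion for being metacyclic.
-/

set_option autoImplicit false
set_option linter.unusedSectionVars false
set_option linter.style.haveILetI false

namespace Cfsg.Lib.Bicyclic

open Subgroup
open scoped commutatorElement

universe u

variable {S : Type u} [Group S]

/-- every element is a power of `x` times a power of `y` -/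
def Gen (x y : S) : Prop := ∀ g : S, ∃ i j : ℤ, g = x ^ i * y ^ j

theorem Gen.swap {x y : S} (h : Gen x y) : Gen y x := fun g => by
  obtain ⟨i, j, e⟩ := h g⁻¹
  exact ⟨-j, -i, by rw [← inv_inv g, e, mul_inv_rev, ← zpow_neg, ← zpow_neg]⟩

theorem Gen.map {x y : S} (h : Gen x y) {Q : Type*} [Group Q] (f : S →* Q) (hf : Function.Surjective f) :
    Gen (f x) (f y) := fun g => by
  obtain ⟨s, rfl⟩ := hf g
  obtain ⟨i, j, rfl⟩ := h s
  exact ⟨i, j, by rw [map_mul, map_zpow, map_zpow]⟩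

theorem Gen.closure_eq {x y : S} (h : Gen x y) : closure ({x, y} : Set S) = ⊤ := top_le_iff.1 fun g _ => by
  obtain ⟨i, j, rfl⟩ := h g
  exact mul_mem (zpow_mem (subset_closure (by simp)) _) (zpow_mem (subset_closure (by simp)) _)

theorem Gen.top_le {x y : S} (h : Gen x y) {H : Subgroup S} (hx : x ∈ H) (hy : y ∈ H) : H = ⊤ := by
  rw [← top_le_iff, ← h.closure_eq, closure_le]
  rintro g (rfl | rfl) <;> assumption

theorem normal_of_gen [Finite S] {x y : S} (h : Gen x y) {N : Subgroup S} (hx : ∀ n ∈ N, x * n * x⁻¹ ∈ N)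
    (hy : ∀ n ∈ N, y * n * y⁻¹ ∈ N) : N.Normal := by
  refine normalizer_eq_top_iff.1 (h.top_le ?_ ?_)
  all_goals
    refine mem_normalizer_iff_map_conj_eq.2 (eq_of_le_of_card_ge ?_
      (card_map_of_injective (MulEquiv.injective _)).ge)
    rintro _ ⟨n, hn, rfl⟩
  · exact hx n hn
  · exact hy n hn

/-- a product of two cyclic groups has an abelian derived subgroup -/
theorem Gen.commutator_comm {x y : S} (h : Gen x y) :
    ∀ s ∈ commutator S, ∀ t ∈ commutator S, s * t = t * s := by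
  set K : Set S := {g | ∃ i j : ℤ, g = ⁅x ^ i, y ^ j⁆} with hK
  have hAB : ∀ (k j : ℤ), ∃ m r : ℤ, y ^ j * x ^ k * (y ^ j)⁻¹ = x ^ m * y ^ r := fun k j => h _
  have hBA : ∀ (k j : ℤ), ∃ m r : ℤ, x ^ j * y ^ k * (x ^ j)⁻¹ = y ^ m * x ^ r := fun k j => h.swap _
  have c1 : ∀ (i j : ℤ), ⁅x ^ i, x ^ j⁆ = 1 := fun i j =>
    commutatorElement_eq_one_iff_mul_comm.2 ((Commute.refl x).zpow_zpow i j).eq
  have c2 : ∀ (i j : ℤ), ⁅y ^ i, y ^ j⁆ = 1 := fun i j =>
    commutatorElement_eq_one_iff_mul_comm.2 ((Commute.refl y).zpow_zpow i j).eq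
  have stepY : ∀ (k i j m r : ℤ), y ^ k * x ^ i * (y ^ k)⁻¹ = x ^ m * y ^ r →
      y ^ k * ⁅x ^ i, y ^ j⁆ * (y ^ k)⁻¹ = ⁅x ^ m, y ^ j⁆ := by
    intro k i j m r e
    rw [show y ^ k * ⁅x ^ i, y ^ j⁆ * (y ^ k)⁻¹ = ⁅y ^ k * x ^ i * (y ^ k)⁻¹, y ^ k * y ^ j * (y ^ k)⁻¹⁆ by
      simp only [commutatorElement_def]; group, e,
      show y ^ k * y ^ j * (y ^ k)⁻¹ = y ^ j by group,
      show ⁅x ^ m * y ^ r, y ^ j⁆ = x ^ m * ⁅y ^ r, y ^ j⁆ * (x ^ m)⁻¹ * ⁅x ^ m, y ^ j⁆ by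
        simp only [commutatorElement_def]; group, c2, mul_one, mul_inv_cancel, one_mul]
  have stepX : ∀ (k i j m r : ℤ), x ^ k * y ^ j * (x ^ k)⁻¹ = y ^ m * x ^ r →
      x ^ k * ⁅x ^ i, y ^ j⁆ * (x ^ k)⁻¹ = ⁅x ^ i, y ^ m⁆ := by
    intro k i j m r e
    rw [show x ^ k * ⁅x ^ i, y ^ j⁆ * (x ^ k)⁻¹ = ⁅x ^ k * x ^ i * (x ^ k)⁻¹, x ^ k * y ^ j * (x ^ k)⁻¹⁆ by
      simp only [commutatorElement_def]; group, e,
      show x ^ k * x ^ i * (x ^ k)⁻¹ = x ^ i by group,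
      show ⁅x ^ i, y ^ m * x ^ r⁆ = ⁅x ^ i, y ^ m⁆ * (y ^ m * ⁅x ^ i, x ^ r⁆ * (y ^ m)⁻¹) by
        simp only [commutatorElement_def]; group, c1, mul_one, mul_inv_cancel, mul_one]
  have hKc : ∀ a ∈ K, ∀ b ∈ K, a * b = b * a := by
    rintro _ ⟨i, j, rfl⟩ _ ⟨k, l, rfl⟩
    obtain ⟨m, r, em⟩ := hAB i (-l)
    obtain ⟨m', r', em'⟩ := hBA j (-k)
    have e1 : x ^ (-k) * (y ^ (-l) * ⁅x ^ i, y ^ j⁆ * (y ^ (-l))⁻¹) * (x ^ (-k))⁻¹ = ⁅x ^ m, y ^ m'⁆ := by
      rw [stepY (-l) i j m r em, stepX (-k) m j m' r' em']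
    have e2 : y ^ (-l) * (x ^ (-k) * ⁅x ^ i, y ^ j⁆ * (x ^ (-k))⁻¹) * (y ^ (-l))⁻¹ = ⁅x ^ m, y ^ m'⁆ := by
      rw [stepX (-k) i j m' r' em', stepY (-l) i m' m r em]
    set g := ⁅x ^ i, y ^ j⁆
    have e3 := e1.trans e2.symm
    calc g * ⁅x ^ k, y ^ l⁆
        = x ^ k * y ^ l * (y ^ (-l) * (x ^ (-k) * g * (x ^ (-k))⁻¹) * (y ^ (-l))⁻¹) * (x ^ k * y ^ l)⁻¹ *
            ⁅x ^ k, y ^ l⁆ := by simp only [commutatorElement_def]; group
      _ = _ := by rw [← e3]; simp only [commutatorElement_def]; group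
  have hn : (closure K).Normal := by
    have hx : ∀ k : ℤ, closure K ≤ (closure K).comap (MulAut.conj (x ^ k)).toMonoidHom := fun k => by
      rw [closure_le]
      rintro _ ⟨i, j, rfl⟩
      obtain ⟨m, r, e⟩ := hBA j k
      show x ^ k * ⁅x ^ i, y ^ j⁆ * (x ^ k)⁻¹ ∈ closure K
      rw [stepX k i j m r e]
      exact subset_closure ⟨i, m, rfl⟩
    have hy : ∀ k : ℤ, closure K ≤ (closure K).comap (MulAut.conj (y ^ k)).toMonoidHom := fun k => by
      rw [closure_le]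
      rintro _ ⟨i, j, rfl⟩
      obtain ⟨m, r, e⟩ := hAB i k
      show y ^ k * ⁅x ^ i, y ^ j⁆ * (y ^ k)⁻¹ ∈ closure K
      rw [stepY k i j m r e]
      exact subset_closure ⟨m, j, rfl⟩
    refine ⟨fun n hn g => ?_⟩
    obtain ⟨i, j, rfl⟩ := h g
    have h1 := hx i (hy j hn)
    simpa [mul_assoc, ← map_zpow] using h1
  have hle : commutator S ≤ closure K := by
    haveI := hn
    have hxy : Commute (x : S ⧸ closure K) (y : S ⧸ closure K) := by
      refine commutatorElement_eq_one_iff_mul_comm.1 ?_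
      rw [← QuotientGroup.mk'_apply, ← QuotientGroup.mk'_apply, ← map_commutatorElement,
        QuotientGroup.mk'_apply, QuotientGroup.eq_one_iff]
      exact subset_closure ⟨1, 1, by simp⟩
    rw [_root_.commutator_def, commutator_le]
    intro s _ t _
    obtain ⟨i, j, rfl⟩ := h s
    obtain ⟨k, l, rfl⟩ := h t
    rw [← QuotientGroup.eq_one_iff, ← QuotientGroup.mk'_apply, map_commutatorElement,
      commutatorElement_eq_one_iff_mul_comm, map_mul, map_mul, map_zpow, map_zpow, map_zpow, map_zpow]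
    exact (((Commute.refl _).zpow_zpow i k).mul_right (hxy.zpow_zpow i l)).mul_left
      ((hxy.symm.zpow_zpow j k).mul_right ((Commute.refl _).zpow_zpow j l))
  have hc2 : closure K ≤ centralizer (closure K : Set S) := by
    rw [closure_le]
    intro a ha
    refine mem_centralizer_iff.2 fun b hb => ?_
    have : closure K ≤ centralizer ({a} : Set S) := by
      rw [closure_le]
      exact fun d hd => mem_centralizer_singleton_iff.2 (hKc d hd a ha)
    exact mem_centralizer_singleton_iff.1 (this hb)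
  exact fun s hs t ht => (mem_centralizer_iff.1 (hc2 (hle hs)) t (hle ht)).symm

end Cfsg.Lib.Bicyclic
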