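import Cfsg.Agent.PGroups.Bicyclic.SiteCommon

/-!
A site with `R = [P, α]` a four-group.
-/

set_option autoImplicit false
set_option linter.unusedSectionVars false
set_option linter.style.haveILetI false

namespace Cfsg.Lib.Bicyclic

open Subgroup
open scoped commutatorElement Pointwise

universe u

variable {T : Type u} [Group T] [Finite T]

/-- a group of order dividing 21: the square of an automorphism killed by 4 is trivial -/
theorem sq_eq_one_of_dvd {N : Type*} [Group N] [Finite N] (hN : Nat.card N ∣ 21) (φ : MulAut N) (h4 : φ ^ 4 = 1) :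
    φ ^ 2 = 1 := by
  classical
  have cyc : ∀ (Q : Type _) [Group Q] [Finite Q], IsCyclic Q → Nat.totient (Nat.card Q) ∣ 6 → ∀ ψ : MulAut Q,
      ψ ^ 4 = 1 → ψ ^ 2 = 1 := by
    intro Q _ _ hQ htot ψ hψ
    haveI := hQ
    have h6 : ψ ^ 6 = 1 := orderOf_dvd_iff_pow_eq_one.1
      ((orderOf_dvd_natCard ψ).trans ((IsCyclic.card_mulAut Q).symm ▸ htot))
    rw [show (6 : ℕ) = 4 + 2 from rfl, pow_add, hψ, one_mul] at h6
    exact h6
  have hcases : Nat.card N = 1 ∨ Nat.card N = 3 ∨ Nat.card N = 7 ∨ Nat.card N = 21 := by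
    have h := Nat.le_of_dvd (by norm_num) hN
    have h' := Nat.card_pos (α := N)
    revert hN
    interval_cases Nat.card N <;> norm_num
  have prime_case : ∀ (Q : Type _) [Group Q] [Finite Q], (Nat.card Q = 3 ∨ Nat.card Q = 7) → ∀ ψ : MulAut Q,
      ψ ^ 4 = 1 → ψ ^ 2 = 1 := by
    intro Q _ _ hQ ψ hψ
    rcases hQ with h | h
    · haveI : Fact (Nat.Prime 3) := ⟨Nat.prime_three⟩
      exact cyc Q (isCyclic_of_prime_card (p := 3) h) (by rw [h]; decide) ψ hψ
    · haveI : Fact (Nat.Prime 7) := ⟨by norm_num⟩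
      exact cyc Q (isCyclic_of_prime_card (p := 7) h) (by rw [h]; decide) ψ hψ
  rcases hcases with h | h | h | h
  · haveI : Subsingleton N := (Nat.card_eq_one_iff_unique.1 h).1
    exact MulEquiv.ext fun n => Subsingleton.elim _ _
  · exact prime_case N (Or.inl h) φ h4
  · exact prime_case N (Or.inr h) φ h4
  haveI : Fact (Nat.Prime 7) := ⟨by norm_num⟩
  obtain ⟨Q⟩ : Nonempty (Sylow 7 N) := inferInstance
  have hQc : Nat.card (Q : Subgroup N) = 7 := by
    rw [Q.card_eq_multiplicity, h, show (21 : ℕ) = 3 * 7 from rfl, Nat.factorization_mul (by norm_num) (by norm_num),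
      Finsupp.add_apply, Nat.Prime.factorization Nat.prime_three, Nat.Prime.factorization (by norm_num : Nat.Prime 7),
      Finsupp.single_apply, Finsupp.single_apply]
    norm_num
  haveI : Subsingleton (Sylow 7 N) := by
    have h1 := card_sylow_modEq_one 7 N
    have h2 := Q.card_dvd_index
    have h3 : (Q : Subgroup N).index = 3 := by
      have := (Q : Subgroup N).card_mul_index
      rw [hQc, h] at this
      omega
    rw [h3] at h2
    rcases (Nat.dvd_prime Nat.prime_three).1 h2 with h4' | h4'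
    · exact (Nat.card_eq_one_iff_unique.1 h4').1
    · rw [h4'] at h1
      exact absurd h1 (by decide)
  haveI : (Q : Subgroup N).Normal := Q.normal_of_subsingleton
  have hchar : ∀ ψ : MulAut N, (Q : Subgroup N).map ψ.toMonoidHom = Q :=
    fun ψ => characteristic_iff_map_eq.1 (Sylow.characteristic_of_normal Q inferInstance) ψ
  let res : MulAut N → MulAut (Q : Subgroup N) := fun ψ =>
    (ψ.subgroupMap Q).trans (MulEquiv.subgroupCongr (hchar ψ))
  have hres : ∀ ψ (q : (Q : Subgroup N)), ((res ψ q : (Q : Subgroup N)) : N) = ψ q := fun ψ q => rfl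
  have hrespow : ∀ (k : ℕ) (q : (Q : Subgroup N)), (((res φ) ^ k) q : N) = (φ ^ k) q := by
    intro k
    induction k with
    | zero => exact fun q => rfl
    | succ k ih =>
      intro q
      rw [pow_succ, pow_succ, MulAut.mul_apply, MulAut.mul_apply, ih, hres]
  have hQ2 : ∀ q ∈ (Q : Subgroup N), (φ ^ 2) q = q := by
    intro q hq
    have h1 := prime_case (Q : Subgroup N) (Or.inr hQc) (res φ)
      (MulEquiv.ext fun q => Subtype.ext (by rw [hrespow, h4]; rfl))
    rw [← hrespow 2 ⟨q, hq⟩, h1]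
    rfl
  let qu : MulAut N → MulAut (N ⧸ (Q : Subgroup N)) := fun ψ => QuotientGroup.congr _ _ ψ (hchar ψ)
  have hqpow : ∀ (k : ℕ) (n : N), ((qu φ) ^ k) (n : N ⧸ (Q : Subgroup N)) = (((φ ^ k) n : N) : N ⧸ (Q : Subgroup N)) := by
    intro k
    induction k with
    | zero => exact fun n => rfl
    | succ k ih =>
      intro n
      rw [pow_succ, pow_succ, MulAut.mul_apply, MulAut.mul_apply, ← ih]
      rfl
  have hqc : Nat.card (N ⧸ (Q : Subgroup N)) = 3 := by
    have := card_eq_card_quotient_mul_card_subgroup (Q : Subgroup N)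
    rw [hQc, h] at this
    omega
  refine MulEquiv.ext fun n => ?_
  have h1 := prime_case _ (Or.inl hqc) (qu φ) (MulEquiv.ext fun q => by
    obtain ⟨m, rfl⟩ := QuotientGroup.mk_surjective q
    rw [hqpow, h4]; rfl)
  have h2 : n⁻¹ * (φ ^ 2) n ∈ (Q : Subgroup N) := by
    refine QuotientGroup.eq.1 ?_
    rw [← hqpow, h1]
    rfl
  set c := n⁻¹ * (φ ^ 2) n with hc
  have hn2 : (φ ^ 2) n = n * c := by rw [hc, mul_inv_cancel_left]
  have h3 : c ^ 2 = 1 := by
    have h5 : (φ ^ 4) n = n * c * c := by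
      rw [show (4 : ℕ) = 2 + 2 from rfl, pow_add, MulAut.mul_apply, hn2, map_mul, hn2, hQ2 c h2]
    rw [h4, MulAut.one_apply, mul_assoc, left_eq_mul] at h5
    rw [sq]
    exact h5
  have hc1 : c = 1 := by
    have h5 := orderOf_dvd_of_pow_eq_one h3
    have h6 : orderOf c ∣ 7 := hQc ▸ Subgroup.orderOf_dvd_natCard (Q : Subgroup N) h2
    exact orderOf_eq_one_iff.1 (Nat.eq_one_of_dvd_one (Nat.dvd_gcd h5 h6))
  rw [hn2, hc1, mul_one]
  rfl

namespace Data

variable (D : Data T)

/-- non-trivial actions on `W` agree -/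
theorem act_eq {e e' : T} (h : ∃ w ∈ D.W, e * w * e⁻¹ ≠ w) (h' : ∃ w ∈ D.W, e' * w * e'⁻¹ ≠ w) :
    ∀ w ∈ D.W, e * w * e⁻¹ = e' * w * e'⁻¹ := by
  obtain ⟨z0, hz0W, hz01, hz0Z, hconj, -⟩ := D.hyp.omega_data D.hnc
  have hmove : ∀ e : T, (∃ w ∈ D.W, e * w * e⁻¹ ≠ w) → ∀ w ∈ D.W, w ≠ 1 → w ≠ z0 → e * w * e⁻¹ = w * z0 := by
    rintro e ⟨w', hw', hne⟩ w hw h1 h2
    rcases hconj e w hw with h | h
    · exfalso
      let M : Subgroup T := D.W ⊓ centralizer {e}
      have hz0M : z0 ∈ M := Subgroup.mem_inf.2 ⟨hz0W, mem_centralizer_singleton_iff.2 (mem_center_iff.1 hz0Z e).symm⟩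
      have hwM : w ∈ M := Subgroup.mem_inf.2
        ⟨hw, mem_centralizer_singleton_iff.2 (mul_inv_eq_iff_eq_mul.1 h).symm⟩
      have h4 : Nat.card M ∣ 4 := D.card_W ▸ card_dvd_of_le inf_le_left
      have h3 : 3 ≤ Nat.card M := by
        classical
        haveI := Fintype.ofFinite M
        rw [Nat.card_eq_fintype_card]
        refine le_trans (le_of_eq ?_)
          (Finset.card_le_univ ({1, ⟨z0, hz0M⟩, ⟨w, hwM⟩} : Finset M))
        rw [Finset.card_insert_of_notMem, Finset.card_insert_of_notMem, Finset.card_singleton]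
        · simp only [Finset.mem_singleton, Subtype.mk.injEq]; exact Ne.symm h2
        · simp only [Finset.mem_insert, Finset.mem_singleton, not_or, Subtype.ext_iff]
          exact ⟨Ne.symm hz01, Ne.symm h1⟩
      have hle4 := Nat.le_of_dvd (by norm_num) h4
      have hM : M = D.W := eq_of_le_of_card_ge inf_le_left (by
        rw [D.card_W]
        interval_cases hc : Nat.card M <;> omega)
      have := mem_centralizer_singleton_iff.1 (Subgroup.mem_inf.1 (hM.symm ▸ hw' : w' ∈ M)).2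
      exact hne (by rw [← this, mul_inv_cancel_right])
    · exact h
  intro w hw
  by_cases h1 : w = 1
  · rw [h1]; group
  by_cases h2 : w = z0
  · rw [h2, mem_center_iff.1 hz0Z e, mem_center_iff.1 hz0Z e', mul_inv_cancel_right, mul_inv_cancel_right]
  rw [hmove e h w hw h1 h2, hmove e' h' w hw h1 h2]

/-- all translations of `a` by `W` cannot be induced with `W` fixed -/
theorem false_of_translations (a : T) (ha : a ∈ D.P) (hWP : D.W ≤ D.P)
    (hP : ∀ p ∈ D.P, p ∈ D.W ∨ a⁻¹ * p ∈ D.W) (haW : a ∉ D.W) (hab : ∀ p ∈ D.P, ∀ p' ∈ D.P, Commute p p')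
    (htr : ∀ p ∈ D.W, ∃ g : T, g * a * g⁻¹ = p * a ∧ ∀ w ∈ D.W, Commute g w) : False := by
  obtain ⟨γ, hγA, hγ⟩ := D.s.bad
  set Wp : Subgroup D.P := D.W.subgroupOf D.P with hWp
  have hWpc : Nat.card Wp = 4 := by
    rw [hWp, Nat.card_congr (subgroupOfEquivOfLe hWP).toEquiv, D.card_W]
  have hmul : ∀ p ∈ D.P, p ∉ D.W → a⁻¹ * p ∈ D.W := fun p hp hp' => (hP p hp).resolve_left hp'
  have hidx : Wp.index = 2 := by
    refine index_eq_two_iff.2 ⟨⟨a, ha⟩, fun b => ?_⟩
    by_cases hb : b ∈ Wp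
    · exact Or.inr ⟨hb, fun h => haW (by
        have h1 : (⟨a, ha⟩ : D.P) ∈ Wp := by simpa using mul_mem (inv_mem hb) h
        exact h1)⟩
    · refine Or.inl ⟨?_, hb⟩
      have h1 := hmul _ b.2 hb
      have h2 : a * a ∈ D.W := by
        rcases hP _ (mul_mem ha ha) with h | h
        · exact h
        · exact absurd (by simpa using h) haW
      show (b : T) * a ∈ D.W
      rw [(hab _ b.2 a ha).eq, show a * (b : T) = (a * a) * (a⁻¹ * b) by group]
      exact mul_mem h2 h1
  have hP8 : Nat.card D.P = 8 := by rw [← Wp.card_mul_index, hWpc, hidx]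
  obtain ⟨p, hpW, hpγ, hp1⟩ : ∃ p : D.P, p ∈ Wp ∧ p ∈ Wp.map γ.toMonoidHom ∧ p ≠ 1 := by
    set W' := Wp.map γ.toMonoidHom
    have hW'c : Nat.card W' = 4 := by rw [card_map_of_injective γ.injective, hWpc]
    by_contra! hno
    have hbot : Wp ⊓ W' = ⊥ := (eq_bot_iff_forall _).2 fun p hp => hno p hp.1 hp.2
    haveI : Wp.Normal := normal_of_index_eq_two hidx
    have h1 : Wp.relIndex W' ≤ 2 :=
      Nat.le_of_dvd two_pos (hidx ▸ relIndex_dvd_index_of_normal Wp W')
    have h2 : Wp.relIndex W' = 4 := by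
      rw [← inf_relIndex_right, hbot, relIndex_bot_left, hW'c]
    omega
  obtain ⟨p0, hp0W, hp0⟩ := hpγ
  have hp01 : p0 ≠ 1 := fun h => hp1 (by rw [← hp0, h, map_one])
  obtain ⟨g, hga, hgW⟩ := htr p hpW
  obtain ⟨g0, hg0a, hg0W⟩ := htr p0 hp0W
  -- the two translations
  have hnorm : ∀ (g : T) (q : T), q ∈ D.W → g * a * g⁻¹ = q * a → (∀ w ∈ D.W, Commute g w) →
      g ∈ normalizer (D.P : Set T) := by
    intro g q hq hg hgw
    refine mem_normalizer_iff_map_conj_eq.2 (eq_of_le_of_card_ge ?_ (card_map_of_injective (MulEquiv.injective _)).ge)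
    rintro _ ⟨x, hx, rfl⟩
    show g * x * g⁻¹ ∈ D.P
    rcases hP x hx with h | h
    · rw [(hgw x h).eq, mul_inv_cancel_right]; exact hx
    · rw [show g * x * g⁻¹ = (g * a * g⁻¹) * (g * (a⁻¹ * x) * g⁻¹) by group, hg, (hgw _ h).eq, mul_inv_cancel_right]
      exact mul_mem (mul_mem (hWP hq) ha) (hWP h)
  have hgN := hnorm g p hpW hga hgW
  have hg0N := hnorm g0 p0 hp0W hg0a hg0W
  have hform : ∀ (g : T) (hg : g ∈ normalizer (D.P : Set T)) (q : D.P), g * a * g⁻¹ = (q : T) * a →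
      (∀ w ∈ D.W, Commute g w) → ∀ e : D.P, (e ∈ Wp → Fusion.conjAut D.P g hg e = e) ∧
        (e ∉ Wp → Fusion.conjAut D.P g hg e = q * e) := by
    intro g hg q hga hgw e
    refine ⟨fun he => Subtype.ext ?_, fun he => Subtype.ext ?_⟩
    · show g * e * g⁻¹ = (e : T)
      rw [(hgw (e : T) he).eq, mul_inv_cancel_right]
    · have h := hmul _ e.2 he
      show g * e * g⁻¹ = (q : T) * e
      rw [show g * (e : T) * g⁻¹ = (g * a * g⁻¹) * (g * (a⁻¹ * e) * g⁻¹) by group, hga, (hgw _ h).eq,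
        mul_inv_cancel_right, mul_assoc, mul_inv_cancel_left]
  set β := Fusion.conjAut D.P g hgN
  set β0 := Fusion.conjAut D.P g0 hg0N
  set β' := γ * β0 * γ⁻¹ with hβ'
  have hb := hform g hgN p hga hgW
  have hb0 := hform g0 hg0N p0 hg0a hg0W
  have hb' : ∀ e, β' e = e ∨ β' e = p * e := by
    intro e
    by_cases he : γ⁻¹ e ∈ Wp
    · left
      rw [hβ', MulAut.mul_apply, MulAut.mul_apply, (hb0 _).1 he, MulAut.apply_inv_self]
    · right
      rw [hβ', MulAut.mul_apply, MulAut.mul_apply, (hb0 _).2 he, map_mul, MulAut.apply_inv_self]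
      rw [show γ p0 = p from hp0]
  have hb2 : ∀ e, β e = e ∨ β e = p * e := fun e => by
    by_cases he : e ∈ Wp
    · exact Or.inl ((hb e).1 he)
    · exact Or.inr ((hb e).2 he)
  have hβp : β p = p := (hb p).1 hpW
  have hβ'p : β' p = p := by
    have hγp : γ⁻¹ p = p0 := by rw [← hp0]; exact MulAut.inv_apply_self _ γ p0
    rw [hβ', MulAut.mul_apply, MulAut.mul_apply, hγp, (hb0 p0).1 hp0W]
    exact hp0
  have hcomm : Commute β β' := MulEquiv.ext fun e => by
    show β (β' e) = β' (β e)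
    rcases hb' e with h1 | h1 <;> rcases hb2 e with h2 | h2 <;> rw [h1, h2] <;>
      simp only [map_mul, hβp, hβ'p, h1, h2]
  haveI : Fact (Nat.Prime 2) := ⟨Nat.prime_two⟩
  have hp2 : p * p = 1 := Subtype.ext (by rw [← sq, Subgroup.coe_pow, Subgroup.coe_one]; exact D.W_sq hpW)
  have hsq : ∀ b : MulAut D.P, (∀ e, b e = e ∨ b e = p * e) → b p = p → b ^ 2 = 1 := fun b hb hbp =>
    MulEquiv.ext fun e => by
      rw [sq, MulAut.mul_apply, MulAut.one_apply]
      rcases hb e with h | h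
      · rw [h, h]
      · rw [h, map_mul, hbp, h, ← mul_assoc, hp2, one_mul]
  have hβA : β ∈ D.s.A := D.s.conj g hgN
  have hβ'A : β' ∈ D.s.A := mul_mem (mul_mem hγA (D.s.conj g0 hg0N)) (inv_mem hγA)
  let K : Subgroup (MulAut D.P) :=
    { carrier := {b | ∃ i j : ℤ, b = β ^ i * β' ^ j}
      one_mem' := ⟨0, 0, by simp⟩
      mul_mem' := by
        rintro _ _ ⟨i, j, rfl⟩ ⟨k, l, rfl⟩
        exact ⟨i + k, j + l, by
          rw [zpow_add, zpow_add, mul_assoc, ← mul_assoc (β' ^ j), (hcomm.symm.zpow_zpow j k).eq]; group⟩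
      inv_mem' := by
        rintro _ ⟨i, j, rfl⟩
        exact ⟨-i, -j, by rw [mul_inv_rev, zpow_neg, zpow_neg, ((hcomm.zpow_zpow i j).inv_inv).eq]⟩ }
  have hK2 : IsPGroup 2 K := by
    rintro ⟨b, i, j, rfl⟩
    refine ⟨1, Subtype.ext ?_⟩
    show (β ^ i * β' ^ j) ^ 2 ^ 1 = 1
    rw [pow_one, (hcomm.zpow_zpow i j).mul_pow, ← zpow_natCast, ← zpow_natCast (β' ^ j), ← zpow_mul, ← zpow_mul,
      mul_comm i, mul_comm j, zpow_mul, zpow_mul, zpow_natCast, zpow_natCast, hsq β hb2 hβp, hsq β' hb' hβ'p,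
      one_zpow, one_zpow, one_mul]
  have hKA : K ≤ D.s.A := by
    rintro _ ⟨i, j, rfl⟩; exact mul_mem (zpow_mem hβA i) (zpow_mem hβ'A j)
  obtain ⟨δ, hδA, hδ⟩ := D.s.syl K hKA hK2
  have hgP : g ∉ D.P := fun h => by
    have h1 : g * a * g⁻¹ = a := by rw [(hab g h a ha).eq, mul_inv_cancel_right]
    rw [hga] at h1
    exact hp1 (Subtype.ext (mul_eq_right.1 h1))
  have hg0P : g0 ∉ D.P := fun h => by
    have h1 : g0 * a * g0⁻¹ = a := by rw [(hab g0 h a ha).eq, mul_inv_cancel_right]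
    rw [hg0a] at h1
    exact hp01 (Subtype.ext (mul_eq_right.1 h1))
  have h1 : δ ∈ D.s.good := D.s.good_conj δ hδA g hgN hgP (hδ β ⟨1, 0, by simp⟩)
  have h2 : δ * γ ∈ D.s.good := D.s.good_conj _ (mul_mem hδA hγA) g0 hg0N hg0P (by
    obtain ⟨h, hh, e⟩ := hδ β' ⟨0, 1, by simp⟩
    refine ⟨h, hh, ?_⟩
    rw [← e, hβ']
    group
    rfl)
  have := mul_mem (inv_mem h1) h2
  rw [inv_mul_cancel_left] at this
  exact hγ this

/-- a cyclic Sylow 2-subgroup of order 4 in the automizer of an elementary group of order 8 is impossible -/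
theorem false_of_four_cycle (hP8 : Nat.card D.P = 8) (hel : ∀ p : D.P, p ^ 2 = 1) (x : T)
    (hN : normalizer (D.P : Set T) = ⊤)
    (hgen : ∀ g : T, ∀ hg : g ∈ normalizer (D.P : Set T),
      Fusion.conjAut D.P g hg ∈ zpowers (Fusion.conjAut D.P x (by rw [hN]; exact mem_top x)))
    (h2 : (Fusion.conjAut D.P x (by rw [hN]; exact mem_top x)) ^ 2 ≠ 1)
    (h4 : (Fusion.conjAut D.P x (by rw [hN]; exact mem_top x)) ^ 4 = 1) : False := by
  classical
  haveI : Fact (Nat.Prime 2) := ⟨Nat.prime_two⟩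
  set xb := Fusion.conjAut D.P x (by rw [hN]; exact mem_top x) with hxb
  have hab : ∀ a b : D.P, a * b = b * a := fun a b => by
    have h := hel (a * b)
    have ha := hel a
    have hb := hel b
    rw [sq] at h ha hb
    calc a * b = (a * b)⁻¹ := (inv_eq_of_mul_eq_one_right h).symm
      _ = b⁻¹ * a⁻¹ := mul_inv_rev a b
      _ = b * a := by rw [inv_eq_of_mul_eq_one_right hb, inv_eq_of_mul_eq_one_right ha]
  have hord : orderOf xb = 4 := by
    have := orderOf_eq_prime_pow (p := 2) (n := 1) (x := xb) (by rwa [pow_one]) h4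
    rwa [show 2 ^ (1 + 1) = 4 from rfl] at this
  have hxA : xb ∈ D.s.A := D.s.conj x _
  set G := D.s.A with hG
  set xg : G := ⟨xb, hxA⟩ with hxg
  have hordg : orderOf xg = 4 := by
    rw [← orderOf_injective G.subtype G.subtype_injective xg]; exact hord
  have hxp : IsPGroup 2 (zpowers xg) := IsPGroup.of_card (n := 2) (by rw [Nat.card_zpowers, hordg]; rfl)
  obtain ⟨Q, hQ⟩ := hxp.exists_le_sylow
  have hQeq : (Q : Subgroup G) = zpowers xg := by
    refine (eq_of_le_of_card_ge hQ ?_).symm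
    rw [Nat.card_zpowers, hordg]
    obtain ⟨δ, -, hδ⟩ := D.s.syl ((Q : Subgroup G).map G.subtype) (map_subtype_le _) (Q.2.map _)
    rw [← card_map_of_injective (K := (Q : Subgroup G)) (f := G.subtype) G.subtype_injective,
      ← card_map_of_injective (MulAut.conj δ).injective (f := (MulAut.conj δ).toMonoidHom), ← hord,
      ← Nat.card_zpowers]
    refine card_le_of_le ?_
    rintro _ ⟨k, hk, rfl⟩
    obtain ⟨g, hg, e⟩ := hδ k hk
    show δ * k * δ⁻¹ ∈ zpowers xb
    rw [e]
    exact hgen g hg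
  haveI hQc : IsCyclic (Q : Subgroup G) := by rw [hQeq]; infer_instance
  have hcard4 : 4 ∣ Nat.card G := hordg ▸ orderOf_dvd_natCard xg
  have hmin : (Nat.card G).minFac = 2 := Nat.minFac_eq_two_iff _ |>.2 ((by norm_num : 2 ∣ 4).trans hcard4)
  have hle := IsCyclic.normalizer_le_centralizer hmin hQc
  have hcompl := MonoidHom.ker_transferSylow_isComplement' Q hle
  set N := (MonoidHom.transferSylow Q hle).ker with hNd
  have hcardN : Nat.card N * 4 = Nat.card G := by
    have := hcompl.card_mul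
    rwa [hQeq, Nat.card_zpowers, hordg] at this
  have hodd : ¬ 2 ∣ Nat.card N := MonoidHom.not_dvd_card_ker_transferSylow Q hle
  have h21 : Nat.card N ∣ 21 := by
    have hfr : frattini D.P = ⊥ :=
      Cfsg.Lib.SolvStruct.frattini_eq_bot_of_elementary (p := 2) hel hab
    have h168 : Nat.card (MulAut D.P) ∣ 168 := by
      refine (PGroups.card_aut_dvd (p := 2) (n := 3) (r := 3) (by rw [hP8]; rfl)
        (by rw [hfr, index_bot, hP8]; rfl)).trans ?_
      simp [Finset.prod_range_succ]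
    have h1 : Nat.card N * 4 ∣ 8 * 21 := hcardN ▸ (card_subgroup_dvd_card G).trans h168
    refine Nat.Coprime.dvd_of_dvd_mul_left ?_ ((dvd_mul_right _ 4).trans h1)
    exact (Nat.Coprime.pow_right 3 ((Nat.coprime_comm).1 ((Nat.Prime.coprime_iff_not_dvd Nat.prime_two).2 hodd)))
  set φ : MulAut N := MulAut.conjNormal xg with hφ
  have hφ2 : φ ^ 2 = 1 := by
    refine sq_eq_one_of_dvd h21 φ ?_
    rw [hφ, ← map_pow, show xg ^ 4 = 1 from Subtype.ext h4, map_one]
  have hcen : ∀ g : G, Commute (xg ^ 2) g := by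
    intro g
    have hmem : g ∈ (N : Set G) * ((Q : Subgroup G) : Set G) := by
      obtain ⟨⟨n, q⟩, h⟩ := hcompl.2 g
      exact ⟨n, n.2, q, q.2, h⟩
    obtain ⟨n, hn, q, hq, rfl⟩ := Set.mem_mul.1 hmem
    rw [SetLike.mem_coe, hQeq] at hq
    obtain ⟨i, rfl⟩ := mem_zpowers_iff.1 hq
    refine Commute.mul_right ?_ ((Commute.refl xg).pow_left 2 |>.zpow_right i)
    have h1 := congrArg (fun f : MulAut N => ((f ⟨n, hn⟩ : N) : G)) hφ2
    rw [hφ, ← map_pow] at h1
    simp only [MulAut.conjNormal_apply, MulAut.one_apply] at h1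
    exact mul_inv_eq_iff_eq_mul.1 h1
  have hKA : zpowers (xb ^ 2) ≤ G := zpowers_le.2 (pow_mem hxA 2)
  have hK2 : IsPGroup 2 (zpowers (xb ^ 2)) := IsPGroup.of_card (n := 1) (by
    rw [Nat.card_zpowers]
    exact orderOf_eq_prime (by rw [← pow_mul]; exact h4) h2)
  have hInn := D.s.rad _ hKA hK2 (fun b hb k hk => by
    obtain ⟨i, rfl⟩ := mem_zpowers_iff.1 hk
    have h1 : Commute (xb ^ 2) b := congrArg Subtype.val (hcen ⟨b, hb⟩)
    rw [← (h1.zpow_left i).eq, mul_inv_cancel_right]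
    exact zpow_mem (mem_zpowers _) i) (mem_zpowers _)
  obtain ⟨p, hp⟩ := hInn
  apply h2
  rw [← hp]
  exact MulEquiv.ext fun e => by
    show p * e * p⁻¹ = e
    rw [hab p e, mul_inv_cancel_right]

theorem false_of_four (hH : Homo 1 D.R) : False := by
  haveI : Fact (Nat.Prime 2) := ⟨Nat.prime_two⟩
  obtain ⟨z0, hz0W, hz01, hz0Z, hconj, hsqc⟩ := D.hyp.omega_data D.hnc
  set f := D.P.subtype.comp D.R.subtype with hfd
  have hfi : Function.Injective f := D.P.subtype_injective.comp D.R.subtype_injective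
  have hr2 : ∀ r : D.R, r ^ 2 = 1 := fun r => by simpa using hH.2.2.1 r
  have hphi : ∀ r ∈ frattini D.R, r = 1 := fun r hr => by
    obtain ⟨s, rfl⟩ := hH.2.2.2.2 r hr; exact hr2 s
  have hR4 : Nat.card D.R = 4 := by
    rw [← D.index_R, (eq_bot_iff_forall _).2 hphi, index_bot]
  have hPR : ∀ (p : D.P) (r : D.R), Commute p (r : D.P) := fun p r => by
    obtain ⟨φ, hφ, hφe⟩ := D.conj_R p r
    rw [hphi φ hφ, Subgroup.coe_one, eq_comm, mul_inv_eq_one] at hφe
    exact mul_inv_eq_iff_eq_mul.1 hφe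
  have hfix : ∀ r : D.R, D.α r = r → r = 1 := fun r hr => hphi r (D.fpf r (by
    rw [show D.αR r = r from Subtype.ext hr, mul_inv_cancel]; exact one_mem _))
  obtain ⟨c, hc, hdec⟩ := D.exists_c
  have hab : ∀ p q : D.P, Commute p q := by
    intro p q
    obtain ⟨i, r, hr, rfl⟩ := hdec p
    obtain ⟨j, s, hs, rfl⟩ := hdec q
    exact (((Commute.refl c).zpow_zpow i j).mul_right ((hPR (c ^ i) ⟨s, hs⟩))).mul_left
      ((hPR (c ^ j) ⟨r, hr⟩).symm.mul_right (hPR r ⟨s, hs⟩))
  have habT : ∀ p ∈ D.P, ∀ q ∈ D.P, Commute p q := fun p hp q hq =>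
    congrArg Subtype.val (hab ⟨p, hp⟩ ⟨q, hq⟩).eq
  by_cases hRΦ : ∀ r, f r ∈ frattini T
  · -- `R = W`
    have hRW : ∀ r, f r ∈ D.W := fun r => D.hyp.mem_omega_of D.hnc (hRΦ r) (by rw [← map_pow, hr2, map_one])
    have hb : Function.Bijective (fun r : D.R => (⟨f r, hRW r⟩ : D.W)) :=
      (Nat.bijective_iff_injective_and_card _).2
        ⟨fun r s h => by have h' := congrArg Subtype.val h; exact hfi h', by rw [hR4, D.card_W]⟩
    have hW : ∀ w ∈ D.W, ∃ r, f r = w := fun w hw => by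
      obtain ⟨r, hr⟩ := hb.2 ⟨w, hw⟩; exact ⟨r, congrArg Subtype.val hr⟩
    have hPW : ∀ p ∈ D.P, ∀ w ∈ D.W, Commute p w := fun p hp w hw => by
      obtain ⟨r, rfl⟩ := hW w hw
      exact habT p hp _ (r : D.P).2
    obtain ⟨r0, hr0⟩ := D.tau_moves
    have htw : D.t * f r0 * D.t⁻¹ ≠ f r0 := by
      intro h
      apply hr0
      have h1 : (⟨D.tau r0, D.tau_R r0.2⟩ : D.R) = r0 := Subtype.ext (Subtype.ext h)
      rw [h1, mul_inv_cancel]
      exact one_mem _
    have htp : ∀ p ∈ D.P, D.t * p ∉ frattini T := fun p hp h => htw (by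
      calc D.t * f r0 * D.t⁻¹ = D.t * (p * f r0 * p⁻¹) * D.t⁻¹ := by
            rw [(hPW p hp _ (hRW r0)).eq, mul_inv_cancel_right]
        _ = (D.t * p) * f r0 * (D.t * p)⁻¹ := by group
        _ = f r0 := by rw [(D.comm_of_phi h (hRW r0)).eq, mul_inv_cancel_right])
    have htΦ : D.t ∉ frattini T := fun h => htp 1 (one_mem _) (by rwa [mul_one])
    have hCΦ : ∀ p ∈ D.C, (p : T) ∈ frattini T → p = 1 := by
      intro p hp hpΦ
      by_contra h1
      obtain ⟨m, hm⟩ := IsPGroup.iff_orderOf.1 D.two_P p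
      obtain ⟨m, rfl⟩ : ∃ n, m = n + 1 := ⟨m - 1, by
        rcases m with - | m
        · exact absurd (orderOf_eq_one_iff.1 (by rw [hm, pow_zero])) h1
        · omega⟩
      have hne : p ^ 2 ^ m ≠ 1 := by
        intro h
        have := orderOf_dvd_of_pow_eq_one h
        rw [hm, Nat.pow_dvd_pow_iff_le_right one_lt_two] at this
        omega
      have h2 : (((p ^ 2 ^ m : D.P) : T)) ∈ D.W := D.hyp.mem_omega_of D.hnc
        (by rw [Subgroup.coe_pow]; exact pow_mem hpΦ _)
        (by rw [← Subgroup.coe_pow, ← pow_mul, ← pow_succ, ← hm, pow_orderOf_eq_one]; rfl)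
      obtain ⟨r, hr⟩ := hW _ h2
      have hr' : (r : D.P) = p ^ 2 ^ m := Subtype.ext hr
      have hα : D.α r = r := by rw [hr', map_pow, D.mem_C.1 hp]
      exact hne (by rw [← hr', hfix r hα]; rfl)
    by_cases hc1 : c = 1
    · -- `P = W` is self-centralising
      have hall : ∀ p : D.P, (p : T) ∈ D.W := fun p => by
        obtain ⟨i, r, hr, rfl⟩ := hdec p
        rw [hc1, one_zpow, one_mul]
        exact hRW ⟨r, hr⟩
      have hcen : ∀ g : T, (∀ w ∈ D.W, Commute g w) → g ∈ frattini T := fun g hg => by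
        have h1 : g ∈ D.P := D.s.cent (mem_centralizer_iff.2 fun p hp => (hg p (hall ⟨p, hp⟩)).symm.eq)
        exact D.W_phi (hall ⟨g, h1⟩)
      have hcl := D.hyp.gen.closure_eq
      have hmv : ∀ g : T, g ∉ frattini T → ∃ w ∈ D.W, g * w * g⁻¹ ≠ w := by
        intro g hg
        by_contra! h
        exact hg (hcen g fun w hw => mul_inv_eq_iff_eq_mul.1 (h w hw))
      have hx : D.hyp.x ∉ frattini T := fun h => D.hyp.nogen h hcl
      have hy : D.hyp.y ∉ frattini T := fun h => D.hyp.nogen h (Set.pair_comm D.hyp.x D.hyp.y ▸ hcl)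
      have hxy : D.hyp.x⁻¹ * D.hyp.y ∈ frattini T := hcen _ fun w hw => by
        refine mul_inv_eq_iff_eq_mul.1 ?_
        rw [show D.hyp.x⁻¹ * D.hyp.y * w * (D.hyp.x⁻¹ * D.hyp.y)⁻¹ =
          D.hyp.x⁻¹ * (D.hyp.y * w * D.hyp.y⁻¹) * D.hyp.x by group, ← D.act_eq (hmv _ hx) (hmv _ hy) w hw]
        group
      refine D.hyp.nogen (k := D.hyp.x) hxy (D.hyp.gen.top_le (subset_closure (by simp)) ?_)
      simpa using mul_mem (subset_closure (by simp : D.hyp.x ∈ ({D.hyp.x⁻¹ * D.hyp.y, D.hyp.x} : Set T)))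
        (subset_closure (Set.mem_insert (D.hyp.x⁻¹ * D.hyp.y) {D.hyp.x}))
    · have hcΦ : (c : T) ∉ frattini T := fun h => hc1 (hCΦ c hc h)
      have hgen := D.hyp.gen_of htΦ hcΦ (htp _ c.2)
      have hsame : D.tau c = c := by
        have h1 : (D.tau c : T) ∉ frattini T := fun h => hc1 (by simpa using (hCΦ _ (D.tau_C hc) h))
        exact mul_inv_eq_one.1 (hCΦ _ (mul_mem (D.tau_C hc) (inv_mem hc))
          (D.two (D.tau c).2 (inv_mem c.2) h1 fun h => hcΦ (inv_mem_iff.1 h)))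
      have htc : ⁅D.t, (c : T)⁆ = 1 := by
        rw [commutatorElement_def, ← D.tau_coe, hsame, mul_inv_cancel]
      have hbot : commutator T ≤ ⊥ := commutator_le_of_gen hgen ⊥ (by rw [htc]; exact one_mem _)
      exact D.hnc ((le_bot_iff.1 hbot).symm ▸ (inferInstance : IsCyclic (⊥ : Subgroup T)))
  push Not at hRΦ
  obtain ⟨a, haΦ⟩ := hRΦ
  set A := f a with hA
  have hA2 : A ^ 2 = 1 := by rw [hA, ← map_pow, hr2, map_one]
  have hc2 : A ^ 2 ∈ center T := hA2 ▸ one_mem _
  have hinvA := D.hyp.inverts haΦ hc2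
  have hcover := D.hyp.cover D.hnc haΦ hc2
  have hAW : ∀ w ∈ D.W, Commute A w := fun w hw => by
    refine mul_inv_eq_iff_eq_mul.1 ?_
    rw [hinvA w hw.1, inv_eq_of_mul_eq_one_right]
    rw [← sq, D.W_sq hw]
  obtain ⟨hPW, hWP⟩ := D.W_central (a : D.P).2 haΦ hAW
  set u : D.R := (⟨D.tau a, D.tau_R a.2⟩ : D.R) * a⁻¹ with hud
  have hu1 : u ≠ 1 := fun h => D.moves_a haΦ (by show u ∈ _; rw [h]; exact one_mem _)
  set U := f u with hU
  have hUc : U ∈ commutator T := D.tau_comm a
  have hUW : U ∈ D.W := ⟨hUc, by rw [hU, ← map_pow, hr2, map_one]⟩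
  have hAΦ : A ∉ frattini T := haΦ
  have hR : ∀ r : D.R, r = 1 ∨ r = a ∨ r = u ∨ r = a * u := by
    intro r
    classical
    haveI := Fintype.ofFinite D.R
    have ha1 : a ≠ 1 := fun h => hAΦ (by rw [hA, h, map_one]; exact one_mem _)
    have hau : a ≠ u := fun h => hAΦ (by rw [hA, h]; exact D.W_phi hUW)
    have hT : ({1, a, u, a * u} : Finset D.R).card = 4 := by
      rw [Finset.card_insert_of_notMem, Finset.card_insert_of_notMem, Finset.card_insert_of_notMem,
        Finset.card_singleton]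
      · simp only [Finset.mem_singleton]
        exact fun h => ha1 (mul_eq_right.1 h.symm)
      · simp only [Finset.mem_insert, Finset.mem_singleton, not_or]
        exact ⟨hau, fun h => hu1 (mul_eq_left.1 h.symm)⟩
      · simp only [Finset.mem_insert, Finset.mem_singleton, not_or]
        refine ⟨ha1.symm, hu1.symm, fun h => hau ?_⟩
        rw [eq_inv_of_mul_eq_one_left h.symm]
        exact inv_eq_of_mul_eq_one_right (by rw [← sq, hr2])
    have : r ∈ ({1, a, u, a * u} : Finset D.R) := by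
      rw [Finset.eq_univ_of_card ({1, a, u, a * u} : Finset D.R) (by rw [hT, ← Nat.card_eq_fintype_card, hR4])]
      exact Finset.mem_univ r
    simpa using this
  by_cases hc1 : c = 1
  · -- `P = R` would contain `W`
    obtain ⟨w, hw, h1, h2⟩ := D.exists_W_ne U
    obtain ⟨i, r, hr, e⟩ := hdec ⟨w, hWP hw⟩
    rw [hc1, one_zpow, one_mul] at e
    have he : w = f ⟨r, hr⟩ := congrArg Subtype.val e
    rcases hR ⟨r, hr⟩ with h | h | h | h
    · exact h1 (by rw [he, h, map_one])
    · exact hAΦ (by rw [hA, ← h, ← he]; exact D.W_phi hw)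
    · exact h2 (by rw [he, h])
    · refine hAΦ ((mul_mem_cancel_right (D.W_phi hUW)).1 ?_)
      rw [hU, hA, ← map_mul, ← h, ← he]
      exact D.W_phi hw
  set M : Subgroup T := centralizer ({A} ∪ (D.W : Set T)) with hM
  have hMmem : ∀ q, q ∈ M ↔ Commute A q ∧ ∀ w ∈ D.W, Commute w q := fun q => by
    rw [hM, mem_centralizer_iff]; simp [Commute, SemiconjBy]
  have hPM : D.P ≤ M := fun p hp => (hMmem p).2 ⟨habT A (a : D.P).2 p hp, fun w hw => (hPW p hp w hw).symm⟩
  by_cases hc4 : c ^ 2 = 1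
  · -- `P` elementary of order 8
    have hel : ∀ p : D.P, p ^ 2 = 1 := fun p => by
      obtain ⟨i, r, hr, rfl⟩ := hdec p
      rw [(hab _ _).mul_pow, ← zpow_natCast, ← zpow_mul, mul_comm, zpow_mul, zpow_natCast, hc4, one_zpow, one_mul]
      exact congrArg Subtype.val (hr2 ⟨r, hr⟩)
    have hPd : ∀ p ∈ D.P, p ∈ D.W ∨ A⁻¹ * p ∈ D.W := by
      intro p hp
      have h2 : ∀ q ∈ D.P, q ^ 2 = 1 := fun q hq => congrArg Subtype.val (hel ⟨q, hq⟩)
      by_cases h : p ∈ frattini T
      · exact Or.inl (D.hyp.mem_omega_of D.hnc h (h2 p hp))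
      · exact Or.inr (D.hyp.mem_omega_of D.hnc
          (D.two (inv_mem (a : D.P).2) hp (fun h => hAΦ (inv_mem_iff.1 h)) h)
          (h2 _ (mul_mem (inv_mem (a : D.P).2) hp)))
    have hAnW : A ∉ D.W := fun h => hAΦ (D.W_phi h)
    have key : (∀ p ∈ D.W, ∃ g : T, g * A * g⁻¹ = p * A ∧ ∀ w ∈ D.W, Commute g w) → False :=
      fun h => D.false_of_translations A (a : D.P).2 hWP hPd hAnW habT h
    obtain ⟨x, hgen⟩ := D.hyp.exists_partner hAΦ
    by_cases hallW : ∀ g : T, ∀ w ∈ D.W, Commute g w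
    · exact key fun p hp => by
        obtain ⟨g, hg⟩ := hcover p hp.1
        exact ⟨g, hg, fun w hw => hallW g w hw⟩
    by_cases hCA : ∃ h : T, Commute h A ∧ ∃ w ∈ D.W, h * w * h⁻¹ ≠ w
    · obtain ⟨h, hhA, hhW⟩ := hCA
      refine key fun p hp => ?_
      obtain ⟨g, hg⟩ := hcover p hp.1
      by_cases hgW : ∃ w ∈ D.W, g * w * g⁻¹ ≠ w
      · refine ⟨g * h⁻¹, ?_, fun w hw => mul_inv_eq_iff_eq_mul.1 ?_⟩
        · rw [show g * h⁻¹ * A * (g * h⁻¹)⁻¹ = g * (h⁻¹ * A * h) * g⁻¹ by group,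
            show h⁻¹ * A * h = A by rw [mul_assoc, ← hhA.eq, inv_mul_cancel_left], hg]
        · have hw' : h⁻¹ * w * h ∈ D.W := by
            simpa using (D.hyp.omega_normal).conj_mem w hw h⁻¹
          rw [show g * h⁻¹ * w * (g * h⁻¹)⁻¹ = g * (h⁻¹ * w * h) * g⁻¹ by group, D.act_eq hgW hhW _ hw']
          group
      · push Not at hgW
        exact ⟨g, hg, fun w hw => mul_inv_eq_iff_eq_mul.1 (hgW w hw)⟩
    push Not at hCA
    have hxW : ∃ w ∈ D.W, x * w * x⁻¹ ≠ w := by
      by_contra! h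
      refine hallW fun g w hw => ?_
      have hle : closure ({x, A} : Set T) ≤ centralizer {w} := (closure_le _).2 (by
        rintro e (rfl | rfl)
        · exact mem_centralizer_singleton_iff.2 (mul_inv_eq_iff_eq_mul.1 (h w hw))
        · exact mem_centralizer_singleton_iff.2 (hAW w hw).eq)
      exact mem_centralizer_singleton_iff.1 (hle (hgen ▸ mem_top g))
    set h := ⁅x, A⁆ with hh
    have hhc : h ∈ commutator T := by
      rw [_root_.commutator_def]; exact commutator_mem_commutator (mem_top x) (mem_top A)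
    have hcomm := D.hyp.gen.commutator_comm
    have hxh : x * h * x⁻¹ ∈ commutator T := (inferInstance : (commutator T).Normal).conj_mem h hhc x
    set e := x * h * x⁻¹ * h with he
    have hec : e ∈ commutator T := mul_mem hxh hhc
    have hx2A : x * x * A * (x * x)⁻¹ = e * A := by
      rw [he, hh, commutatorElement_def]; group
    have hx2W : ∀ w ∈ D.W, Commute (x * x) w := fun w hw => by rw [← sq]; exact hsqc x w hw
    by_cases hexp : ∀ s ∈ commutator T, s ^ 2 = 1
    · -- `T' = W`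
      have hTW : commutator T ≤ D.W := fun s hs => ⟨hs, hexp s hs⟩
      have hN : normalizer (D.P : Set T) = ⊤ :=
        normalizer_eq_top_iff.2 (Normal.of_commutator_le T (hTW.trans hWP))
      have hP8 : Nat.card D.P = 8 := by
        have hidx : (D.W.subgroupOf D.P).index = 2 := by
          refine index_eq_two_iff.2 ⟨(a : D.P), fun b => ?_⟩
          by_cases hb : (b : T) ∈ D.W
          · exact Or.inr ⟨hb, fun h => hAnW (by simpa [hA, f] using mul_mem (inv_mem hb) h)⟩
          · refine Or.inl ⟨?_, hb⟩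
            have h1 := (hPd _ b.2).resolve_left hb
            show (b : T) * A ∈ D.W
            rw [(habT _ b.2 A (a : D.P).2).eq,
              show A * (b : T) = A⁻¹ * b by rw [inv_eq_of_mul_eq_one_right (a := A) (by rw [← sq, hA2])]]
            exact h1
        rw [← (D.W.subgroupOf D.P).card_mul_index, hidx, Nat.card_congr (subgroupOfEquivOfLe hWP).toEquiv, D.card_W]
      set xb := Fusion.conjAut D.P x (by rw [hN]; exact mem_top x)
      have he1 : e ≠ 1 := by
        intro he1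
        apply D.hnc
        have hxh' : x * h * x⁻¹ = h := by
          rw [eq_inv_of_mul_eq_one_left he1, inv_eq_of_mul_eq_one_right]
          rw [← sq, hexp h hhc]
        haveI : (zpowers h).Normal := by
          refine normalizer_eq_top_iff.1 (top_le_iff.1 (hgen ▸ (closure_le _).2 ?_))
          intro t ht
          refine mem_normalizer_iff_map_conj_eq.2 (eq_of_le_of_card_ge ?_
            (card_map_of_injective (MulEquiv.injective _)).ge)
          rintro _ ⟨_, ⟨i, rfl⟩, rfl⟩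
          show t * h ^ i * t⁻¹ ∈ _
          rw [← conj_zpow]
          refine zpow_mem ?_ i
          rcases ht with rfl | rfl
          · rw [hxh']; exact mem_zpowers h
          · rw [hinvA h hhc]; exact inv_mem (mem_zpowers h)
        have hle := commutator_le_of_gen hgen (zpowers h) (mem_zpowers h)
        exact isCyclic_of_injective (inclusion hle) (inclusion_injective hle)
      let φ : T →* MulAut D.P :=
        D.P.normalizerMonoidHom.comp ((MonoidHom.id T).codRestrict _ fun g => by rw [hN]; exact mem_top g)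
      have hφ : ∀ (g : T) (hg : g ∈ normalizer (D.P : Set T)), φ g = Fusion.conjAut D.P g hg := fun g hg => rfl
      have hφA : φ A = 1 := MulEquiv.ext fun p => Subtype.ext (by
        show A * (p : T) * A⁻¹ = p
        rw [(habT A (a : D.P).2 p p.2).eq, mul_inv_cancel_right])
      refine D.false_of_four_cycle hP8 hel x hN (fun g hg => ?_) ?_ ?_
      · rw [← hφ g hg, ← hφ x (by rw [hN]; exact mem_top x)]
        have hle : closure ({x, A} : Set T) ≤ (zpowers (φ x)).comap φ := (closure_le _).2 (by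
          rintro t (rfl | rfl)
          · exact mem_zpowers _
          · rw [SetLike.mem_coe, mem_comap, hφA]; exact one_mem _)
        exact hle (hgen ▸ mem_top g)
      · rw [← hφ x (by rw [hN]; exact mem_top x), ← map_pow]
        intro h1
        apply he1
        have h2 : x ^ 2 * A * (x ^ 2)⁻¹ = A :=
          congrArg (fun b : MulAut D.P => ((b (a : D.P) : D.P) : T)) h1
        rw [sq, hx2A] at h2
        exact mul_eq_right.1 h2
      · rw [← hφ x (by rw [hN]; exact mem_top x), ← map_pow]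
        have heW : e ∈ D.W := ⟨hec, hexp e hec⟩
        refine MulEquiv.ext fun p => Subtype.ext ?_
        show x ^ 4 * (p : T) * (x ^ 4)⁻¹ = p
        have hA4 : x ^ 4 * A * (x ^ 4)⁻¹ = A := by
          calc x ^ 4 * A * (x ^ 4)⁻¹ = (x * x) * ((x * x) * A * (x * x)⁻¹) * (x * x)⁻¹ := by
                simp only [pow_succ, pow_zero, one_mul]; group
            _ = (x * x) * (e * A) * (x * x)⁻¹ := by rw [hx2A]
            _ = ((x * x) * e * (x * x)⁻¹) * ((x * x) * A * (x * x)⁻¹) := by group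
            _ = e * (e * A) := by rw [(hx2W e heW).eq, mul_inv_cancel_right, hx2A]
            _ = A := by rw [← mul_assoc, ← sq, D.W_sq heW, one_mul]
        have hW4 : ∀ w ∈ D.W, x ^ 4 * w * (x ^ 4)⁻¹ = w := fun w hw => by
          rw [show x ^ 4 = (x ^ 2) ^ 2 by rw [← pow_mul], ((hsqc x w hw).pow_left 2).eq, mul_inv_cancel_right]
        rcases hPd p p.2 with hp | hp
        · exact hW4 _ hp
        · calc x ^ 4 * (p : T) * (x ^ 4)⁻¹ =
              (x ^ 4 * A * (x ^ 4)⁻¹) * (x ^ 4 * (A⁻¹ * (p : T)) * (x ^ 4)⁻¹) := by group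
            _ = (p : T) := by rw [hA4, hW4 _ hp, mul_inv_cancel_left]
    -- an element of exponent at least 4 in `T'`
    push Not at hexp
    obtain ⟨s, hs, hs2⟩ := hexp
    let reach : Subgroup T :=
      { carrier := {p | p ∈ D.W ∧ ∃ g : T, g * A * g⁻¹ = p * A ∧ ∀ w ∈ D.W, Commute g w}
        one_mem' := ⟨one_mem _, 1, by simp, fun w _ => Commute.one_left w⟩
        mul_mem' := by
          rintro p q ⟨hp, g, hg, hgw⟩ ⟨hq, g', hg', hgw'⟩
          refine ⟨mul_mem hp hq, g * g', ?_, fun w hw => (hgw w hw).mul_left (hgw' w hw)⟩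
          rw [show g * g' * A * (g * g')⁻¹ = g * (g' * A * g'⁻¹) * g⁻¹ by group, hg',
            show g * (q * A) * g⁻¹ = (g * q * g⁻¹) * (g * A * g⁻¹) by group, hg, (hgw q hq).eq, mul_inv_cancel_right,
            ← mul_assoc, hcomm q hq.1 p hp.1]
        inv_mem' := by
          rintro p ⟨hp, h⟩
          rw [inv_eq_of_mul_eq_one_right (by rw [← sq]; exact D.W_sq hp)]
          exact ⟨hp, h⟩ }
    have hsq_reach : ∀ k ∈ commutator T, k ^ 2 ∈ D.W → k ^ 2 ∈ reach := by
      intro k hk hk2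
      refine ⟨hk2, k, ?_, fun w hw => hcomm k hk w hw.1⟩
      rw [show k * A * k⁻¹ = k * (A * k⁻¹ * A⁻¹) * A by group, hinvA _ (inv_mem hk), inv_inv, sq]
    refine key fun p hp => ?_
    suffices D.W ≤ reach from (this hp).2
    obtain ⟨m, hm⟩ := IsPGroup.iff_orderOf.1 D.hyp.two s
    obtain ⟨m, rfl⟩ : ∃ n, m = n + 2 := ⟨m - 2, by
      rcases m with - | - | m
      · exact absurd (show s ^ 2 = 1 by rw [orderOf_eq_one_iff.1 (show orderOf s = 1 by rw [hm, pow_zero]), one_pow]) hs2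
      · exact absurd (show s ^ 2 = 1 by rw [← show orderOf s = 2 by rw [hm]; rfl, pow_orderOf_eq_one]) hs2
      · omega⟩
    set k1 := s ^ 2 ^ m with hk1
    have hk1c : k1 ∈ commutator T := pow_mem hs _
    have hp1W : k1 ^ 2 ∈ D.W := ⟨pow_mem hk1c 2, by
      rw [hk1, ← pow_mul, ← pow_mul, show 2 ^ m * (2 * 2) = 2 ^ (m + 2) by ring, ← hm, pow_orderOf_eq_one]⟩
    have hp11 : k1 ^ 2 ≠ 1 := by
      intro h1
      rw [hk1, ← pow_mul, ← pow_succ] at h1
      have := orderOf_dvd_of_pow_eq_one h1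
      rw [hm, Nat.pow_dvd_pow_iff_le_right one_lt_two] at this
      omega
    have h1r := hsq_reach k1 hk1c hp1W
    have two_enough : ∀ q ∈ reach, q ≠ 1 → q ≠ k1 ^ 2 → D.W ≤ reach := by
      intro q hq hq1 hq2
      have hle : reach ≤ D.W := fun _ h => h.1
      have h3 : 3 ≤ Nat.card reach := by
        classical
        haveI := Fintype.ofFinite reach
        rw [Nat.card_eq_fintype_card]
        refine le_trans (le_of_eq ?_) (Finset.card_le_univ ({1, ⟨k1 ^ 2, h1r⟩, ⟨q, hq⟩} : Finset reach))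
        rw [Finset.card_insert_of_notMem, Finset.card_insert_of_notMem, Finset.card_singleton]
        · simp only [Finset.mem_singleton, Subtype.mk.injEq]; exact Ne.symm hq2
        · simp only [Finset.mem_insert, Finset.mem_singleton, not_or, Subtype.ext_iff]
          exact ⟨Ne.symm hp11, Ne.symm hq1⟩
      have h4 : Nat.card reach ∣ 4 := D.card_W ▸ card_dvd_of_le hle
      have hle4 := Nat.le_of_dvd (by norm_num) h4
      refine (eq_of_le_of_card_ge hle ?_).ge
      rw [D.card_W]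
      interval_cases hcc : Nat.card reach <;> omega
    by_cases hsec : ∃ k ∈ commutator T, k ^ 2 ∈ D.W ∧ k ^ 2 ≠ 1 ∧ k ^ 2 ≠ k1 ^ 2
    · obtain ⟨k, hk, h1, h2, h3⟩ := hsec
      exact two_enough _ (hsq_reach k hk h1) h2 h3
    push Not at hsec
    -- the squares of `T'` form a cyclic group
    let Q : Subgroup T :=
      { carrier := {q | ∃ k ∈ commutator T, k ^ 2 = q}
        one_mem' := ⟨1, one_mem _, one_pow 2⟩
        mul_mem' := fun {q r} ⟨k, hk, e⟩ ⟨l, hl, e'⟩ => ⟨k * l, mul_mem hk hl, by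
          rw [(show Commute k l from hcomm k hk l hl).mul_pow, e, e']⟩
        inv_mem' := fun {q} ⟨k, hk, e⟩ => ⟨k⁻¹, inv_mem hk, by rw [inv_pow, e]⟩ }
    have hQle : Q ≤ commutator T := by rintro _ ⟨k, hk, rfl⟩; exact pow_mem hk 2
    have hQn : Q.Normal := ⟨fun q ⟨k, hk, e⟩ g =>
      ⟨g * k * g⁻¹, (inferInstance : (commutator T).Normal).conj_mem k hk g, by rw [conj_pow, e]⟩⟩
    letI : CommGroup Q :=
      { (inferInstance : Group Q) with mul_comm := fun q r => Subtype.ext (hcomm q (hQle q.2) r (hQle r.2)) }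
    have hQc : IsCyclic Q := by
      have h2Q : IsPGroup 2 Q := D.hyp.two.to_subgroup _
      have hk2 : Nat.card (powMonoidHom 2 : Q →* Q).ker ≤ 2 := by
        classical
        refine (Nat.card_le_card_of_surjective (fun b : Bool => if b then (1 : (powMonoidHom 2 : Q →* Q).ker) else
          ⟨⟨k1 ^ 2, k1, hk1c, rfl⟩, MonoidHom.mem_ker.2 (Subtype.ext (D.W_sq hp1W))⟩) fun q => ?_).trans (by simp)
        obtain ⟨⟨q, k, hk, rfl⟩, hq⟩ := q
        by_cases h1 : k ^ 2 = 1
        · exact ⟨true, Subtype.ext (Subtype.ext h1.symm)⟩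
        · exact ⟨false, Subtype.ext (Subtype.ext
            (hsec k hk ⟨pow_mem hk 2, congrArg Subtype.val (MonoidHom.mem_ker.1 hq)⟩ h1).symm)⟩
      rw [PGroups.card_torsion h2Q] at hk2
      obtain ⟨n, hn⟩ := h2Q.index (frattini Q)
      haveI : IsCyclic (↥Q ⧸ frattini Q) := by
        rw [hn] at hk2
        rcases n with - | - | n
        · haveI : Subsingleton (↥Q ⧸ frattini Q) :=
            (Nat.card_eq_one_iff_unique.1 (by rw [← Subgroup.index_eq_card, hn, pow_zero])).1
          infer_instance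
        · exact isCyclic_of_prime_card (p := 2) (by rw [← Subgroup.index_eq_card, hn, pow_one])
        · rw [pow_succ, pow_succ] at hk2
          have := Nat.two_pow_pos n
          omega
      exact PGroups.isCyclic_of_isCyclic_quotient_frattini
    obtain ⟨⟨v0, s0, hs0, rfl⟩, hv0⟩ := hQc.exists_zpow_surjective
    have hvgen : ∀ q ∈ Q, ∃ i : ℤ, (s0 ^ 2) ^ i = q := fun q hq => by
      obtain ⟨i, hi⟩ := hv0 ⟨q, hq⟩
      exact ⟨i, by simpa using congrArg Subtype.val hi⟩
    obtain ⟨i, hi⟩ := hvgen (h ^ 2) ⟨h, hhc, rfl⟩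
    obtain ⟨r, hr⟩ := hvgen (x * s0 ^ 2 * x⁻¹) (hQn.conj_mem _ ⟨s0, hs0, rfl⟩ x)
    obtain ⟨l, hl⟩ : ∃ l, i * (r + 1) = 2 * l := by
      by_cases h01 : s0 ^ 2 = 1
      · exfalso
        obtain ⟨j, hj⟩ := hvgen (k1 ^ 2) ⟨k1, hk1c, rfl⟩
        rw [h01, one_zpow] at hj
        exact hp11 hj.symm
      · rcases Int.even_or_odd r with ⟨r', rfl⟩ | ⟨r', rfl⟩
        · exfalso
          obtain ⟨n, hn⟩ := IsPGroup.iff_orderOf.1 D.hyp.two (s0 ^ 2)
          obtain ⟨n, rfl⟩ : ∃ n', n = n' + 1 := ⟨n - 1, by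
            rcases n with - | n
            · exact absurd (orderOf_eq_one_iff.1 (by rw [hn, pow_zero])) h01
            · omega⟩
          have h1 : (x * s0 ^ 2 * x⁻¹) ^ 2 ^ n = 1 := by
            rw [← hr, ← two_mul, zpow_mul, zpow_ofNat, ← zpow_natCast, ← zpow_mul, mul_comm, zpow_mul, zpow_natCast,
              ← pow_mul, ← pow_succ', ← hn, pow_orderOf_eq_one, one_zpow]
          rw [conj_pow, mul_inv_eq_one, mul_eq_left] at h1
          have := orderOf_dvd_of_pow_eq_one h1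
          rw [hn, Nat.pow_dvd_pow_iff_le_right one_lt_two] at this
          omega
        · exact ⟨i * (r' + 1), by ring⟩
    have he2 : e ^ 2 = (s0 ^ 2) ^ (2 * l) := by
      rw [he, (show Commute (x * h * x⁻¹) h from hcomm _ hxh _ hhc).mul_pow, conj_pow, ← hi, ← conj_zpow, ← hr,
        ← zpow_mul, ← zpow_add, ← hl]
      congr 1; ring
    set k := s0 ^ (-l) with hk
    have hkc : k ∈ commutator T := zpow_mem hs0 _
    set q := e * k ^ 2 with hq
    have hqW : q ∈ D.W := ⟨mul_mem hec (pow_mem hkc 2), by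
      rw [hq, (show Commute e (k ^ 2) from hcomm _ hec _ (pow_mem hkc 2)).mul_pow, he2, hk, ← zpow_natCast (s0 ^ (-l)),
        ← zpow_natCast (_ ^ _) 2, ← zpow_natCast s0 2, ← zpow_mul, ← zpow_mul, ← zpow_mul, ← zpow_add]
      convert zpow_zero s0 using 2
      push_cast
      ring⟩
    have heQ : e ∉ Q := by
      intro heQ
      apply D.hnc
      set L := zpowers h ⊔ Q with hL
      haveI := hQn
      haveI hLn : L.Normal := by
        refine normalizer_eq_top_iff.1 (top_le_iff.1 (hgen ▸ (closure_le _).2 ?_))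
        intro t ht
        refine mem_normalizer_iff_map_conj_eq.2 (eq_of_le_of_card_ge ?_
          (card_map_of_injective (MulEquiv.injective _)).ge)
        have ht' : t * h * t⁻¹ ∈ L := by
          rcases ht with rfl | rfl
          · rw [show t * h * t⁻¹ = h⁻¹ * e by rw [he, ← hcomm h hhc _ hxh, inv_mul_cancel_left]]
            exact mul_mem_sup (inv_mem (mem_zpowers h)) heQ
          · rw [hinvA h hhc]; exact inv_mem (mem_sup_left (mem_zpowers h))
        rw [map_le_iff_le_comap]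
        exact sup_le (zpowers_le.2 ht') fun q hq => mem_sup_right (hQn.conj_mem q hq t)
      have hSL := commutator_le_of_gen hgen L (mem_sup_left (mem_zpowers h))
      have htop : zpowers (⟨h, hhc⟩ : commutator T) ⊔ frattini (commutator T) = ⊤ := by
        refine top_le_iff.1 fun k _ => ?_
        have hk := hSL k.2
        rw [hL, ← SetLike.mem_coe, mul_normal] at hk
        obtain ⟨m, hm, q, ⟨l, hl, rfl⟩, e'⟩ := Set.mem_mul.1 hk
        obtain ⟨i, rfl⟩ := mem_zpowers_iff.1 hm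
        rw [show k = (⟨h, hhc⟩ : commutator T) ^ i * (⟨l, hl⟩ : commutator T) ^ 2 from
          Subtype.ext (by simpa using e'.symm)]
        exact mul_mem_sup (zpow_mem (mem_zpowers _) i) (PGroups.pow_mem_frattini (D.hyp.two.to_subgroup _) _)
      exact ⟨⟨⟨h, hhc⟩, fun k => mem_zpowers_iff.1 ((frattini_nongenerating htop) ▸ mem_top k)⟩⟩
    have hqQ : q ∉ Q := fun h => heQ ((mul_mem_cancel_right (show k ^ 2 ∈ Q from ⟨k, hkc, rfl⟩)).1 h)
    refine two_enough q ⟨hqW, k * (x * x), ?_, fun w hw => (show Commute k w from hcomm k hkc w hw.1).mul_left (hx2W w hw)⟩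
      (fun h => hqQ (h ▸ one_mem Q)) (fun h => hqQ (h ▸ ⟨k1, hk1c, rfl⟩))
    rw [show k * (x * x) * A * (k * (x * x))⁻¹ = k * (x * x * A * (x * x)⁻¹) * k⁻¹ by group, hx2A,
      show k * (e * A) * k⁻¹ = (k * e * k⁻¹) * (k * (A * k⁻¹ * A⁻¹)) * A by group, hinvA _ (inv_mem hkc), inv_inv,
      hcomm k hkc e hec, mul_inv_cancel_right, hq, sq]
  -- `C` has exponent at least 4
  obtain ⟨m, hm⟩ := IsPGroup.iff_orderOf.1 D.two_P c
  obtain ⟨m, rfl⟩ : ∃ n, m = n + 2 := ⟨m - 2, by
    rcases m with - | - | m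
    · exact absurd (orderOf_eq_one_iff.1 (show orderOf c = 1 by rw [hm, pow_zero])) hc1
    · exact absurd (show c ^ 2 = 1 by rw [← show orderOf c = 2 by rw [hm]; rfl, pow_orderOf_eq_one]) hc4
    · omega⟩
  set c1 := c ^ 2 ^ (m + 1) with hc1d
  have hc11 : c1 ≠ 1 := by
    intro h1
    have := orderOf_dvd_of_pow_eq_one h1
    rw [hm, Nat.pow_dvd_pow_iff_le_right one_lt_two] at this
    omega
  have hc12 : c1 ^ 2 = 1 := by rw [hc1d, ← pow_mul, ← pow_succ, ← hm, pow_orderOf_eq_one]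
  have hc1W : (c1 : T) ∈ D.W := D.hyp.mem_omega_of D.hnc
    (by rw [hc1d, pow_succ, pow_mul, Subgroup.coe_pow]; exact D.hyp.sq_mem _)
    (by rw [← Subgroup.coe_pow, hc12]; rfl)
  have hz1 : ∀ p ∈ zpowers c1, p = 1 ∨ p = c1 := fun p hp => by
    obtain ⟨i, rfl⟩ := mem_zpowers_iff.1 hp
    rcases Int.even_or_odd' i with ⟨j, rfl | rfl⟩
    · left; rw [zpow_mul, zpow_ofNat, hc12, one_zpow]
    · right; rw [zpow_add, zpow_mul, zpow_ofNat, hc12, one_zpow, one_mul, zpow_one]
  have hinvol : ∀ p : D.P, p ^ 2 = 1 → ∃ ζ ∈ zpowers c1, ∃ r : D.R, p = ζ * (r : D.P) := by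
    intro p hp
    obtain ⟨i, r, hr, rfl⟩ := hdec p
    rw [(hab _ _).mul_pow, show r ^ 2 = 1 from congrArg Subtype.val (hr2 ⟨r, hr⟩), mul_one, ← zpow_natCast,
      ← zpow_mul] at hp
    have h1 := orderOf_dvd_iff_zpow_eq_one.2 hp
    rw [hm] at h1
    push_cast at h1
    rw [pow_succ] at h1
    have h2 : (2 : ℤ) ^ (m + 1) ∣ i := Int.dvd_of_mul_dvd_mul_right two_ne_zero h1
    obtain ⟨j, rfl⟩ := h2
    refine ⟨c1 ^ j, zpow_mem (mem_zpowers _) j, ⟨r, hr⟩, ?_⟩
    rw [zpow_mul, show (2 : ℤ) ^ (m + 1) = ((2 ^ (m + 1) : ℕ) : ℤ) by push_cast; rfl, zpow_natCast]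
  have hfixc1 : ∀ δ : MulAut D.P, δ c1 = c1 := by
    intro δ
    obtain ⟨i, r, hr, e⟩ := hdec (δ c)
    have h1 : δ c1 = c1 ^ i := by
      rw [hc1d, map_pow, e, (hab _ _).mul_pow, pow_succ' 2 m, pow_mul r,
        show r ^ 2 = 1 from congrArg Subtype.val (hr2 ⟨r, hr⟩), one_pow, mul_one, ← pow_succ' 2 m,
        ← zpow_natCast, ← zpow_natCast, ← zpow_mul, ← zpow_mul, mul_comm]
    rcases hz1 _ (h1 ▸ zpow_mem (mem_zpowers c1) i : δ c1 ∈ zpowers c1) with h | h
    · exact absurd ((map_eq_one_iff _ δ.injective).1 h) hc11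
    · exact h
  have hker : ∀ β ∈ D.s.A, (∀ p : D.P, p ^ 2 = 1 → β p * p⁻¹ ∈ zpowers c1) → β ∈ Inn D.P := by
    intro β hβA hβ
    have hfz : ∀ (δ : MulAut D.P) {p : D.P}, p ∈ zpowers c1 → δ p = p := fun δ p hp => by
      rcases hz1 p hp with rfl | rfl <;> [exact map_one δ; exact hfixc1 δ]
    let K : Subgroup (MulAut D.P) :=
      { carrier := {β | β ∈ D.s.A ∧ ∀ p : D.P, p ^ 2 = 1 → β p * p⁻¹ ∈ zpowers c1}
        one_mem' := ⟨one_mem _, fun p _ => by simp⟩
        mul_mem' := fun {β γ} hβ hγ => ⟨mul_mem hβ.1 hγ.1, fun p hp => by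
          rw [MulAut.mul_apply, show β (γ p) * p⁻¹ = β (γ p) * (γ p)⁻¹ * (γ p * p⁻¹) by group]
          exact mul_mem (hβ.2 _ (by rw [← map_pow, hp, map_one])) (hγ.2 p hp)⟩
        inv_mem' := fun {β} hβ => ⟨inv_mem hβ.1, fun p hp => by
          have := inv_mem (hβ.2 (β⁻¹ p) (by rw [← map_pow, hp, map_one]))
          rw [MulAut.apply_inv_self, mul_inv_rev, inv_inv] at this
          exact this⟩ }
    let St : Subgroup (MulAut D.P) :=
      { carrier := {β | ∀ x : D.P, β x * x⁻¹ ∈ frattini D.P}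
        one_mem' := fun x => by simp
        mul_mem' := fun {β γ} hβ hγ x => by
          rw [MulAut.mul_apply, show β (γ x) * x⁻¹ = β (γ x) * (γ x)⁻¹ * (γ x * x⁻¹) by group]
          exact mul_mem (hβ _) (hγ x)
        inv_mem' := fun {β} hβ x => by
          have := inv_mem (hβ (β⁻¹ x))
          rw [MulAut.apply_inv_self, mul_inv_rev, inv_inv] at this
          exact this }
    have hK4 : ∀ δ ∈ K, δ ^ 4 ∈ St := by
      intro δ hδ
      set γ := δ ^ 2 with hγ
      have hfixE : ∀ p : D.P, p ^ 2 = 1 → γ p = p := by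
        intro p hp
        have hζ := hδ.2 p hp
        have hζ2 : (δ p * p⁻¹) * (δ p * p⁻¹) = 1 := by
          rcases hz1 _ hζ with h | h <;> rw [h] <;> [rw [one_mul]; rw [← sq, hc12]]
        have h1 : δ (δ p) * p⁻¹ = 1 := by
          calc δ (δ p) * p⁻¹ = δ (δ p * p⁻¹) * (δ p * p⁻¹) := by rw [map_mul, map_inv]; group
            _ = 1 := by rw [hfz δ hζ, hζ2]
        rw [hγ, sq, MulAut.mul_apply]
        exact mul_inv_eq_one.1 h1
      obtain ⟨j, r, hr, ej⟩ := hdec (γ c)
      have hr' : r ^ 2 = 1 := congrArg Subtype.val (hr2 ⟨r, hr⟩)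
      have hjodd : Odd j := by
        rcases Int.even_or_odd j with ⟨j', rfl⟩ | h
        · exfalso
          apply hc11
          have h1 := hfixc1 γ
          rw [← h1, hc1d, map_pow, ej, (hab _ _).mul_pow, pow_succ' 2 m, pow_mul r, hr', one_pow, mul_one,
            ← pow_succ' 2 m, ← two_mul, ← zpow_natCast, ← zpow_mul, show (2 * j') * ((2 ^ (m + 1) : ℕ) : ℤ) =
              ((2 ^ (m + 2) : ℕ) : ℤ) * j' by push_cast; ring, zpow_mul, zpow_natCast, ← hm, pow_orderOf_eq_one,
            one_zpow]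
        · exact h
      have hγ2c : γ (γ c) * c⁻¹ ∈ frattini D.P := by
        obtain ⟨w, rfl⟩ := hjodd
        rw [ej, map_mul, map_zpow, ej, hfixE r hr', (hab (c ^ (2 * w + 1)) r).mul_zpow, ← zpow_mul, mul_assoc (c ^ _),
          ← zpow_add_one, show (2 * w + 1 + 1 : ℤ) = 2 * (w + 1) by ring, zpow_mul r, zpow_ofNat, hr', one_zpow,
          mul_one, show (2 * w + 1) * (2 * w + 1) = (2 * (w + w * w)) * 2 + 1 by ring, zpow_add_one,
          mul_inv_cancel_right, zpow_mul, zpow_ofNat]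
        exact PGroups.pow_mem_frattini D.two_P _
      have hγ4 : δ ^ 4 = γ ^ 2 := by rw [hγ, ← pow_mul]
      intro p
      obtain ⟨i, r', hr'', rfl⟩ := hdec p
      rw [hγ4, sq, MulAut.mul_apply, map_mul, map_mul, hfixE r' (congrArg Subtype.val (hr2 ⟨r', hr''⟩)),
        hfixE r' (congrArg Subtype.val (hr2 ⟨r', hr''⟩)), mul_inv_rev, ← mul_assoc,
        mul_inv_cancel_right, map_zpow, map_zpow, ← inv_zpow, ← (hab _ _).mul_zpow]
      exact zpow_mem hγ2c i
    have hK2 : IsPGroup 2 K := by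
      rintro ⟨δ, hδ⟩
      obtain ⟨n, hn⟩ := IsPGroup.iff_card.1 D.two_P
      obtain ⟨r, hr⟩ := D.two_P.index (frattini D.P)
      obtain ⟨j, -, hj⟩ := (Nat.dvd_prime_pow Nat.prime_two).1
        (PGroups.card_stabilizing_dvd hn hr St fun γ hγ => hγ)
      refine ⟨j + 2, Subtype.ext ?_⟩
      show δ ^ 2 ^ (j + 2) = 1
      rw [pow_add, mul_comm, pow_mul, ← hj]
      exact congrArg Subtype.val (pow_card_eq_one' (x := (⟨δ ^ 4, hK4 δ hδ⟩ : St)))
    refine D.s.rad K (fun _ h => h.1) hK2 (fun e he k hk =>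
      ⟨mul_mem (mul_mem he hk.1) (inv_mem he), fun p hp => ?_⟩) ⟨hβA, hβ⟩
    have h1 := hk.2 (e⁻¹ p) (by rw [← map_pow, hp, map_one])
    have h2 : e (k (e⁻¹ p) * (e⁻¹ p)⁻¹) ∈ zpowers c1 := by rw [hfz e h1]; exact h1
    simpa using h2
  have hinner : ∀ (q : T) (hq : q ∈ normalizer (D.P : Set T)),
      (q * A * q⁻¹ = A ∨ q * A * q⁻¹ = (c1 : T) * A) → (q * U * q⁻¹ = U ∨ q * U * q⁻¹ = (c1 : T) * U) → q ∈ D.P := by
    intro q hq hqA hqU
    refine D.mem_of_inner hq (hker _ (D.s.conj q hq) fun p hp => ?_)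
    set β := Fusion.conjAut D.P q hq
    obtain ⟨ζ, hζ, r, rfl⟩ := hinvol p hp
    let N : Subgroup D.R :=
      { carrier := {r | β (r : D.P) * (r : D.P)⁻¹ ∈ zpowers c1}
        one_mem' := by simp
        mul_mem' := fun {r s} hr hs => by
          show β ((r : D.P) * (s : D.P)) * ((r : D.P) * (s : D.P))⁻¹ ∈ zpowers c1
          rw [map_mul, show β (r : D.P) * β (s : D.P) * ((r : D.P) * (s : D.P))⁻¹ =
            β (r : D.P) * (β (s : D.P) * (s : D.P)⁻¹) * (r : D.P)⁻¹ by group, (hab (β (r : D.P)) _).eq, mul_assoc]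
          exact mul_mem hs hr
        inv_mem' := fun {r} hr => by
          show β (r : D.P)⁻¹ * (r : D.P)⁻¹⁻¹ ∈ zpowers c1
          rw [map_inv, inv_inv, show (β (r : D.P))⁻¹ * (r : D.P) = (r : D.P)⁻¹ * (β (r : D.P) * (r : D.P)⁻¹)⁻¹ * r by group,
            (hab (r : D.P)⁻¹ _).eq, inv_mul_cancel_right]
          exact inv_mem hr }
    have haN : a ∈ N := by
      show β (a : D.P) * (a : D.P)⁻¹ ∈ zpowers c1
      rcases hqA with h | h
      · rw [show β (a : D.P) = a from Subtype.ext h, mul_inv_cancel]; exact one_mem _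
      · rw [show β (a : D.P) = c1 * a from Subtype.ext h, mul_inv_cancel_right]; exact mem_zpowers _
    have huN : u ∈ N := by
      show β (u : D.P) * (u : D.P)⁻¹ ∈ zpowers c1
      rcases hqU with h | h
      · rw [show β (u : D.P) = u from Subtype.ext h, mul_inv_cancel]; exact one_mem _
      · rw [show β (u : D.P) = c1 * u from Subtype.ext h, mul_inv_cancel_right]; exact mem_zpowers _
    have hrN : r ∈ N := by
      rcases hR r with rfl | rfl | rfl | rfl
      exacts [one_mem _, haN, huN, mul_mem haN huN]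
    have hβζ : β ζ = ζ := by
      rcases hz1 ζ hζ with rfl | rfl <;> [exact map_one β; exact hfixc1 β]
    rw [map_mul, hβζ, show ζ * β (r : D.P) * (ζ * (r : D.P))⁻¹ = ζ * (β (r : D.P) * (r : D.P)⁻¹) * ζ⁻¹ by group,
      (hab ζ _).eq, mul_inv_cancel_right]
    exact hrN
  have hMP : M ≤ D.P := D.le_P_of_grow M fun q hq hqn => by
    obtain ⟨hqA, hqW⟩ := (hMmem q).1 hq
    have hqN : q ∈ normalizer (D.P : Set T) := by
      refine mem_normalizer_iff_map_conj_eq.2 (eq_of_le_of_card_ge ?_ (card_map_of_injective (MulEquiv.injective _)).ge)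
      rintro _ ⟨p, hp, rfl⟩
      exact (Subgroup.mem_inf.1 (hqn p (Subgroup.mem_inf.2 ⟨hPM hp, hp⟩))).2
    exact hinner q hqN (Or.inl (by rw [← hqA.eq, mul_inv_cancel_right]))
      (Or.inl (by rw [← (hqW U hUW).eq, mul_inv_cancel_right]))
  obtain ⟨g, hg⟩ := hcover (c1 : T) hc1W.1
  have hgN : g ∈ normalizer (D.P : Set T) := by
    refine mem_normalizer_iff_map_conj_eq.2 ?_
    rw [le_antisymm hPM hMP]
    refine (eq_of_le_of_card_ge ?_ (card_map_of_injective (MulEquiv.injective _)).le).symm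
    intro q hq
    refine ⟨g⁻¹ * q * g, ?_, by simp [mul_assoc]⟩
    have key : ∀ X : T, Commute q (g * X * g⁻¹) → Commute X (g⁻¹ * q * g) := fun X h => by
      show _ = _
      calc X * (g⁻¹ * q * g) = g⁻¹ * ((g * X * g⁻¹) * q) * g := by group
        _ = g⁻¹ * (q * (g * X * g⁻¹)) * g := by rw [h.eq]
        _ = _ := by group
    have hqP := hMP hq
    exact (hMmem _).2 ⟨key A (by rw [hg]; exact habT q hqP _ (mul_mem c1.2 (a : D.P).2)),
      fun w hw => key w (hPW q hqP _ ((D.hyp.omega_normal).conj_mem w hw g))⟩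
  have hgc1 : g * (c1 : T) * g⁻¹ = c1 := congrArg Subtype.val (hfixc1 (Fusion.conjAut D.P g hgN))
  have hgU : g * U * g⁻¹ = U ∨ g * U * g⁻¹ = (c1 : T) * U := by
    rcases hconj g U hUW with h | h
    · exact Or.inl h
    · by_cases hc10 : (c1 : T) = z0
      · refine Or.inr ?_
        rw [h, hc10, mem_center_iff.1 hz0Z U]
      · exfalso
        -- `g` fixes `c1` and moves `W`
        have hmove : ∃ w ∈ D.W, g * w * g⁻¹ ≠ w := ⟨U, hUW, fun h' => hz01 (by
          rw [h'] at h; exact left_eq_mul.1 h)⟩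
        obtain ⟨w, hw, hne⟩ := hmove
        let Mg : Subgroup T := D.W ⊓ centralizer {g}
        have hc1g : (c1 : T) ∈ Mg := Subgroup.mem_inf.2
          ⟨hc1W, mem_centralizer_singleton_iff.2 (mul_inv_eq_iff_eq_mul.1 hgc1).symm⟩
        have hz0g : z0 ∈ Mg := Subgroup.mem_inf.2 ⟨hz0W, mem_centralizer_singleton_iff.2 (mem_center_iff.1 hz0Z g).symm⟩
        have h3 : 3 ≤ Nat.card Mg := by
          classical
          haveI := Fintype.ofFinite Mg
          rw [Nat.card_eq_fintype_card]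
          refine le_trans (le_of_eq ?_) (Finset.card_le_univ ({1, ⟨z0, hz0g⟩, ⟨(c1 : T), hc1g⟩} : Finset Mg))
          rw [Finset.card_insert_of_notMem, Finset.card_insert_of_notMem, Finset.card_singleton]
          · simp only [Finset.mem_singleton, Subtype.mk.injEq]; exact Ne.symm hc10
          · simp only [Finset.mem_insert, Finset.mem_singleton, not_or, Subtype.ext_iff]
            exact ⟨Ne.symm hz01, fun h => hc11 (Subtype.ext h.symm)⟩
        have h4 : Nat.card Mg ∣ 4 := D.card_W ▸ card_dvd_of_le inf_le_left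
        have hle4 := Nat.le_of_dvd (by norm_num) h4
        have hM' : Mg = D.W := eq_of_le_of_card_ge inf_le_left (by
          rw [D.card_W]
          interval_cases hcc : Nat.card Mg <;> omega)
        have := mem_centralizer_singleton_iff.1 (Subgroup.mem_inf.1 (hM'.symm ▸ hw : w ∈ Mg)).2
        exact hne (by rw [← this, mul_inv_cancel_right])
  have hgP := hinner g hgN (Or.inr hg) hgU
  have h1 : g * A * g⁻¹ = A := by rw [(habT g hgP A (a : D.P).2).eq, mul_inv_cancel_right]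
  rw [hg] at h1
  exact hc11 (Subtype.ext (mul_eq_right.1 h1))

end Data

end Cfsg.Lib.Bicyclic
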