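import Cfsg.Agent.PGroups.Bicyclic.Basic
import Cfsg.Agent.PGroups.MetaOmega
import Cfsg.Agent.PGroups.Basic

/-!
The Frattini subgroup of a bicyclic 2-group is metacyclic.
-/

set_option autoImplicit false
set_option linter.unusedSectionVars false
set_option linter.style.haveILetI false

namespace Cfsg.Lib.Bicyclic

open Subgroup
open scoped commutatorElement

universe u

variable {S : Type u} [Group S]

theorem mem_of_odd_zpow [Finite S] (hS : IsPGroup 2 S) {H : Subgroup S} {g : S} {i : ℤ} (hi : Odd i)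
    (h : g ^ i ∈ H) : g ∈ H := by
  obtain ⟨k, hk⟩ := IsPGroup.iff_orderOf.1 hS g
  have hc : IsCoprime i ((2 : ℤ) ^ k) := by
    refine IsCoprime.pow_right ?_
    obtain ⟨m, rfl⟩ := hi
    exact ⟨1, -m, by ring⟩
  obtain ⟨p, q, e⟩ := hc
  have e1 : g ^ ((2 : ℤ) ^ k) = 1 := by
    rw [show ((2 : ℤ) ^ k) = ((2 ^ k : ℕ) : ℤ) by push_cast; rfl, zpow_natCast, ← hk, pow_orderOf_eq_one]
  have : g = (g ^ i) ^ p := by
    rw [← zpow_mul, mul_comm i p]
    conv_lhs => rw [← zpow_one g, ← e, zpow_add, mul_comm q, zpow_mul g ((2 : ℤ) ^ k), e1, one_zpow, mul_one]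
  exact this ▸ zpow_mem h p

theorem Gen.odd_pow [Finite S] (hS : IsPGroup 2 S) {x y : S} (h : Gen x y) {i j : ℤ} (hi : Odd i) (hj : Odd j) :
    Gen (x ^ i) (y ^ j) := fun g => by
  obtain ⟨a, b, rfl⟩ := h g
  obtain ⟨p, hp⟩ := mem_zpowers_iff.1 (mem_of_odd_zpow hS hi (mem_zpowers (x ^ i)))
  obtain ⟨q, hq⟩ := mem_zpowers_iff.1 (mem_of_odd_zpow hS hj (mem_zpowers (y ^ j)))
  exact ⟨p * a, q * b, by rw [zpow_mul, zpow_mul _ q, hp, hq]⟩

/-- a group generated by `g` and `h` whose derived subgroup lies in `⟨g⟩` is metacyclic -/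
theorem meta_of {g h : S} (hgen : closure ({g, h} : Set S) = ⊤) (hc : commutator S ≤ zpowers g) :
    Cfsg.IsMetacyclic S := by
  have hn : (zpowers g).Normal := Normal.of_commutator_le S hc
  refine ⟨zpowers g, hn, inferInstance, ⟨⟨(h : S ⧸ zpowers g), fun q => ?_⟩⟩⟩
  obtain ⟨s, rfl⟩ := QuotientGroup.mk_surjective q
  have hle : closure ({g, h} : Set S) ≤ (zpowers (h : S ⧸ zpowers g)).comap (QuotientGroup.mk' _) := by
    rw [closure_le]
    rintro t (rfl | rfl)
    · rw [SetLike.mem_coe, mem_comap, QuotientGroup.mk'_apply, (QuotientGroup.eq_one_iff t).2 (mem_zpowers t)]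
      exact one_mem _
    · exact mem_zpowers _
  exact mem_zpowers_iff.1 (hle (hgen ▸ mem_top s))

theorem meta_of_cyclic (h : IsCyclic S) : Cfsg.IsMetacyclic S := by
  obtain ⟨g, hg⟩ := h.exists_zpow_surjective
  exact meta_of (g := g) (h := g) (top_le_iff.1 fun s _ => by
    obtain ⟨i, rfl⟩ := hg s
    exact zpow_mem (subset_closure (by simp)) i) (fun s _ => mem_zpowers_iff.2 (hg s))

theorem meta_two_gen (h : Cfsg.IsMetacyclic S) : ∃ g k : S, closure ({g, k} : Set S) = ⊤ := by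
  obtain ⟨N, hn, hc, hq⟩ := h
  obtain ⟨⟨g, hgN⟩, hg⟩ := hc.exists_zpow_surjective
  obtain ⟨q, hq⟩ := hq.exists_zpow_surjective
  obtain ⟨k, rfl⟩ := QuotientGroup.mk_surjective q
  refine ⟨g, k, top_le_iff.1 fun s _ => ?_⟩
  obtain ⟨i, hi⟩ := hq (s : S ⧸ N)
  obtain ⟨m, hm⟩ := hg ⟨(k ^ i)⁻¹ * s, QuotientGroup.eq.1 ((QuotientGroup.mk_zpow N k i).trans hi)⟩
  have hm' : g ^ m = (k ^ i)⁻¹ * s := by simpa using congrArg Subtype.val hm
  rw [show s = k ^ i * g ^ m by rw [hm']; group]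
  exact mul_mem (zpow_mem (subset_closure (by simp)) _) (zpow_mem (subset_closure (by simp)) _)

theorem meta_card_le_four (h : Cfsg.IsMetacyclic S) (hsq : ∀ s : S, s ^ 2 = 1) : Nat.card S ≤ 4 := by
  obtain ⟨N, hn, hc, hq⟩ := h
  have key : ∀ (G : Type u) [Group G], IsCyclic G → (∀ s : G, s ^ 2 = 1) → Nat.card G ≤ 2 := by
    intro G _ hG hs
    obtain ⟨g, hg⟩ := hG.exists_ofOrder_eq_natCard
    rw [← hg]
    exact orderOf_le_of_pow_eq_one two_pos (hs g)
  have h1 := key N hc fun s => Subtype.ext (hsq s)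
  have h2 := key (S ⧸ N) hq fun q => by
    obtain ⟨s, rfl⟩ := QuotientGroup.mk_surjective q
    rw [← QuotientGroup.mk_pow, hsq, QuotientGroup.mk_one]
  rw [card_eq_card_quotient_mul_card_subgroup N]
  exact Nat.mul_le_mul h2 h1

/-- the subgroup generated by the squares of `S'` and `[S', S]` -/
def low (S : Type u) [Group S] : Subgroup S :=
  ⁅commutator S, (⊤ : Subgroup S)⁆ ⊔ closure ((fun s : S => s ^ 2) '' (commutator S : Set S))

theorem map_low_le {Q : Type u} [Group Q] (f : S →* Q) : (low S).map f ≤ low Q := by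
  have hc : (commutator S).map f ≤ commutator Q := by
    rw [_root_.commutator_def, _root_.commutator_def, map_commutator]
    exact commutator_mono le_top le_top
  refine (Subgroup.map_sup _ _ f).le.trans (sup_le_sup ?_ ?_)
  · rw [map_commutator]
    exact commutator_mono hc le_top
  · rw [MonoidHom.map_closure]
    refine closure_mono ?_
    rintro _ ⟨_, ⟨s, hs, rfl⟩, rfl⟩
    exact ⟨f s, hc (mem_map_of_mem f hs), (map_pow f s 2).symm⟩

instance low_characteristic : (low S).Characteristic :=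
  characteristic_iff_map_le.2 fun φ => map_low_le φ.toMonoidHom

/-- Blackburn: being metacyclic can be detected modulo `low` -/
theorem meta_lift : ∀ (n : ℕ) {P : Type u} [Group P] [Finite P], Nat.card P = n → IsPGroup 2 P →
    ∀ (N : Subgroup P) [N.Normal], N ≤ low P → Cfsg.IsMetacyclic (P ⧸ N) → Cfsg.IsMetacyclic P := by
  intro n
  induction n using Nat.strong_induction_on with
  | _ n ih =>
  intro P _ _ hn hP N _ hN hm
  haveI : Fact (Nat.Prime 2) := ⟨Nat.prime_two⟩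
  rcases eq_or_ne N ⊥ with rfl | hne
  · exact PGroups.MetaOmega.meta_surjective (QuotientGroup.quotientBot (G := P)).toMonoidHom
      (MulEquiv.surjective _) hm
  obtain ⟨z, hzN, hzZ, hz2⟩ := PGroups.exists_mem_center_of_normal_ne_bot hP hne
  have hzn : (zpowers z).Normal := ⟨fun m hm g => by
    rw [mem_center_iff.1 ((zpowers_le.2 hzZ) hm) g, mul_inv_cancel_right]; exact hm⟩
  set f := QuotientGroup.mk' (zpowers z) with hf
  have hlt : Nat.card (P ⧸ zpowers z) < n := by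
    have h := card_eq_card_quotient_mul_card_subgroup (zpowers z)
    rw [Nat.card_zpowers, hz2] at h
    have := Nat.card_pos (α := P ⧸ zpowers z)
    omega
  have hm1 : Cfsg.IsMetacyclic (P ⧸ zpowers z) :=
    ih _ hlt rfl (hP.to_quotient _) (N.map f) ((map_mono hN).trans (map_low_le f))
      (PGroups.MetaOmega.meta_surjective
        (QuotientGroup.quotientQuotientEquivQuotient (zpowers z) N (zpowers_le.2 hzN)).symm.toMonoidHom
        (MulEquiv.surjective _) hm)
  obtain ⟨K0, hK0n, hK0c, hK0q⟩ := hm1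
  obtain ⟨⟨g0, hg0⟩, hgen0⟩ := hK0c.exists_zpow_surjective
  obtain ⟨q0, hq0⟩ := hK0q.exists_zpow_surjective
  obtain ⟨g, rfl⟩ := QuotientGroup.mk_surjective g0
  obtain ⟨q1, rfl⟩ := QuotientGroup.mk_surjective q0
  obtain ⟨h, rfl⟩ := QuotientGroup.mk_surjective q1
  have hK : ∀ s : P, (s : P ⧸ zpowers z) ∈ K0 → ∃ i e : ℤ, s = g ^ i * z ^ e := fun s hs => by
    obtain ⟨i, hi⟩ := hgen0 ⟨_, hs⟩
    have hi' : (g : P ⧸ zpowers z) ^ i = (s : P ⧸ zpowers z) := by simpa using congrArg Subtype.val hi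
    obtain ⟨e, he⟩ := mem_zpowers_iff.1 (QuotientGroup.eq.1 ((QuotientGroup.mk_zpow _ g i).trans hi'))
    exact ⟨i, e, by rw [he]; group⟩
  have hgc : closure ({h, g, z} : Set P) = ⊤ := top_le_iff.1 fun s _ => by
    obtain ⟨i, hi⟩ := hq0 ((s : P ⧸ zpowers z) : (P ⧸ zpowers z) ⧸ K0)
    obtain ⟨m, e, hme⟩ := hK ((h ^ i)⁻¹ * s) (by
      rw [QuotientGroup.mk_mul, QuotientGroup.mk_inv, QuotientGroup.mk_zpow]
      exact QuotientGroup.eq.1 ((QuotientGroup.mk_zpow K0 _ i).trans hi))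
    rw [show s = h ^ i * (g ^ m * z ^ e) by rw [← hme]; group]
    exact mul_mem (zpow_mem (subset_closure (by simp)) _)
      (mul_mem (zpow_mem (subset_closure (by simp)) _) (zpow_mem (subset_closure (by simp)) _))
  obtain ⟨m, e, hme⟩ := hK (h * g * h⁻¹) (by
    rw [QuotientGroup.mk_mul, QuotientGroup.mk_mul, QuotientGroup.mk_inv]
    exact hK0n.conj_mem _ hg0 _)
  have zc : ∀ s : P, Commute z s := fun s => (mem_center_iff.1 hzZ s).symm
  set c := h * g * h⁻¹ * g⁻¹ with hcd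
  have hcg : Commute c g := by
    have h1 : Commute (g ^ m * z ^ e) g := ((Commute.refl g).zpow_left m).mul_left ((zc g).zpow_left e)
    rw [hcd, hme]
    exact h1.mul_left (Commute.refl g).inv_left
  have hconjg : ∀ i : ℤ, h * g ^ i * h⁻¹ = c ^ i * g ^ i := fun i => by
    rw [← conj_zpow, show h * g * h⁻¹ = c * g by rw [hcd]; group, hcg.mul_zpow]
  have hhc : h * c * h⁻¹ = c ^ m := by
    calc h * c * h⁻¹ = (h * (h * g * h⁻¹) * h⁻¹) * (h * g * h⁻¹)⁻¹ := by rw [hcd]; group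
      _ = (h * g ^ m * h⁻¹) * (h * z ^ e * h⁻¹) * (g ^ m * z ^ e)⁻¹ := by rw [hme]; group
      _ = c ^ m := by
        rw [hconjg, show h * z ^ e * h⁻¹ = z ^ e by rw [← ((zc h).zpow_left e).eq, mul_inv_cancel_right]]
        group
  have hcC : c ∈ zpowers c := mem_zpowers c
  have hCn : (zpowers c).Normal := by
    refine normalizer_eq_top_iff.1 (top_le_iff.1 (hgc ▸ (closure_le _).2 ?_))
    intro t ht
    refine mem_normalizer_iff_map_conj_eq.2 (eq_of_le_of_card_ge ?_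
      (card_map_of_injective (MulEquiv.injective _)).ge)
    rintro _ ⟨_, ⟨i, rfl⟩, rfl⟩
    show t * c ^ i * t⁻¹ ∈ zpowers c
    rw [← conj_zpow]
    refine zpow_mem ?_ i
    rcases ht with rfl | rfl | rfl
    · rw [hhc]; exact zpow_mem hcC m
    · rw [← hcg.eq, mul_inv_cancel_right]; exact hcC
    · rw [(zc c).eq, mul_inv_cancel_right]; exact hcC
  have hPc : commutator P ≤ zpowers c := by
    haveI := hCn
    refine Normal.quotient_commutative_iff_commutator_le.mp ⟨⟨fun a b => ?_⟩⟩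
    set k := QuotientGroup.mk' (zpowers c) with hk
    have hhg : Commute (k h) (k g) := by
      refine commutatorElement_eq_one_iff_mul_comm.1 ?_
      rw [← map_commutatorElement, hk, QuotientGroup.mk'_apply, QuotientGroup.eq_one_iff, commutatorElement_def,
        ← hcd]
      exact hcC
    have hall : ∀ t ∈ ({h, g, z} : Set P), ∀ s ∈ ({h, g, z} : Set P), Commute (k t) (k s) := by
      rintro t (rfl | rfl | rfl) s (rfl | rfl | rfl) <;>
        first | exact Commute.refl _ | exact hhg | exact hhg.symm | exact (zc _).map k | exact ((zc _).map k).symm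
    have hQ : closure (k '' ({h, g, z} : Set P)) = ⊤ := by
      rw [← MonoidHom.map_closure, hgc, map_top_of_surjective _ (QuotientGroup.mk'_surjective _)]
    have h1 : (⊤ : Subgroup (P ⧸ zpowers c)) ≤ center _ := by
      rw [← hQ, closure_le]
      rintro _ ⟨t, ht, rfl⟩
      refine mem_center_iff.2 fun q => ?_
      have : (⊤ : Subgroup (P ⧸ zpowers c)) ≤ centralizer {k t} := by
        rw [← hQ, closure_le]
        rintro _ ⟨s, hs, rfl⟩
        exact mem_centralizer_singleton_iff.2 (hall s hs t ht)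
      exact mem_centralizer_singleton_iff.1 (this (mem_top q))
    exact mem_center_iff.1 (h1 (mem_top b)) a
  have hc2 : c ^ 2 ∈ zpowers g := by
    refine mem_zpowers_iff.2 ⟨2 * (m - 1), ?_⟩
    have hz : (z ^ e) ^ (2 : ℕ) = 1 := by
      rw [← zpow_natCast, ← zpow_mul, mul_comm, zpow_mul, zpow_natCast, ← hz2, pow_orderOf_eq_one, one_zpow]
    rw [show c = g ^ (m - 1) * z ^ e by
      rw [hcd, hme, mul_assoc, (((zc g).inv_right).zpow_left e).eq, ← mul_assoc]; group,
      (((zc g).zpow_zpow e (m - 1)).symm).mul_pow, hz, mul_one, ← zpow_natCast (g ^ (m - 1)), ← zpow_mul]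
    push_cast
    ring_nf
  have hlow : low P ≤ zpowers g := by
    refine sup_le ?_ ((closure_le _).2 ?_)
    · rw [commutator_le]
      intro s hs t _
      obtain ⟨i, rfl⟩ := mem_zpowers_iff.1 (hPc hs)
      obtain ⟨r, hr⟩ := mem_zpowers_iff.1 (hCn.conj_mem c hcC t)
      rcases Int.even_or_odd r with ⟨r', rfl⟩ | ⟨r', rfl⟩
      · suffices hc1 : c = 1 by simp [hc1]
        obtain ⟨k, hk⟩ := IsPGroup.iff_orderOf.1 hP c
        by_contra hc1
        obtain ⟨k', rfl⟩ : ∃ k', k = k' + 1 := ⟨k - 1, by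
          rcases k with - | k
          · exact absurd (orderOf_eq_one_iff.1 (by rw [hk, pow_zero])) hc1
          · omega⟩
        have h1 : (t * c * t⁻¹) ^ (2 ^ k') = 1 := by
          rw [← hr, ← two_mul, zpow_mul, ← zpow_natCast, ← zpow_mul, mul_comm, zpow_mul, zpow_natCast,
            zpow_ofNat, ← pow_mul, ← pow_succ', ← hk, pow_orderOf_eq_one, one_zpow]
        rw [conj_pow, mul_inv_eq_one, mul_eq_left] at h1
        have h2 := orderOf_le_of_pow_eq_one (Nat.two_pow_pos _) h1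
        rw [hk, pow_succ] at h2
        have := Nat.two_pow_pos k'
        omega
      · rw [commutatorElement_def, show c ^ i * t * (c ^ i)⁻¹ * t⁻¹ = c ^ i * (t * c ^ i * t⁻¹)⁻¹ by group,
          ← conj_zpow, ← hr, ← zpow_mul, ← zpow_neg, ← zpow_add,
          show i + -((2 * r' + 1) * i) = 2 * (-(r' * i)) by ring, zpow_mul, zpow_ofNat]
        exact zpow_mem hc2 _
    · rintro _ ⟨s, hs, rfl⟩
      obtain ⟨i, rfl⟩ := mem_zpowers_iff.1 (hPc hs)
      show (c ^ i) ^ 2 ∈ zpowers g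
      rw [← zpow_natCast, ← zpow_mul, mul_comm, zpow_mul, zpow_natCast]
      exact zpow_mem hc2 i
  have hzg : z ∈ zpowers g := hlow (hN hzN)
  refine meta_of (g := g) (h := h) (top_le_iff.1 (hgc ▸ (closure_le _).2 ?_)) (hPc.trans (zpowers_le.2 ?_))
  · rintro t (rfl | rfl | rfl)
    · exact subset_closure (by simp)
    · exact subset_closure (by simp)
    · exact zpowers_le.2 (subset_closure (by simp)) hzg
  · rw [hcd, hme]
    exact mul_mem (mul_mem (zpow_mem (mem_zpowers g) m) (zpow_mem hzg e)) (inv_mem (mem_zpowers g))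

theorem comm_zpow {a b c : S} (ha : Commute c a) (hb : Commute c b) (h : a * b = c * (b * a)) (i j : ℤ) :
    a ^ i * b ^ j = c ^ (i * j) * (b ^ j * a ^ i) := by
  have h1 : a * b ^ j * a⁻¹ = c ^ j * b ^ j := by
    rw [← conj_zpow, show a * b * a⁻¹ = c * b by rw [h]; group, hb.mul_zpow]
  have h2 : (b ^ j)⁻¹ * a * b ^ j = c ^ j * a := by
    calc (b ^ j)⁻¹ * a * b ^ j = (b ^ j)⁻¹ * (a * b ^ j * a⁻¹) * a := by group
      _ = ((b ^ j)⁻¹ * c ^ j) * b ^ j * a := by rw [h1]; group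
      _ = _ := by rw [← ((hb.zpow_zpow j j).inv_right).eq]; group
  have h3 : (b ^ j)⁻¹ * a ^ i * b ^ j = c ^ (j * i) * a ^ i := by
    have h4 : ((b ^ j)⁻¹ * a * (b ^ j)⁻¹⁻¹) ^ i = (b ^ j)⁻¹ * a ^ i * (b ^ j)⁻¹⁻¹ := conj_zpow
    rw [inv_inv, h2, (ha.zpow_left j).mul_zpow, ← zpow_mul] at h4
    exact h4.symm
  calc a ^ i * b ^ j = b ^ j * ((b ^ j)⁻¹ * a ^ i * b ^ j) := by group
    _ = b ^ j * c ^ (j * i) * a ^ i := by rw [h3, mul_assoc]
    _ = _ := by rw [← (hb.zpow_zpow (j * i) j).eq, mul_comm j i, mul_assoc]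

theorem mul_sq_of {a b c : S} (ha : Commute c a) (hb : Commute c b) (hc2 : c ^ 2 = 1) (h : a * b = c * (b * a))
    (i j : ℤ) : (a ^ i * b ^ j) ^ 2 = (a ^ i) ^ 2 * (b ^ j) ^ 2 * c ^ (i * j) := by
  have hci : (c ^ (i * j))⁻¹ = c ^ (i * j) := by
    rw [inv_eq_iff_mul_eq_one, ← zpow_add, ← two_mul, zpow_mul, zpow_ofNat, hc2, one_zpow]
  have hba : b ^ j * a ^ i = c ^ (i * j) * (a ^ i * b ^ j) := by
    rw [comm_zpow ha hb h i j, ← mul_assoc, show c ^ (i * j) * c ^ (i * j) = 1 by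
      nth_rewrite 1 [← hci]; exact inv_mul_cancel _, one_mul]
  calc (a ^ i * b ^ j) ^ 2 = a ^ i * (b ^ j * a ^ i) * b ^ j := by rw [sq]; group
    _ = (a ^ i * c ^ (i * j)) * a ^ i * b ^ j * b ^ j := by rw [hba]; group
    _ = c ^ (i * j) * ((a ^ i) ^ 2 * (b ^ j) ^ 2) := by rw [← (ha.zpow_zpow (i * j) i).eq]; group
    _ = _ := (((ha.zpow_zpow (i * j) i).pow_right 2).mul_right ((hb.zpow_zpow (i * j) j).pow_right 2)).eq

theorem bad_case [Finite S] (hS : IsPGroup 2 S) {a b c : S} (hg : Gen a b) (ha : Commute c a) (hb : Commute c b)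
    (hc2 : c ^ 2 = 1) (hab : a * b = c * (b * a)) (hm : ¬ Cfsg.IsMetacyclic S) :
    ∃ i j : ℤ, Odd i ∧ Odd j ∧ (a ^ i) ^ 2 * (b ^ j) ^ 2 = c := by
  have hn : (zpowers c).Normal := normal_of_gen hg
    (fun n hn => by
      obtain ⟨i, rfl⟩ := mem_zpowers_iff.1 hn
      rw [← (ha.zpow_left i).eq, mul_inv_cancel_right]; exact hn)
    (fun n hn => by
      obtain ⟨i, rfl⟩ := mem_zpowers_iff.1 hn
      rw [← (hb.zpow_left i).eq, mul_inv_cancel_right]; exact hn)
  have hcom : commutator S ≤ zpowers c := by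
    rw [_root_.commutator_def, commutator_le]
    intro s _ t _
    haveI := hn
    rw [← QuotientGroup.eq_one_iff, ← QuotientGroup.mk'_apply, map_commutatorElement,
      commutatorElement_eq_one_iff_mul_comm]
    obtain ⟨i, j, rfl⟩ := hg s
    obtain ⟨k, l, rfl⟩ := hg t
    have hxy : Commute (QuotientGroup.mk' (zpowers c) a) (QuotientGroup.mk' (zpowers c) b) := by
      have h1 : QuotientGroup.mk' (zpowers c) c = 1 := (QuotientGroup.eq_one_iff c).2 (mem_zpowers c)
      show _ = _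
      rw [← map_mul, hab, map_mul, h1, one_mul, map_mul]
    rw [map_mul, map_mul, map_zpow, map_zpow, map_zpow, map_zpow]
    exact (((Commute.refl _).zpow_zpow i k).mul_right (hxy.zpow_zpow i l)).mul_left
      ((hxy.symm.zpow_zpow j k).mul_right ((Commute.refl _).zpow_zpow j l))
  have no : ∀ g k : S, closure ({g, k} : Set S) = ⊤ → c ∉ zpowers g :=
    fun g k hgk hcg => hm (meta_of hgk (hcom.trans (zpowers_le.2 hcg)))
  have hcl := hg.closure_eq
  have hc1 : c ≠ 1 := fun h => no a b hcl (h ▸ one_mem _)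
  have hodd : ∀ n : ℤ, c ^ n = 1 → Even n := fun n hn => by
    rcases Int.even_or_odd n with h | ⟨k, rfl⟩
    · exact h
    · rw [zpow_add, zpow_mul, zpow_ofNat, hc2, one_zpow, one_mul, zpow_one] at hn
      exact absurd hn hc1
  obtain ⟨s, t, hst⟩ := hg c
  have hs : Even s := hodd s (by
    have h1 : Commute (a ^ s) b := by
      have := (hst ▸ hb : Commute (a ^ s * b ^ t) b)
      simpa using this.mul_left (((Commute.refl b).zpow_left t).inv_left)
    have h2 := comm_zpow ha hb hab s 1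
    rw [zpow_one, h1.eq, mul_one] at h2
    exact mul_eq_right.1 h2.symm)
  have ht : Even t := hodd t (by
    have h1 : Commute (b ^ t) a := by
      have := (hst ▸ ha : Commute (a ^ s * b ^ t) a)
      simpa using (((Commute.refl a).zpow_left s).inv_left).mul_left this
    have h2 := comm_zpow ha hb hab 1 t
    rw [zpow_one, ← h1.eq, one_mul] at h2
    exact mul_eq_right.1 h2.symm)
  obtain ⟨i, rfl⟩ := hs
  obtain ⟨j, rfl⟩ := ht
  have e0 : (a ^ i) ^ 2 * (b ^ j) ^ 2 = c := by rw [hst, sq, sq, ← zpow_add, ← zpow_add]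
  have hi0 : i ≠ 0 := fun h => no b a (Set.pair_comm b a ▸ hcl)
    (by rw [← e0, h]; simpa using pow_mem (zpow_mem (mem_zpowers b) j) 2)
  have hj0 : j ≠ 0 := fun h => no a b hcl (by rw [← e0, h]; simpa using pow_mem (zpow_mem (mem_zpowers a) i) 2)
  obtain ⟨p, i0, hi, rfl⟩ : ∃ (p : ℕ) (i0 : ℤ), Odd i0 ∧ i = 2 ^ p * i0 := by
    obtain ⟨p, m, hm, e⟩ := Nat.exists_eq_two_pow_mul_odd (Int.natAbs_ne_zero.2 hi0)
    rcases Int.natAbs_eq i with h | h
    · exact ⟨p, m, by exact_mod_cast hm, by rw [h, e]; push_cast; rfl⟩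
    · exact ⟨p, -m, by rw [odd_neg]; exact_mod_cast hm, by rw [h, e]; push_cast; ring⟩
  obtain ⟨q, j0, hj, rfl⟩ : ∃ (q : ℕ) (j0 : ℤ), Odd j0 ∧ j = 2 ^ q * j0 := by
    obtain ⟨p, m, hm, e⟩ := Nat.exists_eq_two_pow_mul_odd (Int.natAbs_ne_zero.2 hj0)
    rcases Int.natAbs_eq j with h | h
    · exact ⟨p, m, by exact_mod_cast hm, by rw [h, e]; push_cast; rfl⟩
    · exact ⟨p, -m, by rw [odd_neg]; exact_mod_cast hm, by rw [h, e]; push_cast; ring⟩
  rcases Nat.eq_zero_or_pos p with rfl | hp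
  · rcases Nat.eq_zero_or_pos q with rfl | hq
    · exact ⟨_, _, by simpa using hi, by simpa using hj, e0⟩
    · exfalso
      simp only [pow_zero, one_mul] at e0
      refine no (a ^ i0 * b ^ (2 ^ q * j0)) b ?_ ⟨2, ?_⟩
      · refine hg.top_le (mem_of_odd_zpow hS hi ?_) (subset_closure (by simp))
        have := mul_mem (subset_closure (Set.mem_insert (a ^ i0 * b ^ (2 ^ q * j0)) {b}))
          (inv_mem (zpow_mem (subset_closure (by simp : b ∈ ({a ^ i0 * b ^ (2 ^ q * j0), b} : Set S)))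
            (2 ^ q * j0)))
        simpa using this
      · obtain ⟨w, hw⟩ : Even (i0 * (2 ^ q * j0)) :=
          ((Int.even_pow.2 ⟨even_two, hq.ne'⟩).mul_right j0).mul_left i0
        show (a ^ i0 * b ^ (2 ^ q * j0)) ^ (2 : ℤ) = c
        rw [zpow_ofNat, mul_sq_of ha hb hc2 hab, e0, hw, ← two_mul, zpow_mul, zpow_ofNat, hc2, one_zpow, mul_one]
  · exfalso
    rcases Nat.eq_zero_or_pos q with rfl | hq
    · simp only [pow_zero, one_mul] at e0
      refine no (a ^ (2 ^ p * i0) * b ^ j0) a ?_ ⟨2, ?_⟩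
      · refine hg.top_le (subset_closure (by simp)) (mem_of_odd_zpow hS hj ?_)
        have := mul_mem (inv_mem (zpow_mem
          (subset_closure (by simp : a ∈ ({a ^ (2 ^ p * i0) * b ^ j0, a} : Set S))) (2 ^ p * i0)))
          (subset_closure (Set.mem_insert (a ^ (2 ^ p * i0) * b ^ j0) {a}))
        simpa using this
      · obtain ⟨w, hw⟩ : Even (2 ^ p * i0 * j0) :=
          ((Int.even_pow.2 ⟨even_two, hp.ne'⟩).mul_right i0).mul_right j0
        show (a ^ (2 ^ p * i0) * b ^ j0) ^ (2 : ℤ) = c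
        rw [zpow_ofNat, mul_sq_of ha hb hc2 hab, e0, hw, ← two_mul, zpow_mul, zpow_ofNat, hc2, one_zpow, mul_one]
    · -- both exponents even
      have key : ∀ (m n : ℤ) (k : ℕ), (a ^ m * b ^ n) ^ (4 * 2 ^ k) =
          a ^ (4 * 2 ^ k * m) * b ^ (4 * 2 ^ k * n) := fun m n k => by
        have h4 : (a ^ m * b ^ n) ^ 4 = a ^ (4 * m) * b ^ (4 * n) := by
          have hcm : Commute ((a ^ m) ^ 2 * (b ^ n) ^ 2) (c ^ (m * n)) :=
            ((((ha.zpow_zpow (m * n) m).pow_right 2).mul_right ((hb.zpow_zpow (m * n) n).pow_right 2))).symm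
          have hab2 : Commute (((a ^ m) ^ 2)) (((b ^ n) ^ 2)) := by
            rw [sq, sq, ← zpow_add, ← zpow_add]
            show _ = _
            rw [comm_zpow ha hb hab, show (m + m) * (n + n) = 2 * ((m + m) * n) by ring, zpow_mul, zpow_ofNat, hc2,
              one_zpow, one_mul]
          rw [show (4 : ℕ) = 2 * 2 from rfl, pow_mul, mul_sq_of ha hb hc2 hab, hcm.mul_pow, hab2.mul_pow,
            ← pow_mul, ← pow_mul, ← zpow_natCast (c ^ (m * n)), ← zpow_mul, mul_comm (m * n), zpow_mul,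
            zpow_natCast, hc2, one_zpow, mul_one, ← zpow_natCast, ← zpow_natCast (b ^ n), ← zpow_mul, ← zpow_mul]
          push_cast
          ring_nf
        have hab4 : Commute (a ^ (4 * m)) (b ^ (4 * n)) := by
          show _ = _
          rw [comm_zpow ha hb hab, show 4 * m * (4 * n) = 2 * (8 * m * n) by ring, zpow_mul, zpow_ofNat, hc2,
            one_zpow, one_mul]
        rw [pow_mul, h4, hab4.mul_pow, ← zpow_natCast, ← zpow_natCast (b ^ (4 * n)), ← zpow_mul, ← zpow_mul]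
        push_cast
        ring_nf
      have e1 : a ^ (2 * (2 ^ p * i0)) * b ^ (2 * (2 ^ q * j0)) = c := by
        rw [← e0, sq, sq, ← zpow_add, ← zpow_add, two_mul, two_mul]
      obtain ⟨p', rfl⟩ := Nat.exists_eq_add_of_le' hp
      obtain ⟨q', rfl⟩ := Nat.exists_eq_add_of_le' hq
      rcases le_total p' q' with hle | hle
      · obtain ⟨d, rfl⟩ := Nat.exists_eq_add_of_le hle
        refine no (a ^ i0 * b ^ (2 ^ d * j0)) b ?_ ⟨((4 * 2 ^ p' : ℕ) : ℤ), ?_⟩
        · refine hg.top_le (mem_of_odd_zpow hS hi ?_) (subset_closure (by simp))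
          have := mul_mem (subset_closure (Set.mem_insert (a ^ i0 * b ^ (2 ^ d * j0)) {b}))
            (inv_mem (zpow_mem (subset_closure (by simp : b ∈ ({a ^ i0 * b ^ (2 ^ d * j0), b} : Set S)))
              (2 ^ d * j0)))
          simpa using this
        · show (a ^ i0 * b ^ (2 ^ d * j0)) ^ ((4 * 2 ^ p' : ℕ) : ℤ) = c
          rw [zpow_natCast, key, ← e1]
          congr 2 <;> ring
      · obtain ⟨d, rfl⟩ := Nat.exists_eq_add_of_le hle
        refine no (a ^ (2 ^ d * i0) * b ^ j0) a ?_ ⟨((4 * 2 ^ q' : ℕ) : ℤ), ?_⟩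
        · refine hg.top_le (subset_closure (by simp)) (mem_of_odd_zpow hS hj ?_)
          have := mul_mem (inv_mem (zpow_mem
            (subset_closure (by simp : a ∈ ({a ^ (2 ^ d * i0) * b ^ j0, a} : Set S))) (2 ^ d * i0)))
            (subset_closure (Set.mem_insert (a ^ (2 ^ d * i0) * b ^ j0) {a}))
          simpa using this
        · show (a ^ (2 ^ d * i0) * b ^ j0) ^ ((4 * 2 ^ q' : ℕ) : ℤ) = c
          rw [zpow_natCast, key, ← e1]
          congr 2 <;> ring

theorem no_bad [Finite S] (hS : IsPGroup 2 S) {x y a b c : S} (hcl : closure ({x, y} : Set S) = ⊤) (hxa : a = x ^ 2)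
    (hyb : b = y ^ 2) (hc1 : c ≠ 1) (hc2 : c ^ 2 = 1) (ha : Commute c a) (hb : Commute c b)
    (hab : a * b = c * (b * a)) (h22 : a ^ 2 * b ^ 2 = c) (hx : ∃ p q : ℤ, x * b * x⁻¹ = a ^ p * b ^ q)
    (hy : ∃ p q : ℤ, y * a * y⁻¹ = a ^ p * b ^ q) : False := by
  have hax : Commute x a := hxa ▸ Commute.self_pow x 2
  have hby : Commute y b := hyb ▸ Commute.self_pow y 2
  have hone : ∀ n : ℤ, c ^ n = 1 ∧ Even n ∨ c ^ n = c ∧ Odd n := fun n => by
    rcases Int.even_or_odd' n with ⟨k, rfl | rfl⟩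
    · exact Or.inl ⟨by rw [zpow_mul, zpow_ofNat, hc2, one_zpow], even_two_mul k⟩
    · exact Or.inr ⟨by rw [zpow_add, zpow_mul, zpow_ofNat, hc2, one_zpow, one_mul, zpow_one], odd_two_mul_add_one k⟩
  have haba : a * b * a⁻¹ * b⁻¹ = c := by rw [hab]; group
  obtain ⟨p, q, hpq⟩ := hx
  obtain ⟨r, s, hrs⟩ := hy
  have e1 : x * c * x⁻¹ = c ^ q := by
    calc x * c * x⁻¹ = a * (x * b * x⁻¹) * a⁻¹ * (x * b * x⁻¹)⁻¹ := by
          rw [← haba]
          calc x * (a * b * a⁻¹ * b⁻¹) * x⁻¹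
              = (x * a * x⁻¹) * (x * b * x⁻¹) * (x * a * x⁻¹)⁻¹ * (x * b * x⁻¹)⁻¹ := by group
            _ = _ := by rw [show x * a * x⁻¹ = a by rw [hax.eq]; group]
      _ = a ^ p * (a * b ^ q * a⁻¹ * (b ^ q)⁻¹) * (a ^ p)⁻¹ := by rw [hpq]; group
      _ = c ^ q := by
        have h1 := comm_zpow ha hb hab 1 q
        rw [zpow_one, one_mul] at h1
        rw [h1, show a ^ p * (c ^ q * (b ^ q * a) * a⁻¹ * (b ^ q)⁻¹) * (a ^ p)⁻¹ = a ^ p * c ^ q * (a ^ p)⁻¹ by group,
          ← (ha.zpow_zpow q p).eq, mul_inv_cancel_right]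
  have e2 : y * c * y⁻¹ = c ^ r := by
    calc y * c * y⁻¹ = (y * a * y⁻¹) * b * (y * a * y⁻¹)⁻¹ * b⁻¹ := by
          rw [← haba]
          calc y * (a * b * a⁻¹ * b⁻¹) * y⁻¹
              = (y * a * y⁻¹) * (y * b * y⁻¹) * (y * a * y⁻¹)⁻¹ * (y * b * y⁻¹)⁻¹ := by group
            _ = _ := by rw [show y * b * y⁻¹ = b by rw [hby.eq]; group]
      _ = a ^ r * b * (a ^ r)⁻¹ * b⁻¹ := by rw [hrs]; group
      _ = c ^ r := by
        have h1 := comm_zpow ha hb hab r 1
        rw [zpow_one, mul_one] at h1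
        rw [h1]; group
  have hq : Odd q ∧ x * c * x⁻¹ = c := by
    rcases hone q with ⟨h, -⟩ | ⟨h, h'⟩
    · exact absurd (by simpa using e1.trans h) hc1
    · exact ⟨h', e1.trans h⟩
  have hr : Odd r ∧ y * c * y⁻¹ = c := by
    rcases hone r with ⟨h, -⟩ | ⟨h, h'⟩
    · exact absurd (by simpa using e2.trans h) hc1
    · exact ⟨h', e2.trans h⟩
  have hxc : Commute x c := mul_inv_eq_iff_eq_mul.1 hq.2
  have hyc : Commute y c := mul_inv_eq_iff_eq_mul.1 hr.2
  have cen : ∀ {g : S}, Commute x g → Commute y g → g ∈ center S := fun {g} h1 h2 => by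
    refine mem_center_iff.2 fun t => mem_centralizer_singleton_iff.1 ?_
    rw [show t ∈ centralizer ({g} : Set S) ↔ t ∈ (centralizer {g} : Subgroup S) from Iff.rfl]
    refine (closure_le _).2 ?_ (hcl ▸ mem_top t)
    rintro u (rfl | rfl)
    · exact mem_centralizer_singleton_iff.2 h1
    · exact mem_centralizer_singleton_iff.2 h2
  have hb2 : b ^ 2 = (a ^ 2)⁻¹ * c := by rw [← h22, inv_mul_cancel_left]
  have ha2' : a ^ 2 = c * (b ^ 2)⁻¹ := by rw [← h22, mul_inv_cancel_right]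
  have za : a ^ 2 ∈ center S :=
    cen (hax.pow_right 2) (by rw [ha2']; exact hyc.mul_right (hby.pow_right 2).inv_right)
  have zb : b ^ 2 ∈ center S :=
    cen (by rw [hb2]; exact (hax.pow_right 2).inv_right.mul_right hxc) (hby.pow_right 2)
  have zc : c ∈ center S := cen hxc hyc
  set k := QuotientGroup.mk' (center S) with hk
  have k2 : k a ^ 2 = 1 ∧ k b ^ 2 = 1 ∧ k a * k b = k b * k a :=
    ⟨by rw [← map_pow]; exact (QuotientGroup.eq_one_iff _).2 za,
      by rw [← map_pow]; exact (QuotientGroup.eq_one_iff _).2 zb,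
      by rw [← map_mul, hab, map_mul, show k c = 1 from (QuotientGroup.eq_one_iff _).2 zc, one_mul, map_mul]⟩
  have kpow : ∀ {g : S}, k g ^ 2 = 1 → ∀ {n : ℤ}, (Even n → k g ^ n = 1) ∧ (Odd n → k g ^ n = k g) :=
    fun {g} hg {n} => ⟨by rintro ⟨w, rfl⟩; rw [← two_mul, zpow_mul, zpow_ofNat, hg, one_zpow],
      by rintro ⟨w, rfl⟩; rw [zpow_add, zpow_mul, zpow_ofNat, hg, one_zpow, one_mul, zpow_one]⟩
  have sqcase : ∀ {u v : S}, v ^ 2 ∈ center S → ∀ z ∈ center S, u * v * u⁻¹ = v * z →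
      u ^ 2 * v * (u ^ 2)⁻¹ * v⁻¹ = 1 := by
    intro u v hv z hz huv
    have zc' : ∀ g : S, Commute z g := fun g => (mem_center_iff.1 hz g).symm
    have hz2 : z ^ 2 = 1 := by
      have h1 : (u * v * u⁻¹) ^ 2 = v ^ 2 := by rw [conj_pow, mem_center_iff.1 hv u, mul_inv_cancel_right]
      rwa [huv, (zc' v).symm.mul_pow, mul_eq_left] at h1
    calc u ^ 2 * v * (u ^ 2)⁻¹ * v⁻¹ = u * (u * v * u⁻¹) * u⁻¹ * v⁻¹ := by rw [sq]; group
      _ = u * (v * z) * u⁻¹ * v⁻¹ := by rw [huv]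
      _ = (u * v * u⁻¹) * (u * z * u⁻¹) * v⁻¹ := by group
      _ = v * z ^ 2 * v⁻¹ := by
        rw [show u * z * u⁻¹ = z by rw [← (zc' u).eq, mul_inv_cancel_right], huv, sq]; group
      _ = 1 := by rw [hz2]; group
  rcases Int.even_or_odd p with hp | hp
  · have hz : b⁻¹ * (x * b * x⁻¹) ∈ center S := by
      rw [← QuotientGroup.eq_one_iff, ← QuotientGroup.mk'_apply, ← hk, hpq, map_mul, map_mul, map_inv, map_zpow,
        map_zpow, (kpow k2.1).1 hp, (kpow k2.2.1).2 hq.1, one_mul, inv_mul_cancel]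
    have := sqcase (u := x) zb _ hz (by group)
    rw [← hxa, haba] at this
    exact hc1 this
  rcases Int.even_or_odd s with hs | hs
  · have hz : a⁻¹ * (y * a * y⁻¹) ∈ center S := by
      rw [← QuotientGroup.eq_one_iff, ← QuotientGroup.mk'_apply, ← hk, hrs, map_mul, map_mul, map_inv, map_zpow,
        map_zpow, (kpow k2.1).2 hr.1, (kpow k2.2.1).1 hs, mul_one, inv_mul_cancel]
    have := sqcase (u := y) za _ hz (by group)
    rw [← hyb] at this
    refine hc1 ?_
    calc c = (b * a * b⁻¹ * a⁻¹)⁻¹ := by rw [← haba]; group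
      _ = 1 := by rw [this, inv_one]
  obtain ⟨A, B, hA, hB⟩ : ∃ A B, k a = A ∧ k b = B := ⟨_, _, rfl, rfl⟩
  rw [hA, hB] at k2
  obtain ⟨kA, kB, kAB⟩ := k2
  have fx : k x * B * (k x)⁻¹ = A * B := by
    rw [← hB, ← map_inv, ← map_mul, ← map_mul, hpq, map_mul, map_zpow, map_zpow, (kpow (hA ▸ kA)).2 hp,
      (kpow (hB ▸ kB)).2 hq.1, hA, hB]
  have fy : k y * A * (k y)⁻¹ = A * B := by
    rw [← hA, ← map_inv, ← map_mul, ← map_mul, hrs, map_mul, map_zpow, map_zpow, (kpow (hA ▸ kA)).2 hr.1,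
      (kpow (hB ▸ kB)).2 hs, hA, hB]
  have gx : k x * A * (k x)⁻¹ = A := by rw [← hA, (hax.map k).eq, mul_inv_cancel_right]
  have gy : k y * B * (k y)⁻¹ = B := by rw [← hB, (hby.map k).eq, mul_inv_cancel_right]
  set w := k x * k y with hw
  have w1 : w * A * w⁻¹ = B := by
    calc w * A * w⁻¹ = k x * (k y * A * (k y)⁻¹) * (k x)⁻¹ := by rw [hw]; group
      _ = (k x * A * (k x)⁻¹) * (k x * B * (k x)⁻¹) := by rw [fy]; group
      _ = B := by rw [gx, fx, ← mul_assoc, ← sq, kA, one_mul]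
  have w2 : w * B * w⁻¹ = A * B := by
    calc w * B * w⁻¹ = k x * (k y * B * (k y)⁻¹) * (k x)⁻¹ := by rw [hw]; group
      _ = A * B := by rw [gy, fx]
  have w3 : w ^ 3 * A * (w ^ 3)⁻¹ = A := by
    calc w ^ 3 * A * (w ^ 3)⁻¹ = w * (w * (w * A * w⁻¹) * w⁻¹) * w⁻¹ := by rw [pow_succ, pow_succ, pow_one]; group
      _ = w * (A * B) * w⁻¹ := by rw [w1, w2]
      _ = (w * A * w⁻¹) * (w * B * w⁻¹) := by group
      _ = A := by rw [w1, w2, ← mul_assoc, ← kAB, mul_assoc, ← sq, kB, mul_one]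
  obtain ⟨n, hn⟩ := IsPGroup.iff_orderOf.1 (hS.to_quotient (center S)) w
  have hw1 : w ∈ centralizer ({A} : Set (S ⧸ center S)) := by
    have h3 : w ^ 3 ∈ centralizer ({A} : Set (S ⧸ center S)) :=
      mem_centralizer_singleton_iff.2 (mul_inv_eq_iff_eq_mul.1 w3)
    obtain ⟨u, v, e⟩ : IsCoprime (3 : ℤ) ((2 : ℤ) ^ n) := IsCoprime.pow_right ⟨1, -1, by norm_num⟩
    have h2 : w ^ ((2 : ℤ) ^ n) = 1 := by
      rw [show ((2 : ℤ) ^ n) = ((2 ^ n : ℕ) : ℤ) by push_cast; rfl, zpow_natCast, ← hn, pow_orderOf_eq_one]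
    have : w = (w ^ 3) ^ u := by
      rw [← zpow_natCast, ← zpow_mul, mul_comm]
      conv_lhs => rw [← zpow_one w, ← e, zpow_add, mul_comm v, zpow_mul w ((2 : ℤ) ^ n), h2, one_zpow, mul_one]
      norm_num
    rw [this]
    exact zpow_mem h3 u
  have hAB' : A = B := by rw [← w1, mem_centralizer_singleton_iff.1 hw1, mul_inv_cancel_right]
  rw [← hA, ← hB] at hAB'
  have hz : a⁻¹ * b ∈ center S := by
    rw [← QuotientGroup.eq_one_iff, ← QuotientGroup.mk'_apply, ← hk, map_mul, map_inv, hAB', inv_mul_cancel]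
  apply hc1
  rw [← haba, show b = a * (a⁻¹ * b) by group]
  have := mem_center_iff.1 hz a
  calc a * (a * (a⁻¹ * b)) * a⁻¹ * (a * (a⁻¹ * b))⁻¹
      = a * ((a * (a⁻¹ * b)) * a⁻¹) * (a⁻¹ * b)⁻¹ * a⁻¹ := by group
    _ = 1 := by rw [this]; group

/-- the Frattini subgroup of a bicyclic 2-group is metacyclic -/
theorem Gen.phi_meta [Finite S] (hS : IsPGroup 2 S) {x y : S} (h : Gen x y) :
    Cfsg.IsMetacyclic (frattini S) := by
  haveI : Fact (Nat.Prime 2) := ⟨Nat.prime_two⟩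
  by_cases hcyc : IsCyclic S
  · exact meta_of_cyclic inferInstance
  set F := frattini S with hF
  have hsq : ∀ g : S, g ^ 2 ∈ F := PGroups.pow_mem_frattini hS
  have hFn : F.Normal := inferInstance
  have nogen : ∀ g k : S, g ∈ F → closure ({g, k} : Set S) = ⊤ → False := fun g k hg hgk => by
    have h1 : zpowers k ⊔ F = ⊤ := top_le_iff.1 (hgk ▸ (closure_le _).2 (by
      rintro t (rfl | rfl)
      · exact mem_sup_right hg
      · exact mem_sup_left (mem_zpowers _)))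
    have h2 := frattini_nongenerating h1
    exact hcyc ⟨⟨k, fun g => mem_zpowers_iff.1 (h2 ▸ mem_top g)⟩⟩
  have heven : ∀ i j : ℤ, x ^ i * y ^ j ∈ F → Even i ∧ Even j := fun i j hij => by
    have red : ∀ (g : S) (i : ℤ), (g : S ⧸ F) ^ i = 1 ∧ Even i ∨ (g : S ⧸ F) ^ i = g ∧ Odd i := fun g i => by
      have h2 : (g : S ⧸ F) ^ 2 = 1 := by rw [← QuotientGroup.mk_pow]; exact (QuotientGroup.eq_one_iff _).2 (hsq g)
      rcases Int.even_or_odd' i with ⟨w, rfl | rfl⟩
      · exact Or.inl ⟨by rw [zpow_mul, zpow_ofNat, h2, one_zpow], even_two_mul w⟩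
      · exact Or.inr ⟨by rw [zpow_add, zpow_mul, zpow_ofNat, h2, one_zpow, one_mul, zpow_one],
          odd_two_mul_add_one w⟩
    have h1 : (x : S ⧸ F) ^ i * (y : S ⧸ F) ^ j = 1 := by
      rw [← QuotientGroup.mk_zpow, ← QuotientGroup.mk_zpow, ← QuotientGroup.mk_mul]
      exact (QuotientGroup.eq_one_iff _).2 hij
    rcases red x i with ⟨hi, hi'⟩ | ⟨hi, hi'⟩ <;> rcases red y j with ⟨hj, hj'⟩ | ⟨hj, hj'⟩ <;> rw [hi, hj] at h1
    · exact ⟨hi', hj'⟩
    · rw [one_mul] at h1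
      exact (nogen y x ((QuotientGroup.eq_one_iff _).1 h1) (Set.pair_comm y x ▸ h.closure_eq)).elim
    · rw [mul_one] at h1
      exact (nogen x y ((QuotientGroup.eq_one_iff _).1 h1) h.closure_eq).elim
    · rw [← QuotientGroup.mk_mul] at h1
      refine (nogen (x * y) y ((QuotientGroup.eq_one_iff _).1 h1)
        (h.top_le ?_ (subset_closure (by simp)))).elim
      simpa using mul_mem (subset_closure (Set.mem_insert (x * y) {y}))
        (inv_mem (subset_closure (by simp : y ∈ ({x * y, y} : Set S))))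
  set a : ↥F := ⟨x ^ 2, hsq x⟩ with had
  set b : ↥F := ⟨y ^ 2, hsq y⟩ with hbd
  have hgen : Gen a b := fun g => by
    obtain ⟨i, j, hg⟩ := h g.1
    obtain ⟨⟨i', rfl⟩, ⟨j', rfl⟩⟩ := heven i j (hg ▸ g.2)
    refine ⟨i', j', Subtype.ext ?_⟩
    show g.1 = (x ^ 2) ^ i' * (y ^ 2) ^ j'
    rw [hg, sq, sq, (Commute.refl x).mul_zpow, (Commute.refl y).mul_zpow, ← zpow_add, ← zpow_add]
  have hFp : IsPGroup 2 F := hS.to_subgroup F
  by_contra hm
  have hmQ : ¬ Cfsg.IsMetacyclic (↥F ⧸ low ↥F) := fun hq => hm (meta_lift _ rfl hFp _ le_rfl hq)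
  set π := QuotientGroup.mk' (low ↥F) with hπ
  set c := ⁅a, b⁆ with hcd
  have hcc : c ∈ commutator ↥F := by
    rw [_root_.commutator_def]; exact commutator_mem_commutator (mem_top a) (mem_top b)
  have hcl : ∀ t : ↥F, Commute (π c) (π t) := fun t => by
    refine commutatorElement_eq_one_iff_mul_comm.1 ?_
    rw [← map_commutatorElement]
    exact (QuotientGroup.eq_one_iff _).2 (mem_sup_left (commutator_mem_commutator hcc (mem_top t)))
  have hc2 : π c ^ 2 = 1 := by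
    rw [← map_pow]
    exact (QuotientGroup.eq_one_iff _).2 (mem_sup_right (subset_closure ⟨c, hcc, rfl⟩))
  have hab : π a * π b = π c * (π b * π a) := by
    rw [← map_mul, ← map_mul, ← map_mul, hcd, commutatorElement_def]; congr 1; group
  have hQgen := hgen.map π (QuotientGroup.mk'_surjective _)
  have hQp : IsPGroup 2 (↥F ⧸ low ↥F) := hFp.to_quotient _
  obtain ⟨i, j, hi, hj, he⟩ := bad_case hQp hQgen (hcl a) (hcl b) hc2 hab hmQ
  -- transport into the quotient of the whole group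
  set N := (low ↥F).map F.subtype with hN
  have hNn : N.Normal := inferInstance
  set ψ : ↥F ⧸ low ↥F →* S ⧸ N := QuotientGroup.map (low ↥F) N F.subtype (le_comap_map _ _) with hψ
  have hψi : Function.Injective ψ := by
    rw [injective_iff_map_eq_one]
    intro q hq
    obtain ⟨g, rfl⟩ := QuotientGroup.mk_surjective q
    rw [hψ, QuotientGroup.map_mk, QuotientGroup.eq_one_iff] at hq
    obtain ⟨g', hg', e⟩ := hq
    exact (QuotientGroup.eq_one_iff _).2 (Subtype.ext e ▸ hg')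
  have hψa : ∀ g : ↥F, ψ (π g) = ((g : S) : S ⧸ N) := fun g => QuotientGroup.map_mk _ _ _ _ g
  have hcij : π c ^ (i * j) = π c := by
    obtain ⟨w, hw⟩ := hi.mul hj
    rw [hw, zpow_add, zpow_mul, zpow_ofNat, hc2, one_zpow, one_mul, zpow_one]
  have hab' : π a ^ i * π b ^ j = π c * (π b ^ j * π a ^ i) := by
    rw [comm_zpow (hcl a) (hcl b) hab i j, hcij]
  have hQgen' : Gen (π a ^ i) (π b ^ j) := hQgen.odd_pow hQp hi hj
  have hmem : ∀ g : S, g ∈ F → ∃ p q : ℤ, (g : S ⧸ N) = ψ (π a ^ i) ^ p * ψ (π b ^ j) ^ q := fun g hg => by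
    obtain ⟨p, q, e⟩ := hQgen' (π ⟨g, hg⟩)
    exact ⟨p, q, by rw [← map_zpow ψ, ← map_zpow ψ, ← map_mul ψ, ← e, hψa]⟩
  have key : ∀ (g : S) (g' : ↥F) (n : ℤ), (g' : S) = g ^ 2 → ψ (π g' ^ n) = ((g : S ⧸ N) ^ n) ^ 2 :=
    fun g g' n e => by
      rw [map_zpow, hψa, e, QuotientGroup.mk_pow, ← zpow_natCast, ← zpow_mul, mul_comm, zpow_mul, zpow_natCast]
  have h2 := h.odd_pow hS hi hj
  have hcl' : closure ({(x : S ⧸ N) ^ i, (y : S ⧸ N) ^ j} : Set (S ⧸ N)) = ⊤ := by
    have := (h2.map (QuotientGroup.mk' N) (QuotientGroup.mk'_surjective _)).closure_eq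
    simpa using this
  refine no_bad (hS.to_quotient N) hcl' (key x a i rfl) (key y b j rfl) (c := ψ (π c)) ?_ ?_ ?_ ?_ ?_ ?_ ?_ ?_
  · intro h1
    have h1' : π c = 1 := hψi (h1.trans (map_one _).symm)
    have hcm : Commute (π a) (π b) := by show _ = _; rw [hab, h1', one_mul]
    refine hmQ (meta_of hQgen.closure_eq ?_)
    rw [_root_.commutator_def, commutator_le]
    intro s _ t _
    obtain ⟨p, q, rfl⟩ := hQgen s
    obtain ⟨p', q', rfl⟩ := hQgen t
    rw [commutatorElement_eq_one_iff_mul_comm.2 ((((Commute.refl _).zpow_zpow p p').mul_right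
      (hcm.zpow_zpow p q')).mul_left ((hcm.symm.zpow_zpow q p').mul_right ((Commute.refl _).zpow_zpow q q'))).eq]
    exact one_mem _
  · rw [← map_pow, hc2, map_one]
  · exact ((hcl a).zpow_right i).map ψ
  · exact ((hcl b).zpow_right j).map ψ
  · rw [← map_mul, ← map_mul, ← map_mul, hab']
  · rw [← map_pow, ← map_pow, ← map_mul, he]
  · rw [key y b j rfl]
    obtain ⟨p, q, e⟩ := hmem (x ^ i * (y ^ j) ^ 2 * (x ^ i)⁻¹) (hFn.conj_mem _ (hsq _) _)
    refine ⟨p, q, ?_⟩
    rw [← key y b j rfl, ← e, key y b j rfl]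
    simp only [QuotientGroup.mk_mul, QuotientGroup.mk_inv, QuotientGroup.mk_zpow, QuotientGroup.mk_pow]
  · rw [key x a i rfl]
    obtain ⟨p, q, e⟩ := hmem (y ^ j * (x ^ i) ^ 2 * (y ^ j)⁻¹) (hFn.conj_mem _ (hsq _) _)
    refine ⟨p, q, ?_⟩
    rw [← key x a i rfl, ← e, key x a i rfl]
    simp only [QuotientGroup.mk_mul, QuotientGroup.mk_inv, QuotientGroup.mk_zpow, QuotientGroup.mk_pow]

/-- consequences: subgroups of the Frattini subgroup need two generators and contain no `E8` -/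
theorem Gen.sub_meta [Finite S] (hS : IsPGroup 2 S) {x y : S} (h : Gen x y) {H : Subgroup S}
    (hH : H ≤ frattini S) : Cfsg.IsMetacyclic H :=
  PGroups.MetaOmega.meta_surjective (subgroupOfEquivOfLe hH).toMonoidHom (MulEquiv.surjective _)
    (PGroups.MetaOmega.meta_subgroup _ (h.phi_meta hS))

theorem Gen.card_le_four [Finite S] (hS : IsPGroup 2 S) {x y : S} (h : Gen x y) {H : Subgroup S}
    (hH : H ≤ frattini S) (hsq : ∀ g ∈ H, g ^ 2 = 1) : Nat.card H ≤ 4 :=
  meta_card_le_four (h.sub_meta hS hH) fun g => Subtype.ext (hsq g.1 g.2)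

theorem Gen.two_gen [Finite S] (hS : IsPGroup 2 S) {x y : S} (h : Gen x y) {H : Subgroup S}
    (hH : H ≤ frattini S) : ∃ g k : S, closure ({g, k} : Set S) = H := by
  obtain ⟨g, k, e⟩ := meta_two_gen (h.sub_meta hS hH)
  refine ⟨g, k, ?_⟩
  have := congrArg (Subgroup.map H.subtype) e
  rw [MonoidHom.map_closure, Set.image_pair, ← MonoidHom.range_eq_map, range_subtype] at this
  exact this

end Cfsg.Lib.Bicyclic
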