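import Cfsg.Agent.PGroups.Bicyclic.Facts
import Cfsg.Agent.PGroups.Bicyclic.Auto
import Cfsg.Agent.PGroups.AutOrder
import Cfsg.Agent.Fusion.TwoSite

/-!
An essential site in a bicyclic 2-group: the automorphism has order 3, `R = [P, α]` and `C = C_P(α)`.
-/

set_option autoImplicit false
set_option linter.unusedSectionVars false
set_option linter.style.haveILetI false

namespace Cfsg.Lib.Bicyclic

open Subgroup
open scoped commutatorElement

universe u

variable {T : Type u} [Group T] [Finite T]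

/-- an automorphism of odd prime order acting trivially on the Frattini quotient is trivial -/
theorem eq_one_of_stab {P : Type u} [Group P] [Finite P] (hP : IsPGroup 2 P) {q : ℕ} (hq : q.Prime) (hq2 : q ≠ 2)
    (α : MulAut P) (hαq : α ^ q = 1) (h : ∀ x : P, α x * x⁻¹ ∈ frattini P) : α = 1 := by
  haveI : Fact (Nat.Prime 2) := ⟨Nat.prime_two⟩
  obtain ⟨n, hn⟩ := IsPGroup.iff_card.1 hP
  obtain ⟨r, hr⟩ := hP.index (frattini P)
  let St : Subgroup (MulAut P) :=
    { carrier := {β | ∀ x : P, β x * x⁻¹ ∈ frattini P}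
      one_mem' := fun x => by simp
      mul_mem' := fun {β γ} hβ hγ x => by
        rw [MulAut.mul_apply, show β (γ x) * x⁻¹ = β (γ x) * (γ x)⁻¹ * (γ x * x⁻¹) by group]
        exact mul_mem (hβ _) (hγ x)
      inv_mem' := fun {β} hβ x => by
        have := inv_mem (hβ (β⁻¹ x))
        rw [MulAut.apply_inv_self, mul_inv_rev, inv_inv] at this
        exact this }
  have hdvd := PGroups.card_stabilizing_dvd hn hr St fun β hβ => hβ
  have h1 : orderOf α ∣ Nat.card St := by
    rw [← Nat.card_zpowers]; exact card_dvd_of_le (zpowers_le.2 h)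
  rcases (Nat.dvd_prime hq).1 (orderOf_dvd_of_pow_eq_one hαq) with h2 | h2
  · exact orderOf_eq_one_iff.1 h2
  · exfalso
    rw [h2] at h1
    exact hq2 ((Nat.prime_dvd_prime_iff_eq hq Nat.prime_two).1 (hq.dvd_of_dvd_pow (h1.trans hdvd)))

/-- an elementary abelian 2-group generated by three elements has at most 8 elements -/
theorem card_le_eight {V : Type*} [CommGroup V] (hV : ∀ v : V, v * v = 1) (a b c : V)
    (h : closure ({a, b, c} : Set V) = ⊤) : Nat.card V ≤ 8 := by
  let f : Bool × Bool × Bool → V := fun u =>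
    (if u.1 then a else 1) * (if u.2.1 then b else 1) * (if u.2.2 then c else 1)
  have hf : Function.Surjective f := by
    intro v
    have hv : v ∈ closure ({a, b, c} : Set V) := h ▸ mem_top v
    induction hv using closure_induction with
    | mem y hy =>
      rcases hy with rfl | rfl | rfl
      · exact ⟨(true, false, false), by simp [f]⟩
      · exact ⟨(false, true, false), by simp [f]⟩
      · exact ⟨(false, false, true), by simp [f]⟩
    | one => exact ⟨(false, false, false), by simp [f]⟩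
    | mul p q _ _ hp hq =>
      obtain ⟨u, rfl⟩ := hp
      obtain ⟨w, rfl⟩ := hq
      refine ⟨(xor u.1 w.1, xor u.2.1 w.2.1, xor u.2.2 w.2.2), ?_⟩
      simp only [f]
      rw [mul_mul_mul_comm _ _ ((if w.1 then a else 1) * (if w.2.1 then b else 1)),
        mul_mul_mul_comm (if u.1 then a else 1)]
      cases u.1 <;> cases u.2.1 <;> cases u.2.2 <;> cases w.1 <;> cases w.2.1 <;> cases w.2.2 <;> simp [hV]
    | inv p _ hp =>
      rwa [inv_eq_of_mul_eq_one_right (hV p)]
  exact (Nat.card_le_card_of_surjective f hf).trans_eq (by simp)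

/-- The data at a site, after the reductions. -/
structure Data (T : Type u) [Group T] [Finite T] where
  hyp : Hyp T
  hnc : ¬ IsCyclic (commutator T)
  s : Fusion.TwoSite T
  α : MulAut s.P
  q : ℕ
  hq : q.Prime
  hq2 : q ≠ 2
  hαA : α ∈ s.A
  hαq : α ^ q = 1
  hα1 : α ≠ 1
  t : T
  ht : t ∈ normalizer (s.P : Set T)
  hinv : Fusion.conjAut s.P t ht * α * (Fusion.conjAut s.P t ht)⁻¹ = α⁻¹

theorem exists_data (H : Hyp T) (hnc : ¬ IsCyclic (commutator T)) (s : Fusion.TwoSite T) :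
    Nonempty (Data T) := by
  obtain ⟨q, hq, hq2, α, hα, t, ht, h1, h2, h3⟩ := s.odd
  exact ⟨⟨H, hnc, s, α, q, hq, hq2, hα, h1, h2, t, ht, h3⟩⟩

namespace Data

variable (D : Data T)

/-- the site -/
abbrev P : Subgroup T := D.s.P

theorem two_P : IsPGroup 2 D.P := D.hyp.two.to_subgroup _

/-- two elements of `P` outside `Φ` differ by an element of `Φ` -/
theorem two {p p' : T} (hp : p ∈ D.P) (hp' : p' ∈ D.P) (h : p ∉ frattini T) (h' : p' ∉ frattini T) :
    p * p' ∈ frattini T := by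
  by_contra hno
  refine D.s.ne_top (top_le_iff.1 ?_)
  rw [← D.hyp.gen_of h h' hno, closure_le]
  rintro _ (rfl | rfl) <;> assumption

theorem three_gen {K : Subgroup T} (hK : K ≤ D.P) :
    Nat.card (↥K ⧸ frattini K) ≤ 8 := by
  haveI : Fact (Nat.Prime 2) := ⟨Nat.prime_two⟩
  have hK2 : IsPGroup 2 K := D.hyp.two.to_subgroup _
  obtain ⟨g, k, hgk⟩ := D.hyp.gen.two_gen D.hyp.two (inf_le_right : K ⊓ frattini T ≤ frattini T)
  obtain ⟨p0, hp0, hp0'⟩ : ∃ p0 ∈ K, ∀ p ∈ K, p ∉ frattini T → p0⁻¹ * p ∈ frattini T := by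
    by_cases h : ∃ p0 ∈ K, p0 ∉ frattini T
    · obtain ⟨p0, h0, h0'⟩ := h
      exact ⟨p0, h0, fun p hp hp' => D.two (inv_mem (hK h0 : p0 ∈ D.P)) (hK hp : p ∈ D.P) (fun h => h0' (inv_mem_iff.1 (h : p0⁻¹ ∈ frattini T))) hp'⟩
    · push Not at h
      exact ⟨1, one_mem _, fun p hp hp' => absurd (h p hp) hp'⟩
  have hg : g ∈ K := (hgk ▸ subset_closure (by simp) : g ∈ K ⊓ frattini T).1
  have hk : k ∈ K := (hgk ▸ subset_closure (by simp) : k ∈ K ⊓ frattini T).1
  haveI := PGroups.isMulCommutative_quotient_frattini hK2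
  letI : CommGroup (↥K ⧸ frattini K) := { (inferInstance : Group (↥K ⧸ frattini K)) with
    mul_comm := (PGroups.isMulCommutative_quotient_frattini hK2).is_comm.comm }
  refine card_le_eight (fun v => by rw [← sq]; exact PGroups.pow_prime_quotient_frattini hK2 v)
    ((⟨g, hg⟩ : K) : ↥K ⧸ frattini K) ((⟨k, hk⟩ : K) : ↥K ⧸ frattini K) ((⟨p0, hp0⟩ : K) : ↥K ⧸ frattini K) ?_
  set M : Subgroup K := closure {⟨g, hg⟩, ⟨k, hk⟩, ⟨p0, hp0⟩}
  have hM : M = ⊤ := by
    refine top_le_iff.1 fun p _ => ?_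
    have hin : ∀ x, x ∈ K ⊓ frattini T → x ∈ M.map K.subtype := fun x hx => by
      have : closure ({g, k} : Set T) ≤ M.map K.subtype := (closure_le _).2 (by
        rintro _ (rfl | rfl)
        · exact ⟨⟨_, hg⟩, subset_closure (by simp), rfl⟩
        · exact ⟨⟨_, hk⟩, subset_closure (by simp), rfl⟩)
      exact this (hgk.symm ▸ hx)
    have key : (p : T) ∈ M.map K.subtype := by
      by_cases hp : (p : T) ∈ frattini T
      · exact hin _ ⟨p.2, hp⟩
      · have := mul_mem (show p0 ∈ M.map K.subtype from ⟨⟨p0, hp0⟩, subset_closure (by simp), rfl⟩)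
          (hin _ (Subgroup.mem_inf.2 ⟨mul_mem (inv_mem hp0) p.2, hp0' _ p.2 hp⟩))
        rwa [mul_inv_cancel_left] at this
    obtain ⟨m, hm, e⟩ := key
    exact Subtype.ext e ▸ hm
  have := congrArg (Subgroup.map (QuotientGroup.mk' (frattini K))) hM
  rw [MonoidHom.map_closure, Set.image_insert_eq, Set.image_pair,
    map_top_of_surjective _ (QuotientGroup.mk'_surjective _)] at this
  exact this

/-- an automorphism of odd order in the kernel is trivial; kernels are inner -/
theorem inner_of_stab (β : MulAut D.P) (hβ : β ∈ D.s.A) (h : ∀ x, β x * x⁻¹ ∈ frattini D.P) : β ∈ Inn D.P := by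
  haveI : Fact (Nat.Prime 2) := ⟨Nat.prime_two⟩
  obtain ⟨n, hn⟩ := IsPGroup.iff_card.1 D.two_P
  obtain ⟨r, hr⟩ := D.two_P.index (frattini D.P)
  let K : Subgroup (MulAut D.P) :=
    { carrier := {β | β ∈ D.s.A ∧ ∀ x : D.P, β x * x⁻¹ ∈ frattini D.P}
      one_mem' := ⟨one_mem _, fun x => by simp⟩
      mul_mem' := fun {β γ} hβ hγ => ⟨mul_mem hβ.1 hγ.1, fun x => by
        rw [MulAut.mul_apply, show β (γ x) * x⁻¹ = β (γ x) * (γ x)⁻¹ * (γ x * x⁻¹) by group]
        exact mul_mem (hβ.2 _) (hγ.2 x)⟩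
      inv_mem' := fun {β} hβ => ⟨inv_mem hβ.1, fun x => by
        have := inv_mem (hβ.2 (β⁻¹ x))
        rw [MulAut.apply_inv_self, mul_inv_rev, inv_inv] at this
        exact this⟩ }
  obtain ⟨j, -, hj⟩ := (Nat.dvd_prime_pow Nat.prime_two).1 (PGroups.card_stabilizing_dvd hn hr K fun β hβ => hβ.2)
  refine D.s.rad K (fun _ h => h.1) (IsPGroup.of_card hj) (fun a ha k hk => ⟨mul_mem (mul_mem ha hk.1) (inv_mem ha),
    fun x => ?_⟩) ⟨hβ, h⟩
  have h1 := (characteristic_iff_map_le.1 frattini_characteristic a) (mem_map_of_mem _ (hk.2 (a⁻¹ x)))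
  simpa using h1

/-- an element of `N(P)` inducing an inner automorphism lies in `P` -/
theorem mem_of_inner {g : T} (hg : g ∈ normalizer (D.P : Set T)) (h : Fusion.conjAut D.P g hg ∈ Inn D.P) :
    g ∈ D.P := by
  obtain ⟨p, hp⟩ := h
  have : (p : T)⁻¹ * g ∈ centralizer (D.P : Set T) := by
    refine mem_centralizer_iff.2 fun x hx => ?_
    have h1 : (p : T) * x * (p : T)⁻¹ = g * x * g⁻¹ :=
      congrArg (fun f : MulAut D.P => ((f ⟨x, hx⟩ : D.P) : T)) hp
    calc x * ((p : T)⁻¹ * g) = (p : T)⁻¹ * ((p : T) * x * (p : T)⁻¹) * g := by group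
      _ = (p : T)⁻¹ * g * x := by rw [h1]; group
  simpa using mul_mem p.2 (D.s.cent this)

/-- the order of the automorphism is 3 -/
theorem hα3 : D.α ^ 3 = 1 := by
  haveI : Fact (Nat.Prime 2) := ⟨Nat.prime_two⟩
  haveI : Fact D.q.Prime := ⟨D.hq⟩
  suffices D.q = 3 by rw [← this]; exact D.hαq
  have hP2 := D.two_P
  haveI := PGroups.isMulCommutative_quotient_frattini hP2
  set V := ↥D.P ⧸ frattini D.P
  letI : CommGroup V := { (inferInstance : Group V) with
    mul_comm := (PGroups.isMulCommutative_quotient_frattini hP2).is_comm.comm }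
  have hV2 : ∀ v : V, v * v = 1 := fun v => by rw [← sq]; exact PGroups.pow_prime_quotient_frattini hP2 v
  have hchar : ∀ β : MulAut D.P, (frattini D.P).map β.toMonoidHom = frattini D.P :=
    fun β => characteristic_iff_map_eq.1 frattini_characteristic β
  let ρ : MulAut D.P →* MulAut V :=
    { toFun := fun β => QuotientGroup.congr _ _ β (hchar β)
      map_one' := MulEquiv.ext fun v => by
        obtain ⟨x, rfl⟩ := QuotientGroup.mk_surjective v; rfl
      map_mul' := fun β γ => MulEquiv.ext fun v => by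
        obtain ⟨x, rfl⟩ := QuotientGroup.mk_surjective v; rfl }
  set a := ρ D.α with ha
  set τ := ρ (Fusion.conjAut D.P D.t D.ht) with hτ
  have ha1 : a ≠ 1 := fun h => D.hα1 (eq_one_of_stab hP2 D.hq D.hq2 _ D.hαq fun x => by
    rw [← QuotientGroup.eq_one_iff, QuotientGroup.mk_mul, QuotientGroup.mk_inv, mul_inv_eq_one]
    exact congrArg (fun f : MulAut V => f (x : V)) h)
  have haq : a ^ D.q = 1 := by rw [ha, ← map_pow, D.hαq, map_one]
  -- fixed points of `a`
  let Fx : MulAut V → Subgroup V := fun f => (f.toMonoidHom).eqLocus (MonoidHom.id V)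
  have hFx : ∀ f v, v ∈ Fx f ↔ f v = v := fun f v => Iff.rfl
  have hne : Fx a ≠ ⊤ := fun h => ha1 (MulEquiv.ext fun v => (hFx a v).1 (h ▸ mem_top v))
  have hz : IsPGroup D.q (zpowers a) := by
    refine IsPGroup.of_card (n := 1) ?_
    rw [Nat.card_zpowers, pow_one, orderOf_eq_prime haq ha1]
  have hmod := hz.card_modEq_card_fixedPoints V
  have hfix : Nat.card (MulAction.fixedPoints (zpowers a) V) = Nat.card (Fx a) := by
    refine Nat.card_congr (Equiv.subtypeEquivRight fun v => ?_)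
    refine ⟨fun h => h ⟨a, mem_zpowers a⟩, fun h g => ?_⟩
    obtain ⟨g, hg⟩ := g
    obtain ⟨i, rfl⟩ := mem_zpowers_iff.1 hg
    have : a ^ i ∈ MulAction.stabilizer (MulAut V) v := zpow_mem (show a ∈ _ from h) i
    exact this
  rw [hfix] at hmod
  have h8 : Nat.card V ≤ 8 := D.three_gen le_rfl
  obtain ⟨n, hn⟩ := IsPGroup.iff_card.1 (hP2.to_quotient (frattini D.P))
  obtain ⟨m, hm⟩ := IsPGroup.iff_card.1 ((hP2.to_quotient (frattini D.P)).to_subgroup (Fx a))
  have hlt : Nat.card (Fx a) < Nat.card V := by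
    refine lt_of_le_of_ne (card_le_card_group _) fun h => hne ((card_eq_iff_eq_top _).1 h)
  have hn3 : n ≤ 3 := by
    by_contra hn4
    have : 2 ^ 4 ≤ 2 ^ n := Nat.pow_le_pow_right two_pos (by omega)
    rw [← hn] at this
    change 16 ≤ Nat.card V at this
    omega
  change Nat.card V = 2 ^ n at hn
  rw [hm, hn, Nat.pow_lt_pow_iff_right (by norm_num)] at hlt
  rw [hm, hn] at hmod
  have hdvd := (Nat.modEq_iff_dvd' (Nat.pow_le_pow_right two_pos hlt.le)).1 hmod.symm
  have hcases : D.q = 3 ∨ (D.q = 7 ∧ n = 3 ∧ m = 0) := by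
    have hq := D.hq
    have hq2 := D.hq2
    rcases n with - | - | - | - | n
    · omega
    · obtain rfl : m = 0 := by omega
      norm_num at hdvd
      exact absurd hdvd hq.one_lt.ne'
    · obtain rfl | rfl : m = 0 ∨ m = 1 := by omega
      · norm_num at hdvd
        exact Or.inl ((Nat.prime_dvd_prime_iff_eq hq Nat.prime_three).1 hdvd)
      · norm_num at hdvd
        exact absurd ((Nat.prime_dvd_prime_iff_eq hq Nat.prime_two).1 hdvd) hq2
    · obtain rfl | rfl | rfl : m = 0 ∨ m = 1 ∨ m = 2 := by omega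
      · norm_num at hdvd
        exact Or.inr ⟨(Nat.prime_dvd_prime_iff_eq hq (by norm_num)).1 hdvd, rfl, rfl⟩
      · norm_num at hdvd
        rcases (Nat.Prime.dvd_mul hq).1 (show D.q ∣ 2 * 3 from hdvd) with h | h
        · exact absurd ((Nat.prime_dvd_prime_iff_eq hq Nat.prime_two).1 h) hq2
        · exact Or.inl ((Nat.prime_dvd_prime_iff_eq hq Nat.prime_three).1 h)
      · norm_num at hdvd
        exact absurd ((Nat.prime_dvd_prime_iff_eq hq Nat.prime_two).1
          (hq.dvd_of_dvd_pow (show D.q ∣ 2 ^ 2 from hdvd))) hq2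
    · omega
  rcases hcases with h | ⟨h7, rfl, rfl⟩
  · exact h
  exfalso
  have hbot : Fx a = ⊥ := Subgroup.card_eq_one.1 (by rw [hm, pow_zero])
  have hrel : τ * a * τ⁻¹ = a⁻¹ := by rw [hτ, ha, ← map_inv, ← map_mul, ← map_mul, D.hinv, map_inv]
  -- `a` is transitive on the seven non-trivial elements
  have orbit : ∀ v w : V, v ≠ 1 → w ≠ 1 → ∃ i : ℕ, (a ^ i) v = w := by
    intro v w hv hw
    have hinj : Function.Injective fun i : Fin 7 => (⟨(a ^ (i : ℕ)) v,
        (map_ne_one_iff _ (a ^ (i : ℕ)).injective).2 hv⟩ : {x : V // x ≠ 1}) := by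
      intro i j hij
      have e : (a ^ (i : ℕ)) v = (a ^ (j : ℕ)) v := congrArg Subtype.val hij
      by_contra hne'
      have hcop : ∀ d : ℕ, 0 < d → d < 7 → (a ^ d) v ≠ v := by
        intro d hd0 hd7 hd
        have h1 : a ^ d ∈ MulAction.stabilizer (MulAut V) v := hd
        have h2 : a ^ (7 : ℕ) ∈ MulAction.stabilizer (MulAut V) v := by rw [← h7, haq]; exact one_mem _
        have h3 : Nat.gcd d 7 = 1 := Nat.Coprime.symm ((Nat.Prime.coprime_iff_not_dvd (by norm_num)).2
          (Nat.not_dvd_of_pos_of_lt hd0 hd7))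
        have h4 : a ∈ MulAction.stabilizer (MulAut V) v := by
          have := Nat.gcd_eq_gcd_ab d 7
          rw [h3] at this
          rw [← zpow_one a, show (1 : ℤ) = (d : ℤ) * Nat.gcdA d 7 + ((7 : ℕ) : ℤ) * Nat.gcdB d 7 by
            exact_mod_cast this, zpow_add, zpow_mul, zpow_mul, zpow_natCast, zpow_natCast]
          exact mul_mem (zpow_mem h1 _) (zpow_mem h2 _)
        exact hv (by rw [← mem_bot, ← hbot]; exact h4)
      rcases lt_or_gt_of_ne (fun h => hne' (Fin.ext h) : (i : ℕ) ≠ j) with hlt' | hlt'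
      · refine hcop ((j : ℕ) - i) (by omega) (by omega) ((a ^ (i : ℕ)).injective ?_)
        rw [← MulAut.mul_apply, ← pow_add, show (i : ℕ) + (j - i) = j by omega, ← e]
      · refine hcop ((i : ℕ) - j) (by omega) (by omega) ((a ^ (j : ℕ)).injective ?_)
        rw [← MulAut.mul_apply, ← pow_add, show (j : ℕ) + (i - j) = i by omega, e]
    haveI := Fintype.ofFinite V
    classical
    have hb : Function.Bijective fun i : Fin 7 => (⟨(a ^ (i : ℕ)) v,
        (map_ne_one_iff _ (a ^ (i : ℕ)).injective).2 hv⟩ : {x : V // x ≠ 1}) := by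
      refine (Fintype.bijective_iff_injective_and_card _).2 ⟨hinj, ?_⟩
      rw [Fintype.card_fin, Fintype.card_subtype_compl, Fintype.card_subtype_eq, ← Nat.card_eq_fintype_card, hn]
      norm_num
    obtain ⟨i, hi⟩ := hb.2 ⟨w, hw⟩
    exact ⟨i, congrArg Subtype.val hi⟩
  have hN2 : IsPGroup 2 (normalizer (D.P : Set T)) := D.hyp.two.to_subgroup _
  obtain ⟨j, hj⟩ := hN2 ⟨D.t, D.ht⟩
  have hτj : τ ^ 2 ^ j = 1 := by
    rw [hτ, ← map_pow, show Fusion.conjAut D.P D.t D.ht ^ 2 ^ j = 1 by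
      show D.P.normalizerMonoidHom ⟨D.t, D.ht⟩ ^ 2 ^ j = 1
      rw [← map_pow, hj, map_one], map_one]
  have hτ2 : IsPGroup 2 (zpowers τ) := by
    obtain ⟨l, -, hl⟩ := (Nat.dvd_prime_pow Nat.prime_two).1 (orderOf_dvd_of_pow_eq_one hτj)
    exact IsPGroup.of_card (n := l) (by rw [Nat.card_zpowers, hl])
  obtain ⟨w, hw, hw1⟩ : ∃ w : V, (∀ g : zpowers τ, g • w = w) ∧ w ≠ 1 := by
    have hd : 2 ∣ Nat.card V := by rw [hn]; norm_num
    obtain ⟨w, hw, hw1⟩ := hτ2.exists_fixed_point_of_prime_dvd_card_of_fixed_point V hd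
      (a := (1 : V)) (fun g => map_one (g.1 : MulAut V))
    exact ⟨w, hw, hw1.symm⟩
  have hwτ : τ w = w := hw ⟨τ, mem_zpowers τ⟩
  have hconjp : ∀ i : ℕ, ∀ v, τ ((a ^ i) v) = (a⁻¹ ^ i) (τ v) := fun i v => by
    rw [← hrel, conj_pow, MulAut.mul_apply, MulAut.mul_apply, MulAut.inv_apply_self]
  have hττ : ∀ v, τ (τ v) = v := by
    intro v
    by_cases hv : v = 1
    · rw [hv, map_one, map_one]
    · obtain ⟨i, rfl⟩ := orbit w v hw1 hv
      rw [hconjp, hwτ, inv_pow]
      have h := hconjp i ((a ^ i)⁻¹ w)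
      rw [MulAut.apply_inv_self, hwτ, inv_pow] at h
      have h' : (a ^ i) w = τ ((a ^ i)⁻¹ w) := by
        nth_rewrite 1 [h]
        rw [MulAut.apply_inv_self]
      exact h'.symm
  have honly : ∀ v, τ v = v → v = 1 ∨ v = w := by
    intro v hv
    by_cases hv1 : v = 1
    · exact Or.inl hv1
    obtain ⟨i, rfl⟩ := orbit w v hw1 hv1
    right
    rw [hconjp, hwτ, inv_pow] at hv
    have h1 : a ^ (2 * i) ∈ MulAction.stabilizer (MulAut V) w := by
      show (a ^ (2 * i)) w = w
      rw [two_mul, pow_add, MulAut.mul_apply]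
      conv_lhs => rw [← hv]
      rw [MulAut.apply_inv_self]
    have h2 : a ^ (7 : ℕ) ∈ MulAction.stabilizer (MulAut V) w := by rw [← h7, haq]; exact one_mem _
    have h3 : a ^ i = (a ^ (2 * i)) ^ 4 * ((a ^ (7 : ℕ)) ^ i)⁻¹ := by
      rw [← pow_mul, ← pow_mul, eq_mul_inv_iff_mul_eq, ← pow_add]; congr 1; omega
    have : a ^ i ∈ MulAction.stabilizer (MulAut V) w := h3 ▸ mul_mem (pow_mem h1 _) (inv_mem (pow_mem h2 _))
    exact this
  -- the map `v ↦ v * τ v` has image and kernel in the fixed points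
  let d : V →* V :=
    { toFun := fun v => v * τ v
      map_one' := by simp
      map_mul' := fun v u => by rw [map_mul, mul_mul_mul_comm] }
  have hle2 : ∀ K : Subgroup V, (∀ v ∈ K, τ v = v) → Nat.card K ≤ 2 := by
    intro K hK
    classical
    refine (Nat.card_le_card_of_surjective (fun b : Bool => if h : b then (1 : K) else
      if hw' : w ∈ K then ⟨w, hw'⟩ else 1) fun k => ?_).trans (by simp)
    rcases honly k.1 (hK k.1 k.2) with h | h
    · exact ⟨true, Subtype.ext (by simp [h])⟩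
    · exact ⟨false, Subtype.ext (by simp [← h, k.2])⟩
  have hk := hle2 d.ker fun v hv => by
    have : v * τ v = 1 := hv
    rw [← mul_eq_left (a := v)] at *
    calc τ v = v * (v * τ v) := by rw [← mul_assoc, hV2, one_mul]
      _ = v := by rw [show v * τ v = 1 from hv, mul_one]
  have hr := hle2 d.range fun u ⟨v, hv⟩ => by
    rw [← hv]
    show τ (v * τ v) = v * τ v
    rw [map_mul, hττ, mul_comm]
  have := d.ker.card_mul_index
  rw [index_ker, hn] at this
  nlinarith

theorem hα3' (p : D.P) : D.α (D.α (D.α p)) = p := by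
  conv_rhs => rw [← MulAut.one_apply (M := D.P) p, ← D.hα3]
  rfl

/-- `[P, α]` -/
def R : Subgroup D.P := closure (Set.range fun p : D.P => p⁻¹ * D.α p)

/-- `C_P(α)` -/
def C : Subgroup D.P := D.α.toMonoidHom.eqLocus (MonoidHom.id D.P)

theorem mem_C {p : D.P} : p ∈ D.C ↔ D.α p = p := Iff.rfl

theorem delta_mem (p : D.P) : p⁻¹ * D.α p ∈ D.R := subset_closure ⟨p, rfl⟩

theorem R_normal : D.R.Normal := by
  refine ⟨fun r hr g => ?_⟩
  have : D.R ≤ D.R.comap (MulAut.conj g).toMonoidHom := by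
    rw [R, closure_le]
    rintro _ ⟨p, rfl⟩
    have h := mul_mem (D.delta_mem (p * g⁻¹)) (inv_mem (D.delta_mem g⁻¹))
    refine (?_ : g * (p⁻¹ * D.α p) * g⁻¹ ∈ D.R)
    convert h using 1
    rw [map_mul, map_inv]
    group
  exact this hr

theorem alpha_R {r : D.P} (hr : r ∈ D.R) : D.α r ∈ D.R := by
  have : D.R ≤ D.R.comap D.α.toMonoidHom := by
    rw [R, closure_le]
    rintro _ ⟨p, rfl⟩
    show D.α (p⁻¹ * D.α p) ∈ D.R
    rw [map_mul, map_inv]
    exact D.delta_mem _
  exact this hr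

/-- the restriction of the automorphism -/
def αR : MulAut D.R where
  toFun r := ⟨D.α r, D.alpha_R r.2⟩
  invFun r := ⟨D.α (D.α r), D.alpha_R (D.alpha_R r.2)⟩
  left_inv r := Subtype.ext (D.hα3' r)
  right_inv r := Subtype.ext (D.hα3' r)
  map_mul' r s := Subtype.ext (map_mul D.α r.1 s.1)

theorem αR_apply (r : D.R) : ((D.αR r : D.R) : D.P) = D.α r := rfl

/-- every element of `P` is a fixed element times an element of `R` -/
theorem decomp (p : D.P) : ∃ c ∈ D.C, ∃ r ∈ D.R, p = c * r := by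
  classical
  haveI : Fact (Nat.Prime 2) := ⟨Nat.prime_two⟩
  haveI := D.R_normal
  haveI : Fact (Nat.Prime 3) := ⟨Nat.prime_three⟩
  let X := {x : D.P // p⁻¹ * x ∈ D.R}
  have hmap : ∀ x : D.P, p⁻¹ * x ∈ D.R → p⁻¹ * D.α x ∈ D.R := fun x hx => by
    rw [show p⁻¹ * D.α x = (p⁻¹ * x) * (x⁻¹ * D.α x) by group]
    exact mul_mem hx (D.delta_mem x)
  let σ : Equiv.Perm X :=
    { toFun := fun x => ⟨D.α x.1, hmap _ x.2⟩
      invFun := fun x => ⟨D.α (D.α x.1), hmap _ (hmap _ x.2)⟩
      left_inv := fun x => Subtype.ext (D.hα3' x.1)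
      right_inv := fun x => Subtype.ext (D.hα3' x.1) }
  have hσ : σ ^ 3 ^ 1 = 1 := Equiv.ext fun x => Subtype.ext (D.hα3' x.1)
  haveI := Fintype.ofFinite X
  have hX : ¬ 3 ∣ Fintype.card X := by
    let e : X ≃ D.R :=
      { toFun := fun x => ⟨p⁻¹ * x.1, x.2⟩
        invFun := fun r => ⟨p * r.1, by simp⟩
        left_inv := fun x => Subtype.ext (mul_inv_cancel_left p x.1)
        right_inv := fun r => Subtype.ext (inv_mul_cancel_left p r.1) }
    obtain ⟨k, hk⟩ := IsPGroup.iff_card.1 (D.two_P.to_subgroup D.R)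
    rw [← Nat.card_eq_fintype_card, Nat.card_congr e, hk]
    intro h
    exact absurd ((Nat.prime_dvd_prime_iff_eq Nat.prime_three Nat.prime_two).1 (Nat.prime_three.dvd_of_dvd_pow h))
      (by norm_num)
  obtain ⟨x, hx⟩ := Equiv.Perm.exists_fixed_point_of_prime hX hσ
  refine ⟨x.1, congrArg Subtype.val hx, x.1⁻¹ * p, ?_, by rw [mul_inv_cancel_left]⟩
  have := inv_mem x.2
  rwa [mul_inv_rev, inv_inv] at this

theorem R_ne_bot : D.R ≠ ⊥ := fun h => D.hα1 (MulEquiv.ext fun p => by
  have := D.delta_mem p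
  rw [h, mem_bot, inv_mul_eq_one] at this
  exact this.symm)

theorem two_R : IsPGroup 2 D.R := D.two_P.to_subgroup _

/-- `α` has no fixed point on `R / Φ(R)` -/
theorem fpf (r : D.R) (h : D.αR r * r⁻¹ ∈ frattini D.R) : r ∈ frattini D.R := by
  haveI : Fact (Nat.Prime 2) := ⟨Nat.prime_two⟩
  haveI := PGroups.isMulCommutative_quotient_frattini D.two_R
  set V := ↥D.R ⧸ frattini D.R
  letI : CommGroup V := { (inferInstance : Group V) with
    mul_comm := (PGroups.isMulCommutative_quotient_frattini D.two_R).is_comm.comm }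
  set π := QuotientGroup.mk' (frattini D.R)
  set b : MulAut V := QuotientGroup.congr _ _ D.αR (characteristic_iff_map_eq.1 frattini_characteristic D.αR)
  let d : V →* V :=
    { toFun := fun v => b v * v⁻¹
      map_one' := by simp
      map_mul' := fun v w => by rw [map_mul, mul_inv, mul_mul_mul_comm] }
  have hsurj : Function.Surjective d := by
    rw [← MonoidHom.range_eq_top]
    have hgen : closure (Set.range fun s : D.R => s⁻¹ * D.αR s) = ⊤ := by
      have hle : D.R ≤ (closure (Set.range fun s : D.R => s⁻¹ * D.αR s)).map D.R.subtype := by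
        conv_lhs => rw [R]
        rw [closure_le]
        rintro _ ⟨p, rfl⟩
        obtain ⟨c, hc, s, hs, rfl⟩ := D.decomp p
        refine ⟨(⟨s, hs⟩ : D.R)⁻¹ * D.αR ⟨s, hs⟩, subset_closure ⟨_, rfl⟩, ?_⟩
        show s⁻¹ * D.α s = (c * s)⁻¹ * D.α (c * s)
        rw [map_mul, D.mem_C.1 hc]
        group
      refine top_le_iff.1 fun x _ => ?_
      obtain ⟨y, hy, e⟩ := hle x.2
      exact Subtype.ext e ▸ hy
    rw [← top_le_iff, ← map_top_of_surjective π (QuotientGroup.mk'_surjective _), ← hgen, MonoidHom.map_closure,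
      closure_le]
    rintro _ ⟨_, ⟨s, rfl⟩, rfl⟩
    exact ⟨π s, by show b (π s) * (π s)⁻¹ = _; rw [map_mul, map_inv, mul_comm]; rfl⟩
  have hinj := Finite.injective_iff_surjective.2 hsurj
  refine (QuotientGroup.eq_one_iff r).1 (hinj ?_)
  rw [map_one]
  show π (D.αR r) * (π r)⁻¹ = 1
  rw [← map_inv, ← map_mul]
  exact (QuotientGroup.eq_one_iff _).2 h

theorem αR_ne_one : D.αR ≠ 1 := fun h => D.R_ne_bot (by
  haveI : Fact (Nat.Prime 2) := ⟨Nat.prime_two⟩
  have htop : frattini D.R = ⊤ := top_le_iff.1 fun r _ => D.fpf r (by rw [h]; simp)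
  by_contra hne
  haveI : Nontrivial D.R := (Subgroup.nontrivial_iff_ne_bot _).2 hne
  have h2 := frattini_nongenerating (K := (⊥ : Subgroup D.R)) (by rw [htop, sup_top_eq])
  exact bot_ne_top h2)

theorem index_R : (frattini D.R).index = 4 := by
  haveI : Fact (Nat.Prime 2) := ⟨Nat.prime_two⟩
  haveI : Fact (Nat.Prime 3) := ⟨Nat.prime_three⟩
  haveI := PGroups.isMulCommutative_quotient_frattini D.two_R
  set V := ↥D.R ⧸ frattini D.R
  set b : MulAut V := QuotientGroup.congr _ _ D.αR (characteristic_iff_map_eq.1 frattini_characteristic D.αR)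
  have hz : IsPGroup 3 (zpowers b) := by
    rintro ⟨g, hg⟩
    obtain ⟨i, rfl⟩ := mem_zpowers_iff.1 hg
    have hb : b ^ (3 : ℕ) = 1 := MulEquiv.ext fun v => by
      obtain ⟨r, rfl⟩ := QuotientGroup.mk_surjective v
      exact congrArg (QuotientGroup.mk (s := frattini D.R)) (Subtype.ext (D.hα3' r.1))
    refine ⟨1, Subtype.ext ?_⟩
    show (b ^ i) ^ 3 ^ 1 = 1
    rw [pow_one, ← zpow_natCast, ← zpow_mul, mul_comm, zpow_mul, zpow_natCast, hb, one_zpow]
  have hmod := hz.card_modEq_card_fixedPoints V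
  have hfix : Nat.card (MulAction.fixedPoints (zpowers b) V) = 1 := by
    rw [Nat.card_eq_one_iff_exists]
    refine ⟨⟨1, fun g => map_one (g.1 : MulAut V)⟩, fun ⟨v, hv⟩ => Subtype.ext ?_⟩
    obtain ⟨r, rfl⟩ := QuotientGroup.mk_surjective v
    refine (QuotientGroup.eq_one_iff _).2 (D.fpf r ?_)
    rw [← QuotientGroup.eq_one_iff, QuotientGroup.mk_mul, QuotientGroup.mk_inv, mul_inv_eq_one]
    exact hv ⟨b, mem_zpowers b⟩
  rw [hfix] at hmod
  have h8 : Nat.card V ≤ 8 := by
    refine le_trans (le_of_eq ?_) (D.three_gen (map_subtype_le D.R))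
    set e := D.R.equivMapOfInjective D.P.subtype D.P.subtype_injective
    refine Nat.card_congr (QuotientGroup.congr _ _ e ?_).toEquiv
    refine le_antisymm ?_ ?_
    · rw [map_le_iff_le_comap]
      exact frattini_le_comap_frattini_of_surjective (φ := e.toMonoidHom) e.surjective
    · intro x hx
      exact ⟨e.symm x, frattini_le_comap_frattini_of_surjective (φ := e.symm.toMonoidHom) e.symm.surjective hx,
        e.apply_symm_apply x⟩
  obtain ⟨n, hn⟩ := IsPGroup.iff_card.1 (D.two_R.to_quotient (frattini D.R))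
  change Nat.card V = 2 ^ n at hn
  have hn1 : n ≠ 0 := by
    rintro rfl
    refine D.R_ne_bot ?_
    by_contra hne
    haveI : Nontrivial D.R := (Subgroup.nontrivial_iff_ne_bot _).2 hne
    have htop : frattini D.R = ⊤ := index_eq_one.1 (by rw [Subgroup.index_eq_card]; exact hn)
    exact bot_ne_top (frattini_nongenerating (K := (⊥ : Subgroup D.R)) (by rw [htop, sup_top_eq]))
  rw [Subgroup.index_eq_card]
  change Nat.card V = 4
  rw [hn] at hmod h8 ⊢
  have hn3 : n ≤ 3 := by
    by_contra hlt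
    have : 2 ^ 4 ≤ 2 ^ n := Nat.pow_le_pow_right two_pos (by omega)
    omega
  interval_cases n <;> first | omega | simp [Nat.ModEq] at hmod ⊢

theorem sq_phi {r : D.R} (hr : r ∈ frattini D.R) : ((r : D.P) : T) ∈ frattini T := by
  have : frattini D.R ≤ (frattini T).comap (D.P.subtype.comp D.R.subtype) :=
    (frattini_le_closure_sq D.two_R).trans ((closure_le _).2 (by
      rintro _ ⟨g, rfl⟩
      show (((g ^ 2 : D.R) : D.P) : T) ∈ frattini T
      rw [Subgroup.coe_pow, Subgroup.coe_pow]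
      exact D.hyp.sq_mem _))
  exact this hr

theorem shape : (∃ k, Homo k D.R) ∨ Quat D.R := by
  refine homo_or_quat D.two_R D.αR D.fpf (fun h => D.αR_ne_one ?_) D.index_R ?_
  · obtain ⟨k, hk⟩ := h D.αR
    have h3 : D.αR ^ 3 = 1 := MulEquiv.ext fun r => Subtype.ext (D.hα3' r.1)
    have hd1 := orderOf_dvd_of_pow_eq_one h3
    have hd2 := orderOf_dvd_of_pow_eq_one hk
    have hcop : Nat.Coprime 3 (2 ^ k) := (Nat.Coprime.pow_right _ (by norm_num))
    exact orderOf_eq_one_iff.1 (Nat.eq_one_of_dvd_one (hcop ▸ Nat.dvd_gcd hd1 hd2))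
  · set f := D.P.subtype.comp D.R.subtype with hf
    have hfi : Function.Injective f := D.P.subtype_injective.comp D.R.subtype_injective
    obtain ⟨g, k, hgk⟩ := D.hyp.gen.two_gen D.hyp.two
      (show (frattini D.R).map f ≤ frattini T from by rintro _ ⟨r, hr, rfl⟩; exact D.sq_phi hr)
    have hg : g ∈ (frattini D.R).map f := hgk ▸ subset_closure (by simp)
    have hk : k ∈ (frattini D.R).map f := hgk ▸ subset_closure (by simp)
    obtain ⟨g', -, rfl⟩ := hg
    obtain ⟨k', -, rfl⟩ := hk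
    refine ⟨g', k', map_injective hfi ?_⟩
    rw [MonoidHom.map_closure, Set.image_pair]
    exact hgk

/-- `P / R` is cyclic, generated by a fixed element -/
theorem exists_c : ∃ c ∈ D.C, ∀ p : D.P, ∃ i : ℤ, ∃ r ∈ D.R, p = c ^ i * r := by
  haveI : Fact (Nat.Prime 2) := ⟨Nat.prime_two⟩
  haveI := D.R_normal
  set Φ := frattini D.P
  have hRΦ : ∀ r : D.R, (r : D.P) ∈ Φ → r ∈ frattini D.R := by
    by_contra! hno
    obtain ⟨r0, hr0, hr0'⟩ := hno
    set K := Φ.subgroupOf D.R with hK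
    have hKinv : ∀ r ∈ K, D.αR r ∈ K := fun r hr =>
      (characteristic_iff_map_le.1 frattini_characteristic D.α) (mem_map_of_mem _ hr)
    have hΦK : frattini D.R ≤ K := (frattini_le_closure_sq D.two_R).trans ((closure_le _).2 (by
      rintro _ ⟨g, rfl⟩
      exact PGroups.pow_mem_frattini D.two_P _))
    have hKtop : K ≠ ⊤ := fun h => D.hα1 (eq_one_of_stab D.two_P D.hq D.hq2 _ D.hαq fun p => by
      have hmem : (⟨_, D.delta_mem p⟩ : D.R) ∈ K := h ▸ mem_top _
      have hc : p * (p⁻¹ * D.α p) * p⁻¹ ∈ Φ := (inferInstance : Φ.Normal).conj_mem _ hmem p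
      rwa [mul_inv_cancel_left] at hc)
    have hK2 : K.index = 2 := by
      have h1 := relIndex_mul_index hΦK
      rw [D.index_R] at h1
      have h2 : K.index ∣ 4 := Dvd.intro_left _ h1
      obtain ⟨j, hj, hj'⟩ := (Nat.dvd_prime_pow Nat.prime_two).1 (show K.index ∣ 2 ^ 2 from h2)
      interval_cases j
      · exact absurd (index_eq_one.1 hj') hKtop
      · exact hj'
      · exfalso
        rw [hj'] at h1
        have h3 : (frattini D.R).relIndex K = 1 := by
          refine Nat.eq_of_mul_eq_mul_right (show 0 < 2 ^ 2 by norm_num) ?_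
          rw [one_mul]; exact h1
        exact hr0' (relIndex_eq_one.1 h3 hr0)
    exact no_invariant D.two_R D.αR D.fpf K hK2 hKinv
  -- the Frattini quotient of `P / R` has order at most 2
  set Q := ↥D.P ⧸ D.R
  set ρ := QuotientGroup.mk' D.R
  have hρs : Function.Surjective ρ := QuotientGroup.mk'_surjective _
  have hcard : Nat.card (Q ⧸ frattini Q) ≤ 2 := by
    set N := D.R ⊔ Φ
    have h1 : Nat.card (↥D.P ⧸ Φ) ≤ 8 := D.three_gen le_rfl
    have h2 : Φ.relIndex N = 4 := by
      rw [show N = Φ ⊔ D.R from sup_comm _ _, Subgroup.relIndex_sup_left, Subgroup.relIndex, ← D.index_R]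
      congr 1
      refine le_antisymm (fun r hr => hRΦ r hr) ((frattini_le_closure_sq D.two_R).trans ((closure_le _).2 ?_))
      rintro _ ⟨g, rfl⟩
      exact PGroups.pow_mem_frattini D.two_P _
    have h3 : Φ.relIndex N * N.index = Φ.index := Subgroup.relIndex_mul_index le_sup_right
    rw [h2, Subgroup.index_eq_card Φ] at h3
    have h4 : N.index ≤ 2 := by omega
    refine le_trans ?_ h4
    rw [← Subgroup.index_eq_card, ← index_comap_of_surjective (frattini Q) hρs]
    have hle : N ≤ (frattini Q).comap ρ := by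
      refine sup_le (fun r hr => ?_) (frattini_le_comap_frattini_of_surjective hρs)
      show ρ r ∈ frattini Q
      rw [show ρ r = 1 from (QuotientGroup.eq_one_iff r).2 hr]
      exact one_mem _
    exact Nat.le_of_dvd (Nat.pos_of_ne_zero Subgroup.index_ne_zero_of_finite) (Subgroup.index_dvd_of_le hle)
  haveI : IsCyclic (Q ⧸ frattini Q) := by
    obtain ⟨j, hj⟩ := IsPGroup.iff_card.1 ((D.two_P.to_quotient D.R).to_quotient (frattini Q))
    rcases j with - | - | j
    · haveI : Subsingleton (Q ⧸ frattini Q) := (Nat.card_eq_one_iff_unique.1 hj).1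
      infer_instance
    · exact isCyclic_of_prime_card (p := 2) hj
    · change Nat.card (Q ⧸ frattini Q) = _ at hj
      rw [hj, pow_succ, pow_succ] at hcard
      have := Nat.two_pow_pos j
      omega
  haveI : IsCyclic Q := PGroups.isCyclic_of_isCyclic_quotient_frattini
  obtain ⟨g0, hg0⟩ := IsCyclic.exists_zpow_surjective (G := Q)
  obtain ⟨g, rfl⟩ := hρs g0
  obtain ⟨c, hc, r0, hr0, rfl⟩ := D.decomp g
  refine ⟨c, hc, fun p => ?_⟩
  obtain ⟨i, hi⟩ := hg0 (ρ p)
  refine ⟨i, (c ^ i)⁻¹ * p, ?_, by rw [mul_inv_cancel_left]⟩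
  have : ρ (c * r0) = ρ c := by
    rw [map_mul, show ρ r0 = 1 from (QuotientGroup.eq_one_iff r0).2 hr0, mul_one]
  rw [this] at hi
  exact QuotientGroup.eq.1 ((QuotientGroup.mk_zpow D.R c i).trans hi)

/-- conjugation by `t` -/
def tau : MulAut D.P := Fusion.conjAut D.P D.t D.ht

theorem tau_coe (p : D.P) : ((D.tau p : D.P) : T) = D.t * p * D.t⁻¹ := rfl

theorem tau_alpha (p : D.P) : D.tau (D.α p) = D.α⁻¹ (D.tau p) := by
  rw [← D.hinv]
  simp [tau]

theorem tau_R {r : D.P} (hr : r ∈ D.R) : D.tau r ∈ D.R := by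
  have : D.R ≤ D.R.comap D.tau.toMonoidHom := by
    conv_lhs => rw [R]
    rw [closure_le]
    rintro _ ⟨p, rfl⟩
    show D.tau (p⁻¹ * D.α p) ∈ D.R
    rw [map_mul, map_inv, D.tau_alpha]
    have := inv_mem (D.delta_mem (D.α⁻¹ (D.tau p)))
    rwa [mul_inv_rev, inv_inv, MulAut.apply_inv_self] at this
  exact this hr

theorem tau_C {p : D.P} (hp : p ∈ D.C) : D.tau p ∈ D.C := by
  rw [mem_C]
  have h := D.tau_alpha p
  rw [D.mem_C.1 hp] at h
  calc D.α (D.tau p) = D.α (D.α⁻¹ (D.tau p)) := by rw [← h]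
    _ = D.tau p := MulAut.apply_inv_self _ _ _

/-- `t` moves some element of `R` modulo `Φ(R)` -/
theorem tau_moves : ∃ r : D.R, (⟨D.tau r, D.tau_R r.2⟩ : D.R) * r⁻¹ ∉ frattini D.R := by
  by_contra! h
  haveI : Fact (Nat.Prime 2) := ⟨Nat.prime_two⟩
  set π := QuotientGroup.mk' (frattini D.R)
  have hτ : ∀ r : D.R, π ⟨D.tau r, D.tau_R r.2⟩ = π r := fun r => by
    rw [← mul_inv_eq_one, ← map_inv, ← map_mul]
    exact (QuotientGroup.eq_one_iff _).2 (h r)
  have h2 : ∀ r : D.R, r ∈ frattini D.R := fun r => by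
    have e1 := hτ (D.αR r)
    have e2 : (⟨D.tau (D.αR r), D.tau_R (D.αR r).2⟩ : D.R) =
        D.αR (D.αR ⟨D.tau r, D.tau_R r.2⟩) := Subtype.ext (by
      show D.tau (D.α r) = D.α (D.α (D.tau r))
      rw [D.tau_alpha]
      refine D.α.injective ?_
      rw [MulAut.apply_inv_self, D.hα3'])
    have e3 : ∀ a b : D.R, π a = π b → π (D.αR a) = π (D.αR b) := fun a b hab => by
      rw [QuotientGroup.mk'_apply, QuotientGroup.mk'_apply, QuotientGroup.eq] at hab ⊢
      rw [← map_inv, ← map_mul]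
      exact (characteristic_iff_map_le.1 frattini_characteristic D.αR) (mem_map_of_mem _ hab)
    rw [e2, e3 _ _ (e3 _ _ (hτ r))] at e1
    -- `α² ≡ α` forces `α ≡ 1`
    have h3 : π (D.αR (D.αR (D.αR (D.αR r)))) = π (D.αR (D.αR (D.αR r))) := e3 _ _ (e3 _ _ e1)
    have h4 : D.αR (D.αR (D.αR r)) = r := Subtype.ext (D.hα3' r.1)
    rw [h4] at h3
    refine D.fpf r ?_
    rw [← QuotientGroup.eq_one_iff, QuotientGroup.mk_mul, QuotientGroup.mk_inv, mul_inv_eq_one]
    exact h3
  have htop : frattini D.R = ⊤ := top_le_iff.1 fun r _ => h2 r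
  have hidx := D.index_R
  rw [htop, index_top] at hidx
  omega

end Data

end Cfsg.Lib.Bicyclic
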