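import Cfsg.Agent.PGroups.Bicyclic.SiteBasics

/-!
Common facts at a site of a bicyclic 2-group.
-/

set_option autoImplicit false
set_option linter.unusedSectionVars false
set_option linter.style.haveILetI false

namespace Cfsg.Lib.Bicyclic

open Subgroup
open scoped commutatorElement

universe u

variable {T : Type u} [Group T] [Finite T]

/-- the derived subgroup of a two-generated group lies in any normal subgroup containing the commutator -/
theorem commutator_le_of_gen {G : Type*} [Group G] {g h : G} (hgen : closure ({g, h} : Set G) = ⊤)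
    (N : Subgroup G) [N.Normal] (hgh : ⁅g, h⁆ ∈ N) : commutator G ≤ N := by
  refine Normal.quotient_commutative_iff_commutator_le.mp ⟨⟨fun p q => ?_⟩⟩
  set π := QuotientGroup.mk' N
  have hcm : Commute (π g) (π h) := by
    refine commutatorElement_eq_one_iff_mul_comm.1 ?_
    rw [← map_commutatorElement]
    exact (QuotientGroup.eq_one_iff _).2 hgh
  have hQ : closure ({π g, π h} : Set (G ⧸ N)) = ⊤ := by
    have := congrArg (Subgroup.map π) hgen
    rwa [MonoidHom.map_closure, Set.image_pair, map_top_of_surjective _ (QuotientGroup.mk'_surjective _)] at this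
  have h1 : (⊤ : Subgroup (G ⧸ N)) ≤ center _ := by
    rw [← hQ, closure_le]
    intro u hu
    refine mem_center_iff.2 fun v => ?_
    have : (⊤ : Subgroup (G ⧸ N)) ≤ centralizer {u} := by
      rw [← hQ, closure_le]
      intro v hv
      refine mem_centralizer_singleton_iff.2 ?_
      rcases hu with rfl | rfl <;> rcases hv with rfl | rfl
      · rfl
      · exact hcm.eq.symm
      · exact hcm.eq
      · rfl
    exact mem_centralizer_singleton_iff.1 (this (mem_top v))
  exact mem_center_iff.1 (h1 (mem_top q)) p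

namespace Data

variable (D : Data T)

/-- `Ω₁(T')` -/
abbrev W : Subgroup T := D.hyp.omega

theorem W_sq {w : T} (hw : w ∈ D.W) : w ^ 2 = 1 := hw.2

theorem card_W : Nat.card D.W = 4 := D.hyp.card_omega D.hnc

theorem W_phi {w : T} (hw : w ∈ D.W) : w ∈ frattini T := D.hyp.commutator_le_phi hw.1

theorem exists_W_ne (u : T) : ∃ w ∈ D.W, w ≠ 1 ∧ w ≠ u := by
  classical
  by_contra! h
  have hle : Nat.card D.W ≤ 2 := by
    refine (Nat.card_le_card_of_surjective (fun b : Bool =>
      if b then (1 : D.W) else if hu : u ∈ D.W then ⟨u, hu⟩ else 1) fun w => ?_).trans (by simp)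
    by_cases h1 : (w : T) = 1
    · exact ⟨true, Subtype.ext (by simp [h1])⟩
    · have h2 := h w.1 w.2 h1
      exact ⟨false, Subtype.ext (by simp [← h2, w.2])⟩
  have := D.card_W
  omega

theorem comm_of_phi {g : T} (hg : g ∈ frattini T) {w : T} (hw : w ∈ D.W) : Commute g w :=
  D.hyp.phi_comm_omega D.hnc hg hw

theorem R_phi_P (r : D.R) (h : (r : D.P) ∈ frattini D.P) : r ∈ frattini D.R := by
  haveI : Fact (Nat.Prime 2) := ⟨Nat.prime_two⟩
  by_contra hr0
  set K := (frattini D.P).subgroupOf D.R with hK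
  have hKinv : ∀ r ∈ K, D.αR r ∈ K := fun r hr =>
    (characteristic_iff_map_le.1 frattini_characteristic D.α) (mem_map_of_mem _ hr)
  have hΦK : frattini D.R ≤ K := (frattini_le_closure_sq D.two_R).trans ((closure_le _).2 (by
    rintro _ ⟨g, rfl⟩
    exact PGroups.pow_mem_frattini D.two_P _))
  have hKtop : K ≠ ⊤ := fun h => D.hα1 (eq_one_of_stab D.two_P D.hq D.hq2 _ D.hαq fun p => by
    have hmem : (⟨_, D.delta_mem p⟩ : D.R) ∈ K := h ▸ mem_top _
    have hc : p * (p⁻¹ * D.α p) * p⁻¹ ∈ frattini D.P :=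
      (inferInstance : (frattini D.P).Normal).conj_mem _ hmem p
    rwa [mul_inv_cancel_left] at hc)
  have h1 := relIndex_mul_index hΦK
  rw [D.index_R] at h1
  obtain ⟨j, hj, hj'⟩ := (Nat.dvd_prime_pow Nat.prime_two).1 (show K.index ∣ 2 ^ 2 from Dvd.intro_left _ h1)
  interval_cases j
  · exact hKtop (index_eq_one.1 hj')
  · exact no_invariant D.two_R D.αR D.fpf K hj' hKinv
  · rw [hj'] at h1
    have h3 : (frattini D.R).relIndex K = 1 := by
      refine Nat.eq_of_mul_eq_mul_right (show 0 < 2 ^ 2 by norm_num) ?_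
      rw [one_mul]; exact h1
    exact hr0 (relIndex_eq_one.1 h3 h)

/-- conjugation by an element of `P` is trivial on `R / Φ(R)` -/
theorem conj_R (p : D.P) (r : D.R) :
    ∃ φ : D.R, φ ∈ frattini D.R ∧ (φ : D.P) = p * r * p⁻¹ * (r : D.P)⁻¹ := by
  haveI : Fact (Nat.Prime 2) := ⟨Nat.prime_two⟩
  have hm : p * (r : D.P) * p⁻¹ * (r : D.P)⁻¹ ∈ D.R := mul_mem (D.R_normal.conj_mem _ r.2 p) (inv_mem r.2)
  refine ⟨⟨_, hm⟩, D.R_phi_P _ ?_, rfl⟩
  refine PGroups.commutator_le_frattini D.two_P ?_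
  rw [_root_.commutator_def]
  exact commutator_mem_commutator (mem_top p) (mem_top (r : D.P))

/-- conjugation by `t` on `R` -/
noncomputable def tauR : MulAut D.R :=
  MulEquiv.ofBijective
    ({ toFun := fun r => ⟨D.tau r, D.tau_R r.2⟩
       map_one' := Subtype.ext (map_one D.tau)
       map_mul' := fun r s => Subtype.ext (map_mul D.tau r.1 s.1) } : D.R →* D.R)
    (Finite.injective_iff_bijective.1 fun _ _ h => Subtype.ext (D.tau.injective (congrArg Subtype.val h)))

theorem tauR_apply (r : D.R) : D.tauR r = ⟨D.tau r, D.tau_R r.2⟩ := rfl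

theorem tauR_phi {r : D.R} : D.tauR r ∈ frattini D.R ↔ r ∈ frattini D.R :=
  ⟨fun h => by
    have h1 := (characteristic_iff_map_le.1 frattini_characteristic (D.tauR⁻¹ : MulAut D.R)) (mem_map_of_mem _ h)
    rwa [show (D.tauR⁻¹ : MulAut D.R).toMonoidHom (D.tauR r) = r from MulAut.inv_apply_self _ D.tauR r] at h1,
    fun h => (characteristic_iff_map_le.1 frattini_characteristic D.tauR) (mem_map_of_mem _ h)⟩

/-- if `R` is not in `Φ(T)` then `t` moves the elements outside -/
theorem moves_a {a : D.R} (ha : ((a : D.P) : T) ∉ frattini T) :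
    (⟨D.tau a, D.tau_R a.2⟩ : D.R) * a⁻¹ ∉ frattini D.R := by
  haveI : Fact (Nat.Prime 2) := ⟨Nat.prime_two⟩
  intro hmem
  obtain ⟨r0, hr0⟩ := D.tau_moves
  set f := D.P.subtype.comp D.R.subtype with hf
  set K := (frattini T).comap f with hK
  have hΦK : frattini D.R ≤ K := fun r hr => D.sq_phi hr
  have hKtop : K ≠ ⊤ := fun h => ha (show a ∈ K from h ▸ mem_top a)
  have hK2 : K.index = 2 := by
    refine index_eq_two_iff.2 ⟨a, fun b => ?_⟩
    by_cases hb : b ∈ K
    · refine Or.inr ⟨hb, fun h => hKtop.elim ?_⟩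
      exact absurd (show a ∈ K by simpa using mul_mem (inv_mem hb) h) ha
    · refine Or.inl ⟨?_, hb⟩
      show f (b * a) ∈ frattini T
      rw [map_mul]
      exact D.two (b : D.P).2 (a : D.P).2 hb ha
  have hrel : (frattini D.R).relIndex K = 2 := by
    have h1 := relIndex_mul_index hΦK
    rw [D.index_R, hK2] at h1
    omega
  have hidx2 : ((frattini D.R).subgroupOf K).index = 2 := hrel
  let tR : D.R → D.R := fun r => ⟨D.tau r, D.tau_R r.2⟩
  have hK_tau : ∀ r ∈ K, tR r ∈ K := fun r hr => (inferInstance : (frattini T).Normal).conj_mem _ hr D.t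
  have hKfix : ∀ r ∈ K, tR r * r⁻¹ ∈ frattini D.R := by
    intro r hr
    have h1 : (⟨r, hr⟩ : K) ∈ (frattini D.R).subgroupOf K ↔ (⟨tR r, hK_tau r hr⟩ : K) ∈ (frattini D.R).subgroupOf K :=
      D.tauR_phi.symm
    exact (mul_mem_iff_of_index_two hidx2 (a := ⟨tR r, hK_tau r hr⟩) (b := (⟨r, hr⟩ : K)⁻¹)).2
      (by rw [inv_mem_iff]; exact h1.symm)
  -- then `t` is trivial on `R / Φ(R)`
  by_cases hr : r0 ∈ K
  · exact hr0 (hKfix r0 hr)
  · have hra : r0 * a⁻¹ ∈ K := (mul_mem_iff_of_index_two hK2).2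
      (iff_of_false hr fun h => ha (inv_mem_iff.1 h : a ∈ K))
    have h1 := hKfix _ hra
    apply hr0
    have h2 : tR r0 * r0⁻¹ = (tR (r0 * a⁻¹) * (r0 * a⁻¹)⁻¹) *
        ((r0 * a⁻¹) * (tR a * a⁻¹) * (r0 * a⁻¹)⁻¹) := by
      have e : tR r0 = tR (r0 * a⁻¹) * tR a := Subtype.ext (by
        show D.tau r0 = D.tau ((r0 : D.P) * (a : D.P)⁻¹) * D.tau a
        rw [← map_mul, inv_mul_cancel_right])
      rw [e]
      group
    show tR r0 * r0⁻¹ ∈ _
    rw [h2]
    exact mul_mem h1 ((inferInstance : (frattini D.R).Normal).conj_mem _ hmem _)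

/-- the commutator of `t` and an element -/
theorem tau_comm (p : D.P) : ((D.tau p * p⁻¹ : D.P) : T) ∈ commutator T := by
  rw [_root_.commutator_def]
  exact commutator_mem_commutator (mem_top D.t) (mem_top (p : T))

/-- if `a ∈ P ∖ Φ` centralises `W`, then `W` is central in `P` -/
theorem W_central {a : T} (ha : a ∈ D.P) (ha' : a ∉ frattini T) (hw : ∀ w ∈ D.W, Commute a w) :
    (∀ p ∈ D.P, ∀ w ∈ D.W, Commute p w) ∧ D.W ≤ D.P := by
  have h1 : ∀ p ∈ D.P, ∀ w ∈ D.W, Commute p w := fun p hp w hwW => by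
    by_cases hpΦ : p ∈ frattini T
    · exact D.comm_of_phi hpΦ hwW
    · have h := (D.comm_of_phi (D.two hp (inv_mem ha : a⁻¹ ∈ D.P) hpΦ fun h => ha' (inv_mem_iff.1 h)) hwW).mul_left
        (hw w hwW)
      rwa [inv_mul_cancel_right] at h
  exact ⟨h1, fun w hwW => D.s.cent (mem_centralizer_iff.2 fun p hp => (h1 p hp w hwW).eq)⟩

/-- growth of normalisers: if `P`-trivial normalising elements of `M` lie in `P`, then `M ≤ P` -/
theorem le_P_of_grow (M : Subgroup T)
    (h : ∀ q ∈ M, (∀ x ∈ M ⊓ D.P, q * x * q⁻¹ ∈ M ⊓ D.P) → q ∈ D.P) : M ≤ D.P := by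
  haveI : Fact (Nat.Prime 2) := ⟨Nat.prime_two⟩
  by_contra hM
  have hlt : M ⊓ D.P < M := lt_of_le_of_ne inf_le_left fun h => hM (inf_eq_left.1 h)
  have hT2 : IsPGroup 2 (⊤ : Subgroup T) := D.hyp.two.to_subgroup _
  have hg := Fusion.lt_inf_normalizer (S := (⊤ : Subgroup T)) hT2 hlt le_top
  obtain ⟨q, hq, hqn⟩ := SetLike.exists_of_lt hg
  have hqM : q ∈ M := (Subgroup.mem_inf.1 hq).1
  refine hqn (Subgroup.mem_inf.2 ⟨hqM, h q hqM fun x hx => ?_⟩)
  exact (mem_normalizer_iff.1 (Subgroup.mem_inf.1 hq).2 x).1 hx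

end Data

end Cfsg.Lib.Bicyclic
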